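import Cfsg.Agent.Lib.QuatBlocks.Count
import Cfsg.Agent.Lib.BlockRank.BrauerFeit
import Cfsg.Agent.Lib.BlockRank.Contribution
import Cfsg.Agent.Lib.BlockReg.Bounds
import Cfsg.Agent.Lib.BlockReg.Height

/-!
# The contributions at the identity and at the involution
-/

set_option autoImplicit false
set_option maxHeartbeats 1600000
set_option synthInstance.maxHeartbeats 400000

open scoped ComplexConjugate Classical
open Cfsg CfsgLib.Blocks CfsgLib.Blocks.Pairs CfsgLib.BlockRank CfsgLib.DihBlocks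
open CfsgLib.BlockReg (minExp tilde rInner)

namespace CfsgLib.QuatBlocks

universe u

variable {G : Type u} [Group G] [Fintype G] {M : Ideal AlgInt} [M.IsMaximal]
  [CharP (ResField M) 2] {B : Set (IrrCharacter G)}

/-- The scaled regular inner products of a block are integers with known two-parts. -/
theorem exists_regMatrix (hM : IsPModular 2 M) (hB : IsPBlock M B) :
    ∃ A : IrrCharacter G → IrrCharacter G → ℤ, ∀ χ ∈ B, ∀ ψ ∈ B,
      (A χ ψ : ℂ) = ((2 ^ blockDefect 2 B : ℕ) : ℂ) *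
          ((Nat.card G : ℂ)⁻¹ * regPair 2 (χ : G → ℂ) (ψ : G → ℂ)) ∧
      (2 : ℤ) ^ blockHeight 2 B (χ : G → ℂ) ∣ A χ ψ ∧
      (blockHeight 2 B (ψ : G → ℂ) ≠ 0 →
        (2 : ℤ) ^ (blockHeight 2 B (χ : G → ℂ) + 1) ∣ A χ ψ) ∧
      (blockHeight 2 B (ψ : G → ℂ) = 0 →
        ¬ (2 : ℤ) ^ (blockHeight 2 B (χ : G → ℂ) + 1) ∣ A χ ψ) ∧
      (χ = ψ → 0 < A χ ψ) := by
  have hadd := CfsgLib.BrauerFeit.defect_add_minExp hM hB
  choose z hz using fun χ ψ : IrrCharacter G =>
    CfsgLib.BlockReg.exists_int_classInner_tilde (p := 2) hM.1 χ ψ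
  refine ⟨fun χ ψ => z χ ψ / (2 : ℤ) ^ minExp 2 B, fun χ hχ ψ hψ => ?_⟩
  set k := minExp 2 B with hk
  have hkχ : k ≤ (charDegree (χ : G → ℂ)).factorization 2 := CfsgLib.BlockReg.minExp_le hχ
  have hkψ : k ≤ (charDegree (ψ : G → ℂ)).factorization 2 := CfsgLib.BlockReg.minExp_le hψ
  obtain ⟨hd1, hd2⟩ := CfsgLib.BlockReg.dvd_coeff_iff hM χ ψ (z χ ψ) (hz χ ψ)
  push_cast at hd1 hd2
  have hht : blockHeight 2 B (χ : G → ℂ) + k = (charDegree (χ : G → ℂ)).factorization 2 := by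
    rw [CfsgLib.BlockReg.blockHeight_eq]; omega
  obtain ⟨a, ha⟩ : (2 : ℤ) ^ k ∣ z χ ψ := (pow_dvd_pow 2 hkχ).trans hd1
  have hk0 : (2 : ℤ) ^ k ≠ 0 := pow_ne_zero _ two_ne_zero
  have hA : z χ ψ / (2 : ℤ) ^ k = a := by rw [ha, Int.mul_ediv_cancel_left _ hk0]
  have hdvd : ∀ j, (2 : ℤ) ^ j ∣ a ↔ (2 : ℤ) ^ (k + j) ∣ z χ ψ := fun j => by
    rw [ha, pow_add, mul_dvd_mul_iff_left hk0]
  simp only [hA]
  refine ⟨?_, ?_, fun hψ0 => ?_, fun hψ0 => ?_, ?_⟩
  · have h1 := hz χ ψ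
    rw [classInner_tilde_eq, ha, Int.cast_mul, ← hadd, pow_add] at h1
    push_cast at h1
    refine mul_left_cancel₀ (pow_ne_zero k (two_ne_zero : (2 : ℂ) ≠ 0)) ?_
    rw [← h1]
    push_cast
    ring
  · rw [hdvd, add_comm, hht]
    exact hd1
  · rw [hdvd, show k + (blockHeight 2 B (χ : G → ℂ) + 1) =
      (charDegree (χ : G → ℂ)).factorization 2 + 1 by omega, hd2]
    refine CfsgLib.BlockReg.rInner_memIdeal hM hB hχ ?_
    rw [CfsgLib.BlockReg.blockHeight_eq] at hψ0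
    omega
  · rw [hdvd, show k + (blockHeight 2 B (χ : G → ℂ) + 1) =
      (charDegree (χ : G → ℂ)).factorization 2 + 1 by omega, hd2]
    refine CfsgLib.BlockReg.rInner_not_memIdeal hM hB hψ hχ ?_
    rw [CfsgLib.BlockReg.blockHeight_eq] at hψ0
    omega
  · rintro rfl
    have hp := CfsgLib.BlockReg.coeff_self_pos (p := 2) hM.1 χ (z χ χ) (hz χ χ)
    rw [ha] at hp
    exact pos_of_mul_pos_right hp (pow_nonneg zero_le_two _)

variable {D : Subgroup G} {x y : G} {h : ℕ} {e : MonoidAlgebra (ResField M) G}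
  {T : Finset (Sec G)} {φ : Sec G → G}

namespace Quat

/-- The defect of the subsection at the involution. -/
theorem defect_z (hQ : Quat D x y h) (hM : IsPModular 2 M) {hB : IsPBlock M B}
    (hP : PairOf 2 (ebar hB) D e) (hno : NoExt 2 D e) (hT : SecData 2 M B D e T φ) {z : Sec G}
    (hz : z ∈ T) (hzi : idx x h (φ z) = h) : 2 ^ blockDefect 2 z.2 = 4 * h := by
  obtain ⟨g, hb, hg, hbelow⟩ := hT.below_eq hP hz
  have hv := hQ.idx_eq_h (hT.mem z hz) hzi
  have hzD : φ z ∈ D := hT.mem z hz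
  have hle := DihBlocks.sle_below hP.pair hzD
  obtain ⟨E₀, hE₀⟩ := exists_maxIn hM hb
  have hC : conjSub g (Subgroup.centralizer ({z.1} : Set G)) =
      Subgroup.centralizer ({φ z} : Set G) := by rw [← hg, centralizer_conj_singleton]
  have hE' := hE₀.conj g
  rw [hC, hbelow] at hE'
  have hfix : ConjFixed (Subgroup.centralizer ({φ z} : Set G))
      (DihBlocks.below D e (φ z)) :=
    (isBlockIdem_of_pairOf (DihBlocks.pairOf_below hP hzD)).mem.fixed
  obtain ⟨w, hw, hmw⟩ := exists_conj_maxIn hP hno hle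
    ((centralizer_zpowers_eq (φ z)).le.trans (Subgroup.centralizer_le_normalizer _))
    (centralizer_zpowers_eq (φ z)).ge hfix hE'
  have hwv : w * φ z * w⁻¹ = φ z := by
    have hwD : w * φ z * w⁻¹ ∈ D := hw.le (Subgroup.mem_map_of_mem _ (Subgroup.mem_zpowers _))
    rw [hQ.eq_z_of_orderOf_two hwD (by
      rw [show w * φ z * w⁻¹ = MulAut.conj w (φ z) from rfl, MulEquiv.orderOf_eq, hv,
        hQ.orderOf_z]), hv]
  have hwK : conjSub w (Subgroup.centralizer ({φ z} : Set G)) =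
      Subgroup.centralizer ({φ z} : Set G) := by
    rw [← centralizer_conj_singleton, hwv]
  have hDK : D ⊓ Subgroup.centralizer ({φ z} : Set G) = D := inf_eq_left.2 fun d hd => by
    rw [Subgroup.mem_centralizer_singleton_iff, hv]
    exact mul_inv_eq_iff_eq_mul.1 (hQ.z_comm hd)
  rw [hwK, hDK] at hmw
  have hm0 := hmw.conj (w * g)⁻¹
  have hwg : conjSub (w * g) (Subgroup.centralizer ({z.1} : Set G)) =
      Subgroup.centralizer ({φ z} : Set G) := by rw [← conjSub_conjSub, hC, hwK]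
  rw [show conjSub (w * g)⁻¹ (Subgroup.centralizer ({φ z} : Set G)) =
      Subgroup.centralizer ({z.1} : Set G) by
        rw [← hwg, conjSub_conjSub, inv_mul_cancel, conjSub_one],
    ← hbelow, conjA_conjA, conjA_conjA,
    show (w * g)⁻¹ * w * g = 1 by group, conjA_one] at hm0
  have hdef := isDefectGroup_subgroupOf hM hb hm0
  haveI := Fintype.ofFinite (Subgroup.centralizer ({z.1} : Set G))
  rw [← card_defectGroup hM hb hdef,
    Nat.card_congr (Subgroup.subgroupOfEquivOfLe hm0.le).toEquiv, card_map_conj, hQ.card]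

/-- The contribution of the involution at a character of height zero is at least one. -/
theorem one_le_contrib_z (hQ : Quat D x y h) (hM : IsPModular 2 M) [Fintype B] {hB : IsPBlock M B}
    (hP : PairOf 2 (ebar hB) D e) (hno : NoExt 2 D e) (hT : SecData 2 M B D e T φ) {z : Sec G}
    (hz : z ∈ T) (hzi : idx x h (φ z) = h) {d : ℕ} (hd : 2 ^ d = 4 * h) {χ : IrrCharacter G}
    (hχ : χ ∈ B) (h0 : (charDegree (χ : G → ℂ)).factorization 2 = minExp 2 B)
    (hnn : 0 ≤ (contrib 2 d z.1 z.2 χ χ).re) : 1 ≤ (contrib 2 d z.1 z.2 χ χ).re := by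
  haveI := Fintype.ofFinite z.2
  have hord : orderOf z.1 = 2 := by
    rw [← hT.orderOf_eq hz, hQ.idx_eq_h (hT.mem z hz) hzi, hQ.orderOf_z]
  have hind := hT.induced z hz
  have hdd : d + minExp 2 z.2 = (Nat.card (Subgroup.centralizer ({z.1} : Set G))).factorization 2 := by
    have h1 := hQ.defect_z hM hP hno hT hz hzi
    rw [← hd] at h1
    rw [← Nat.pow_right_injective le_rfl h1]
    exact CfsgLib.BrauerFeit.defect_add_minExp hM hind.1
  have hζ : IsPrimitiveRoot (-1 : ℂ) (orderOf z.1) := by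
    rw [hord]; exact IsPrimitiveRoot.neg_one 0 (by norm_num)
  obtain ⟨a, i, Z, -, hval, hodd⟩ := exists_contrib_form hM rfl hζ hind hdd
  let W : ℤ := ∑ φ' ∈ z.2.toFinset, ∑ θ ∈ z.2.toFinset,
    (a χ φ' : ℤ) * (a χ θ : ℤ) * Z φ' θ * ((-1) ^ i χ φ' * (-1) ^ i χ θ)
  have hW : contrib 2 d z.1 z.2 χ χ = (W : ℂ) := by
    rw [hval]
    simp only [cycloForm, W, Int.cast_sum, Int.cast_mul, Int.cast_natCast, Int.cast_pow,
      Int.cast_neg, Int.cast_one, map_pow, map_neg, map_one]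
  have hW0 : W ≠ 0 := by
    intro h1
    refine hodd χ hχ χ hχ h0 h0 ?_
    rw [← ZMod.intCast_zmod_eq_zero_iff_dvd]
    have h2 : ((W : ℤ) : ZMod 2) = 0 := by rw [h1, Int.cast_zero]
    rw [← h2]
    simp only [W, Int.cast_sum, Int.cast_mul, Int.cast_pow, Int.cast_neg, Int.cast_one,
      ZMod.neg_eq_self_mod_two, one_pow, mul_one]
  rw [hW, Complex.intCast_re] at hnn ⊢
  have h3 : (0 : ℤ) ≤ W := by exact_mod_cast hnn
  exact_mod_cast (by omega : (1 : ℤ) ≤ W)

end Quat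

end CfsgLib.QuatBlocks
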