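import Cfsg.Agent.Lib.QuatBlocks.Count
import Cfsg.Agent.Lib.BlockRank.AbelianRank
import Cfsg.Agent.S4528
import Cfsg.Agent.S4637

/-!
# A quaternion defect group over a central involution
-/

set_option autoImplicit false
set_option maxHeartbeats 1600000
set_option synthInstance.maxHeartbeats 400000

open scoped ComplexConjugate Classical
open Cfsg CfsgLib.Blocks CfsgLib.Blocks.Pairs CfsgLib.BlockRank CfsgLib.DihBlocks

namespace CfsgLib.QuatBlocks

universe u

/-! ### The image modulo the involution -/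

/-- The projection of a quaternion group to a dihedral group. -/
noncomputable def quatToDih (h : ℕ) : QuaternionGroup h →* DihedralGroup h :=
  MonoidHom.mk' (fun a => match a with
    | .a i => .r (ZMod.castHom (Dvd.intro_left 2 rfl) (ZMod h) i)
    | .xa i => .sr (ZMod.castHom (Dvd.intro_left 2 rfl) (ZMod h) i)) (by
    have hn : (ZMod.castHom (Dvd.intro_left 2 rfl : h ∣ 2 * h) (ZMod h))
        ((h : ℕ) : ZMod (2 * h)) = 0 := by
      rw [map_natCast, ZMod.natCast_self]
    intro a b
    cases a <;> cases b <;>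
      simp only [QuaternionGroup.a_mul_a, QuaternionGroup.a_mul_xa, QuaternionGroup.xa_mul_a,
        QuaternionGroup.xa_mul_xa, DihedralGroup.r_mul_r, DihedralGroup.r_mul_sr,
        DihedralGroup.sr_mul_r, DihedralGroup.sr_mul_sr, map_add, map_sub, hn, zero_add])

variable {G : Type u} [Group G]

/-- The image of `D` modulo its involution is dihedral or a four group. -/
theorem Quat.map_dihedral [Finite G] {D : Subgroup G} {x y : G} {h : ℕ} (hQ : Quat D x y h)
    (hc : x ^ h ∈ Subgroup.center G) (hiso : Nonempty (D ≃* QuaternionGroup h))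
    [(Subgroup.zpowers (x ^ h)).Normal] :
    Nonempty ((D.map (QuotientGroup.mk' (Subgroup.zpowers (x ^ h))) :
      Subgroup (G ⧸ Subgroup.zpowers (x ^ h))) ≃* DihedralGroup h) := by
  obtain ⟨φ⟩ := hiso
  haveI : NeZero h := ⟨by have := hQ.two_le; omega⟩
  haveI : NeZero (2 * h) := ⟨by have := hQ.two_le; omega⟩
  set N := Subgroup.zpowers (x ^ h) with hN
  let f : D →* G ⧸ N := (QuotientGroup.mk' N).comp D.subtype
  let g : D →* DihedralGroup h := (quatToDih h).comp φ.toMonoidHom
  have hrange : f.range = D.map (QuotientGroup.mk' N) := by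
    rw [MonoidHom.range_comp, Subgroup.range_subtype]
  have hg : Function.Surjective g := by
    refine Function.Surjective.comp (g := quatToDih h) ?_ φ.surjective
    intro a
    have hs := ZMod.castHom_surjective (Dvd.intro_left 2 rfl : h ∣ 2 * h)
    cases a with
    | r i => obtain ⟨j, rfl⟩ := hs i; exact ⟨QuaternionGroup.a j, rfl⟩
    | sr i => obtain ⟨j, rfl⟩ := hs i; exact ⟨QuaternionGroup.xa j, rfl⟩
  -- the two kernels
  have hzD : x ^ h ∈ D := pow_mem hQ.mem_x h
  have hker : f.ker = g.ker := by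
    have h1 : ∀ d : D, d ∈ g.ker ↔ (d : G) = 1 ∨ (d : G) = x ^ h := by
      intro d
      have hz : φ ⟨x ^ h, hzD⟩ = QuaternionGroup.a (h : ZMod (2 * h)) := by
        have ho : orderOf (φ ⟨x ^ h, hzD⟩) = 2 := by
          rw [MulEquiv.orderOf_eq, Subgroup.orderOf_mk, hQ.orderOf_z]
        rcases hc' : φ ⟨x ^ h, hzD⟩ with i | i
        · rw [hc', QuaternionGroup.orderOf_a] at ho
          have h2 := Nat.gcd_dvd_left (2 * h) i.val
          have h3 := ZMod.val_lt i
          have hg0 : (2 * h).gcd i.val = h := by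
            have := Nat.div_mul_cancel h2
            rw [ho] at this
            omega
          have h4 : h ∣ i.val := (dvd_of_eq hg0.symm).trans (Nat.gcd_dvd_right (2 * h) i.val)
          obtain ⟨c, hc''⟩ := h4
          have hc2 : c < 2 := by
            by_contra hcon
            have : h * 2 ≤ h * c := Nat.mul_le_mul_left h (by omega)
            omega
          interval_cases c
          · rw [hc'', mul_zero, Nat.gcd_zero_right] at hg0
            have := hQ.two_le
            omega
          · rw [← ZMod.natCast_zmod_val i, hc'', mul_one]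
        · rw [hc', QuaternionGroup.orderOf_xa] at ho
          omega
      rw [MonoidHom.mem_ker]
      constructor
      · intro hd
        rcases hd' : φ d with i | i
        · have h5 : ZMod.castHom (Dvd.intro_left 2 rfl : h ∣ 2 * h) (ZMod h) i = 0 := by
            have h6 : quatToDih h (φ d) = 1 := hd
            rw [hd'] at h6
            exact DihedralGroup.r.inj h6
          rw [← ZMod.natCast_zmod_val i, map_natCast, ZMod.natCast_eq_zero_iff] at h5
          obtain ⟨c, hc''⟩ := h5
          have h3 := ZMod.val_lt i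
          have hc2 : c < 2 := by
            by_contra hcon
            have : h * 2 ≤ h * c := Nat.mul_le_mul_left h (by omega)
            omega
          interval_cases c
          · left
            have h6 : φ d = φ 1 := by
              rw [hd', map_one, ← ZMod.natCast_zmod_val i, hc'', mul_zero, Nat.cast_zero]
              rfl
            exact congrArg Subtype.val (φ.injective h6)
          · right
            have h6 : φ d = φ ⟨x ^ h, hzD⟩ := by
              rw [hz, hd', ← ZMod.natCast_zmod_val i, hc'', mul_one]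
            exact congrArg Subtype.val (φ.injective h6)
        · exfalso
          have h6 : quatToDih h (φ d) = 1 := hd
          rw [hd'] at h6
          exact DihedralGroup.noConfusion rfl (heq_of_eq h6)
      · rintro (hd | hd)
        · rw [show d = 1 from Subtype.ext hd, map_one]
        · show quatToDih h (φ d) = 1
          rw [show d = ⟨x ^ h, hzD⟩ from Subtype.ext hd, hz]
          show DihedralGroup.r _ = _
          rw [map_natCast, ZMod.natCast_self]
          rfl
    ext d
    rw [h1, MonoidHom.mem_ker]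
    show ((d : G) : G ⧸ N) = 1 ↔ _
    rw [QuotientGroup.eq_one_iff]
    constructor
    · intro hd
      obtain ⟨k, hk⟩ := Subgroup.mem_zpowers_iff.1 hd
      have h2 : (x ^ h) ^ (2 : ℤ) = 1 := by
        rw [show (2 : ℤ) = ((2 : ℕ) : ℤ) from rfl, zpow_natCast, sq, hQ.z_sq]
      rcases Int.even_or_odd' k with ⟨i, rfl | rfl⟩
      · rw [zpow_mul, h2, one_zpow] at hk; exact Or.inl hk.symm
      · rw [zpow_add, zpow_mul, h2, one_zpow, one_mul, zpow_one] at hk; exact Or.inr hk.symm
    · rintro (hd | hd) <;> rw [hd]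
      exacts [one_mem _, Subgroup.mem_zpowers _]
  exact ⟨(MulEquiv.subgroupCongr hrange.symm).trans
    ((QuotientGroup.quotientKerEquivRange f).symm.trans
      ((QuotientGroup.quotientMulEquivOfEq hker).trans
        (QuotientGroup.quotientKerEquivOfSurjective g hg)))⟩

/-- A block with a dihedral defect group of order `2 * h` has `h / 2 + 3` characters. -/
theorem card_dihedral_block [Finite G] {M : Ideal AlgInt} [M.IsMaximal] [CharP (ResField M) 2]
    (hM : IsPModular 2 M) {B : Set (IrrCharacter G)} (hB : IsPBlock M B) {D : Subgroup G}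
    (hD : IsDefectGroup 2 M B D) {h : ℕ} (h2 : 2 ≤ h) (hp : ∃ t, h = 2 ^ t)
    (hiso : Nonempty (D ≃* DihedralGroup h)) : Nat.card B = h / 2 + 3 := by
  obtain ⟨t, rfl⟩ := hp
  rcases t with _ | t
  · simp at h2
  rcases t with _ | t
  · -- a four group
    have hmax := (isDefectGroup_iff_maxR hM hB).1 hD
    obtain ⟨e, hP⟩ := exists_pairOf (isBlockIdem_ebar hB) hmax.pgroup hmax.ne_zero
    obtain ⟨c, hc, hce⟩ := exists_eIn_eq hP.pair.block
    have hind := (isInducedBlock_iff_pairOf hM hmax.pgroup hB hc).2 (hce ▸ hP)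
    obtain ⟨φ⟩ := hiso
    have hV : IsKleinFour D := by
      refine ⟨?_, ?_⟩
      · rw [Nat.card_congr φ.toEquiv]
        exact DihedralGroup.nat_card
      · rw [Monoid.exponent_eq_of_mulEquiv φ, DihedralGroup.exponent]
        rfl
    exact (Cfsg.Agent.S4637.result M hM B hB D hD hV c hind
      (pairStab D (eIn hc)) (fun g => (CfsgLib.Blk83.mem_pairStab_iff hc).trans Iff.rfl) _ rfl).2.1
  · have hres := Cfsg.Agent.S4528.result M hM B hB D hD (t + 3) (by omega)
      (by rw [show t + 3 - 1 = t + 2 by omega]; exact hiso)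
    rw [hres.1, show t + 3 - 2 = t + 1 by omega, show t + 1 + 1 = t + 2 by omega]
    rw [show 2 ^ (t + 2) / 2 = 2 ^ (t + 1) by rw [pow_succ']; omega]

namespace Quat

variable {D : Subgroup G} {x y : G} {h : ℕ}

/-- An element of order four is inverted in `D`. -/
theorem exists_inverting [Finite G] (hQ : Quat D x y h) {u : G} (hu : u ∈ D) :
    orderOf u = 4 → ∃ d ∈ D, d * u * d⁻¹ = u⁻¹ := by
  intro ho
  by_cases hux : u ∈ Subgroup.zpowers x
  · refine ⟨y, hQ.mem_y, ?_⟩
    obtain ⟨k, rfl⟩ := Subgroup.mem_zpowers_iff.1 hux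
    rw [← conj_zpow, hQ.inv, inv_zpow]
  · obtain ⟨m, hm, -⟩ := hQ.exists_half
    refine ⟨x ^ m, pow_mem hQ.mem_x m, ?_⟩
    have huu := hQ.sq_out hu hux
    rcases hQ.cases u hu with ⟨i, hi⟩ | ⟨i, hi⟩
    · exact absurd (hi ▸ Subgroup.npow_mem_zpowers x i) hux
    have hy : y⁻¹ * x ^ m * y = (x ^ m)⁻¹ := by
      calc y⁻¹ * x ^ m * y = y⁻¹ * (y * (x ^ m)⁻¹ * y⁻¹) * y := by
            rw [← conj_inv, hQ.inv_pow, inv_inv]
        _ = (x ^ m)⁻¹ := by group
    have h1 : x ^ m * u * (x ^ m)⁻¹ = u * (x ^ h)⁻¹ := by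
      rw [hm, two_mul]
      calc x ^ m * u * (x ^ m)⁻¹ = y * (y⁻¹ * x ^ m * y) * x ^ i * (x ^ m)⁻¹ := by rw [hi]; group
        _ = u * (x ^ (m + m))⁻¹ := by rw [hy, hi, pow_add]; group
    rw [h1, ← huu]
    group

theorem mul_z_eq_inv [Finite G] (hQ : Quat D x y h) {u : G} (hu : u ∈ D) (ho : orderOf u = 4) :
    u * x ^ h = u⁻¹ := by
  have h2 : u ^ 2 = x ^ h := hQ.eq_z_of_orderOf_two (pow_mem hu 2) (by
    rw [orderOf_pow_of_dvd two_ne_zero (ho ▸ (by norm_num : (2 : ℕ) ∣ 4)), ho])
  rw [← h2]
  refine eq_inv_of_mul_eq_one_left ?_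
  rw [← pow_succ', ← pow_succ, show 2 + 1 + 1 = orderOf u from ho.symm, pow_orderOf_eq_one]

/-- Multiplying by the involution gives another generator. -/
theorem zpowers_mul_z [Finite G] (hQ : Quat D x y h) {u : G} (hu : u ∈ D) (ho : 2 < orderOf u) :
    Subgroup.zpowers (u * x ^ h) = Subgroup.zpowers u := by
  by_cases ho4 : orderOf u = 4
  · rw [hQ.mul_z_eq_inv hu ho4, Subgroup.zpowers_inv]
  have hux := hQ.mem_zpowers_of_order hu ho4
  obtain ⟨k, hk⟩ := IsPGroup.iff_orderOf.1 hQ.isPGroup ⟨u, hux⟩
  rw [Subgroup.orderOf_mk] at hk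
  obtain ⟨j, rfl⟩ : ∃ j, k = j + 1 + 1 := ⟨k - 2, by
    rcases k with _ | _ | k
    · rw [pow_zero] at hk; omega
    · rw [Nat.zero_add, pow_one] at hk; omega
    · rfl⟩
  have h2 : u ^ 2 ^ (j + 1) = x ^ h := hQ.eq_z_of_orderOf_two (pow_mem hu _) (by
    rw [orderOf_pow_of_dvd (pow_ne_zero _ two_ne_zero) (hk ▸ pow_dvd_pow 2 (Nat.le_succ (j + 1))),
      hk, pow_succ, Nat.mul_div_cancel_left _ (pow_pos two_pos (j + 1))])
  refine zpowers_eq_of_orderOf (mul_mem hux (Subgroup.npow_mem_zpowers x h)) hux ?_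
  rw [← h2, ← pow_succ', Nat.Coprime.orderOf_pow]
  rw [hk]
  exact Nat.Coprime.pow_left _ (Nat.coprime_two_left.2 ⟨2 ^ j, by rw [pow_succ']⟩)

end Quat

end CfsgLib.QuatBlocks
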