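import Mathlib.Algebra.BigOperators.Ring.Finset
import Mathlib.Algebra.Order.BigOperators.Ring.Finset
import Mathlib.Data.Complex.Basic
import Mathlib.LinearAlgebra.Dimension.Finrank
import Mathlib.Algebra.Module.LinearMap.Defs
import Mathlib.Tactic.Linarith
import Mathlib.Tactic.Ring
import Mathlib.Tactic.LinearCombination
import Mathlib.Tactic.IntervalCases

/-!
# The integral data of a block with quaternion defect group

`M` is the matrix of the star product with the natural character of degree two, `A` the scaled
contribution matrix of the trivial subsection and `b` the coefficient vectors of the decomposition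
column of a generator of the cyclic maximal subgroup.
-/

set_option autoImplicit false

open Finset
open scoped Classical

namespace CfsgLib.QuatBlocks.Comb

universe u

variable {ι : Type u} [Fintype ι]

/-- The image of an integral vector under an integral matrix. -/
def app (M : ι → ι → ℤ) (v : ι → ℤ) (x : ι) : ℤ := ∑ y, M x y * v y

/-- The inner product of integral vectors. -/
def dot (v w : ι → ℤ) : ℤ := ∑ x, v x * w x

/-- The square sum of the coefficients at a character. -/
def topSum (m : ℕ) (b : ℕ → ι → ℤ) (x : ι) : ℤ :=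
  b 0 x ^ 2 + 2 * ∑ j ∈ Ico 1 m, b j x ^ 2

/-- The kernel of `2 - M` over the complex numbers. -/
def kerTwo (M : ι → ι → ℤ) : Submodule ℂ (ι → ℂ) where
  carrier := {z | ∀ x, ∑ y, (M x y : ℂ) * z y = 2 * z x}
  add_mem' := fun {z w} hz hw x => by
    simp only [Pi.add_apply, mul_add, Finset.sum_add_distrib, hz x, hw x]
  zero_mem' := fun x => by simp
  smul_mem' := fun c z hz x => by
    simp only [Pi.smul_apply, smul_eq_mul]
    rw [mul_left_comm, ← hz x, Finset.mul_sum]
    exact Finset.sum_congr rfl fun y _ => by ring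

theorem mem_kerTwo {M : ι → ι → ℤ} {z : ι → ℂ} :
    z ∈ kerTwo M ↔ ∀ x, ∑ y, (M x y : ℂ) * z y = 2 * z x := Iff.rfl

/-- The facts about a block with defect group quaternion of order `8 * m`. -/
structure QData (ι : Type u) [Fintype ι] (m : ℕ) where
  M : ι → ι → ℤ
  A : ι → ι → ℤ
  b : ℕ → ι → ℤ
  ht : ι → ℕ
  l : ℕ
  two_le : 2 ≤ m
  even_m : Even m
  M_symm : ∀ x y, M x y = M y x
  A_symm : ∀ x y, A x y = A y x
  MA : ∀ z x, app M (fun y => A y z) x = 2 * A x z
  AA : ∀ z x, app A (fun y => A y z) x = 8 * (m : ℤ) * A x z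
  fixed : ∀ v : ι → ℤ, (∀ x, app M v x = 2 * v x) → ∀ x, app A v x = 8 * (m : ℤ) * v x
  le_two : ∀ v, dot v (app M v) ≤ 2 * dot v v
  ge_two : ∀ v, -2 * dot v v ≤ dot v (app M v)
  eq_two : ∀ v, dot v (app M v) = 2 * dot v v → ∀ x, app M v x = 2 * v x
  le_four : ∀ v, dot (app M v) (app M v) ≤ 4 * dot v v
  eq_four : ∀ v, dot (app M v) (app M v) = 4 * dot v v → ∀ x, app M (app M v) x = 4 * v x
  b_top : ∀ x, b m x = 0
  norm_zero : dot (b 0) (b 0) = 4
  norm : ∀ j, 1 ≤ j → j < m → dot (b j) (b j) = 2
  orth : ∀ i j, i < m → j < m → i ≠ j → dot (b i) (b j) = 0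
  M_b0 : ∀ x, app M (b 0) x = 2 * b 1 x
  M_b : ∀ j, 1 ≤ j → j < m → ∀ x, app M (b j) x = b (j - 1) x + b (j + 1) x
  finrank_ker : Module.finrank ℂ (kerTwo M) = l
  card : Fintype.card ι = l + 2 * m + 2
  l_pos : 1 ≤ l
  exists_zero : ∃ s, ht s = 0
  dvd_A : ∀ x y, (2 : ℤ) ^ ht x ∣ A x y
  dvd_A_succ : ∀ x y, ht y ≠ 0 → (2 : ℤ) ^ (ht x + 1) ∣ A x y
  not_dvd_A : ∀ x y, ht y = 0 → ¬ (2 : ℤ) ^ (ht x + 1) ∣ A x y
  b_odd : ∀ s, ht s = 0 → Odd (b 0 s)
  diag_pos : ∀ x, 0 < A x x
  diag_le : ∀ x, 2 * (m : ℤ) * topSum m b x + A x x ≤ 8 * m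
  diag_zero : ∀ s, ht s = 0 → 2 * (m : ℤ) * topSum m b s + A s s ≤ 6 * m + 1
  translate : ∀ s j, 1 ≤ j → j < m → ht s = 0 → topSum m b s = 3 → b 0 s * b j s = -1 →
    ∃ v : ι → ℤ, dot v v ≤ 2 ∧ dot v (b 0) = 2 * b j s ∧ dot v (b j) = b 0 s ∧
      ∀ y, ∑ x, v x * A x y = 2 * A s y

namespace QData

variable {m : ℕ}

/-- Changing the signs of the characters. -/
def twist (d : QData ι m) (σ : ι → ℤ) (hσ : ∀ x, σ x * σ x = 1) : QData ι m where
  M x y := σ x * σ y * d.M x y
  A x y := σ x * σ y * d.A x y
  b j x := σ x * d.b j x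
  ht := d.ht
  l := d.l
  two_le := d.two_le
  even_m := d.even_m
  M_symm x y := by rw [d.M_symm x y]; ring
  A_symm x y := by rw [d.A_symm x y]; ring
  MA z x := by
    have h := d.MA z x
    simp only [app] at h ⊢
    calc _ = σ x * σ z * ∑ y, d.M x y * d.A y z := by
          rw [Finset.mul_sum]
          exact Finset.sum_congr rfl fun y _ => by
            linear_combination (σ x * σ z * d.M x y * d.A y z) * hσ y
      _ = _ := by rw [h]; ring
  AA z x := by
    have h := d.AA z x
    simp only [app] at h ⊢
    calc _ = σ x * σ z * ∑ y, d.A x y * d.A y z := by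
          rw [Finset.mul_sum]
          exact Finset.sum_congr rfl fun y _ => by
            linear_combination (σ x * σ z * d.A x y * d.A y z) * hσ y
      _ = _ := by rw [h]; ring
  fixed v hv x := by
    have h := d.fixed (fun y => σ y * v y) (fun x => by
      have h1 := hv x
      simp only [app] at h1 ⊢
      calc _ = σ x * ∑ y, σ x * σ y * d.M x y * v y := by
            rw [Finset.mul_sum]
            exact Finset.sum_congr rfl fun y _ => by
              linear_combination (-(σ y * d.M x y * v y)) * hσ x
        _ = _ := by rw [h1]; ring) x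
    simp only [app] at h ⊢
    calc _ = σ x * ∑ y, d.A x y * (σ y * v y) := by
          rw [Finset.mul_sum]; exact Finset.sum_congr rfl fun y _ => by ring
      _ = _ := by rw [h]; linear_combination (8 * (m : ℤ) * v x) * hσ x
  le_two v := by
    have h := d.le_two (fun y => σ y * v y)
    simp only [dot, app, Finset.mul_sum] at h ⊢
    calc _ = ∑ x, ∑ y, σ x * v x * (d.M x y * (σ y * v y)) :=
          Finset.sum_congr rfl fun x _ => Finset.sum_congr rfl fun y _ => by ring
      _ ≤ _ := h
      _ = _ := Finset.sum_congr rfl fun x _ => by linear_combination (2 * v x * v x) * hσ x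
  ge_two v := by
    have h := d.ge_two (fun y => σ y * v y)
    simp only [dot, app, Finset.mul_sum] at h ⊢
    calc _ = ∑ x, -2 * (σ x * v x * (σ x * v x)) :=
          Finset.sum_congr rfl fun x _ => by linear_combination (2 * v x * v x) * hσ x
      _ ≤ _ := h
      _ = _ := Finset.sum_congr rfl fun x _ => Finset.sum_congr rfl fun y _ => by ring
  eq_two v hv x := by
    have h := d.eq_two (fun y => σ y * v y) (by
      simp only [dot, app, Finset.mul_sum] at hv ⊢
      calc _ = ∑ x, ∑ y, v x * (σ x * σ y * d.M x y * v y) :=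
            Finset.sum_congr rfl fun x _ => Finset.sum_congr rfl fun y _ => by ring
        _ = _ := hv
        _ = _ := Finset.sum_congr rfl fun x _ => by linear_combination (-2 * v x * v x) * hσ x) x
    simp only [app] at h ⊢
    calc _ = σ x * ∑ y, d.M x y * (σ y * v y) := by
          rw [Finset.mul_sum]; exact Finset.sum_congr rfl fun y _ => by ring
      _ = _ := by rw [h]; linear_combination (2 * v x) * hσ x
  le_four v := by
    have h := d.le_four (fun y => σ y * v y)
    simp only [dot, app] at h ⊢
    calc _ = ∑ x, (∑ y, d.M x y * (σ y * v y)) * (∑ y, d.M x y * (σ y * v y)) :=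
          Finset.sum_congr rfl fun x _ => by
            rw [show (∑ y, σ x * σ y * d.M x y * v y) = σ x * ∑ y, d.M x y * (σ y * v y) by
              rw [Finset.mul_sum]; exact Finset.sum_congr rfl fun y _ => by ring]
            linear_combination ((∑ y, d.M x y * (σ y * v y)) *
              (∑ y, d.M x y * (σ y * v y))) * hσ x
      _ ≤ _ := h
      _ = _ := congrArg (4 * ·)
          (Finset.sum_congr rfl fun x _ => by linear_combination (v x * v x) * hσ x)
  eq_four v hv x := by
    have hap : ∀ (w : ι → ℤ) (x : ι), (∑ y, σ x * σ y * d.M x y * w y) =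
        σ x * ∑ y, d.M x y * (σ y * w y) := fun w x => by
      rw [Finset.mul_sum]; exact Finset.sum_congr rfl fun y _ => by ring
    have h := d.eq_four (fun y => σ y * v y) (by
      simp only [dot, app, hap] at hv ⊢
      calc _ = ∑ x, (σ x * ∑ y, d.M x y * (σ y * v y)) * (σ x * ∑ y, d.M x y * (σ y * v y)) :=
            Finset.sum_congr rfl fun x _ => by
              linear_combination (-((∑ y, d.M x y * (σ y * v y)) *
                (∑ y, d.M x y * (σ y * v y)))) * hσ x
        _ = _ := hv
        _ = _ := congrArg (4 * ·)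
            (Finset.sum_congr rfl fun x _ => by linear_combination (-(v x * v x)) * hσ x)) x
    simp only [app, hap] at h ⊢
    calc _ = σ x * ∑ y, d.M x y * ∑ z, d.M y z * (σ z * v z) :=
          congrArg _ (Finset.sum_congr rfl fun y _ => by
            linear_combination (d.M x y * ∑ z, d.M y z * (σ z * v z)) * hσ y)
      _ = _ := by rw [h]; linear_combination (4 * v x) * hσ x
  b_top x := by simp [d.b_top x]
  norm_zero := by
    rw [← d.norm_zero]
    exact Finset.sum_congr rfl fun x _ => by linear_combination (d.b 0 x * d.b 0 x) * hσ x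
  norm j h1 h2 := by
    rw [← d.norm j h1 h2]
    exact Finset.sum_congr rfl fun x _ => by linear_combination (d.b j x * d.b j x) * hσ x
  orth i j h1 h2 h3 := by
    rw [← d.orth i j h1 h2 h3]
    exact Finset.sum_congr rfl fun x _ => by linear_combination (d.b i x * d.b j x) * hσ x
  M_b0 x := by
    have h := d.M_b0 x
    simp only [app] at h ⊢
    calc _ = σ x * ∑ y, d.M x y * d.b 0 y := by
          rw [Finset.mul_sum]
          exact Finset.sum_congr rfl fun y _ => by
            linear_combination (σ x * d.M x y * d.b 0 y) * hσ y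
      _ = _ := by rw [h]; ring
  M_b j h1 h2 x := by
    have h := d.M_b j h1 h2 x
    simp only [app] at h ⊢
    calc _ = σ x * ∑ y, d.M x y * d.b j y := by
          rw [Finset.mul_sum]
          exact Finset.sum_congr rfl fun y _ => by
            linear_combination (σ x * d.M x y * d.b j y) * hσ y
      _ = _ := by rw [h]; ring
  finrank_ker := by
    have hσ' : ∀ x, (σ x : ℂ) * σ x = 1 := fun x => by exact_mod_cast hσ x
    rw [← d.finrank_ker]
    refine LinearEquiv.finrank_eq
      { toFun := fun z => ⟨fun x => (σ x : ℂ) * z.1 x, fun x => ?_⟩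
        invFun := fun z => ⟨fun x => (σ x : ℂ) * z.1 x, fun x => ?_⟩
        map_add' := fun z w => Subtype.ext (funext fun x => by simp [mul_add])
        map_smul' := fun c z => Subtype.ext (funext fun x => by simp; ring)
        left_inv := fun z => Subtype.ext (funext fun x => by
          show (σ x : ℂ) * (σ x * z.1 x) = z.1 x
          linear_combination (z.1 x) * hσ' x)
        right_inv := fun z => Subtype.ext (funext fun x => by
          show (σ x : ℂ) * (σ x * z.1 x) = z.1 x
          linear_combination (z.1 x) * hσ' x) }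
    · calc _ = (σ x : ℂ) * ∑ y, ((σ x * σ y * d.M x y : ℤ) : ℂ) * z.1 y := by
            rw [Finset.mul_sum]
            exact Finset.sum_congr rfl fun y _ => by
              push_cast; linear_combination (-((σ y : ℂ) * d.M x y * z.1 y)) * hσ' x
        _ = _ := by rw [mem_kerTwo.1 z.2 x]; ring
    · calc _ = (σ x : ℂ) * ∑ y, (d.M x y : ℂ) * z.1 y := by
            rw [Finset.mul_sum]
            exact Finset.sum_congr rfl fun y _ => by
              push_cast; linear_combination ((σ x : ℂ) * d.M x y * z.1 y) * hσ' y
        _ = _ := by rw [mem_kerTwo.1 z.2 x]; ring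
  card := d.card
  l_pos := d.l_pos
  exists_zero := d.exists_zero
  dvd_A x y := dvd_mul_of_dvd_right (d.dvd_A x y) _
  dvd_A_succ x y h := dvd_mul_of_dvd_right (d.dvd_A_succ x y h) _
  not_dvd_A x y h hd := d.not_dvd_A x y h (by
    have h1 := dvd_mul_of_dvd_right hd (σ x * σ y)
    rwa [show σ x * σ y * (σ x * σ y * d.A x y) = d.A x y by
      linear_combination (σ y * σ y * d.A x y) * hσ x + d.A x y * hσ y] at h1)
  b_odd s h := by
    rcases Int.eq_one_or_neg_one_of_mul_eq_one (hσ s) with h' | h' <;>
      simp [h', d.b_odd s h]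
  diag_pos x := by rw [hσ x, one_mul]; exact d.diag_pos x
  diag_le x := by
    have h1 : topSum m (fun j x => σ x * d.b j x) x = topSum m d.b x := by
      simp only [topSum, mul_pow, show σ x ^ 2 = 1 by rw [sq]; exact hσ x, one_mul]
    rw [h1, hσ x, one_mul]
    exact d.diag_le x
  diag_zero s h := by
    have h1 : topSum m (fun j x => σ x * d.b j x) s = topSum m d.b s := by
      simp only [topSum, mul_pow, show σ s ^ 2 = 1 by rw [sq]; exact hσ s, one_mul]
    rw [h1, hσ s, one_mul]
    exact d.diag_zero s h
  translate s j h1 h2 h3 h4 h5 := by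
    simp only [topSum, mul_pow, show σ s ^ 2 = 1 by rw [sq]; exact hσ s, one_mul] at h4
    obtain ⟨v, hv1, hv2, hv3, hv4⟩ := d.translate s j h1 h2 h3 h4
      (by linear_combination h5 - (d.b 0 s * d.b j s) * hσ s)
    refine ⟨fun x => σ s * σ x * v x, ?_, ?_, ?_, fun y => ?_⟩
    · refine le_of_eq_of_le (Finset.sum_congr rfl fun x _ => ?_) hv1
      linear_combination (σ x * σ x * v x * v x) * hσ s + (v x * v x) * hσ x
    · calc _ = σ s * dot v (d.b 0) := by
            rw [dot, dot, Finset.mul_sum]
            exact Finset.sum_congr rfl fun x _ => by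
              linear_combination (σ s * v x * d.b 0 x) * hσ x
        _ = _ := by rw [hv2]; ring
    · calc _ = σ s * dot v (d.b j) := by
            rw [dot, dot, Finset.mul_sum]
            exact Finset.sum_congr rfl fun x _ => by
              linear_combination (σ s * v x * d.b j x) * hσ x
        _ = _ := by rw [hv3]
    · calc _ = σ s * σ y * ∑ x, v x * d.A x y := by
            rw [Finset.mul_sum]
            exact Finset.sum_congr rfl fun x _ => by
              linear_combination (σ s * σ y * v x * d.A x y) * hσ x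
        _ = _ := by rw [hv4]; ring

end QData

end CfsgLib.QuatBlocks.Comb
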