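import Cfsg.Agent.Lib.QuatBlocks.CombSupport

/-!
# The chains formed by the coefficient vectors
-/

set_option autoImplicit false
set_option maxHeartbeats 800000

open Finset
open scoped Classical

namespace CfsgLib.QuatBlocks.Comb

universe u

variable {ι : Type u} [Fintype ι]

/-- The indicator of a point. -/
noncomputable def dlt (z a : ι) : ℤ := if z = a then 1 else 0

theorem sum_mul_dlt (f : ι → ℤ) (a : ι) : ∑ z, f z * dlt z a = f a := by
  simp [dlt]

theorem dlt_self (a : ι) : dlt a a = 1 := if_pos rfl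

theorem dlt_ne {z a : ι} (h : z ≠ a) : dlt z a = 0 := if_neg h

theorem app_eq (M : ι → ι → ℤ) (v : ι → ℤ) : app M v = fun x => ∑ y, M x y * v y := rfl

theorem app_add (M : ι → ι → ℤ) (v w : ι → ℤ) (x : ι) :
    app M (fun y => v y + w y) x = app M v x + app M w x := by
  simp [app, mul_add, Finset.sum_add_distrib]

theorem app_smul (M : ι → ι → ℤ) (c : ℤ) (v : ι → ℤ) (x : ι) :
    app M (fun y => c * v y) x = c * app M v x := by
  simp [app, Finset.mul_sum, mul_left_comm]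

namespace QData

variable {m : ℕ} (d : QData ι m)

theorem app_dlt (x z : ι) : app d.M (fun y => dlt y x) z = d.M z x := sum_mul_dlt _ x

theorem row_le_four (x : ι) : ∑ y, d.M x y * d.M x y ≤ 4 := by
  have h := d.le_four (fun y => dlt y x)
  simp only [dot, app_dlt] at h
  rw [sum_mul_dlt, dlt_self, mul_one] at h
  simpa only [d.M_symm _ x] using h

/-- A row has norm at most three if the square of the matrix is not four at it. -/
theorem row_le_three {x : ι} (v : ι → ℤ) (h : app d.M (app d.M v) x ≠ 4 * v x) :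
    ∑ y, d.M x y * d.M x y ≤ 3 := by
  by_contra hc
  have h4 : ∑ y, d.M x y * d.M x y = 4 := by have := d.row_le_four x; omega
  have he := d.eq_four (fun y => dlt y x) (by
    simp only [dot, app_dlt]
    rw [sum_mul_dlt, dlt_self]
    simpa only [d.M_symm _ x, mul_one] using h4)
  apply h
  calc app d.M (app d.M v) x = ∑ z, (∑ y, d.M x y * d.M y z) * v z := by
        simp only [app, Finset.mul_sum, Finset.sum_mul]
        rw [Finset.sum_comm]
        exact Finset.sum_congr rfl fun z _ => Finset.sum_congr rfl fun y _ => by ring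
    _ = ∑ z, (4 * dlt z x) * v z := by
        refine Finset.sum_congr rfl fun z _ => ?_
        have h1 := he z
        simp only [app, sum_mul_dlt] at h1
        rw [← h1]
        congr 1
        exact Finset.sum_congr rfl fun y _ => by rw [d.M_symm x y, d.M_symm y z]; ring
    _ = 4 * v x := by simp [dlt]

theorem b_off {x : ι} {i j : ℕ} (hj : 1 ≤ j) (hjm : j < m) (hb : d.b j x ≠ 0) (hij : i ≠ j)
    (hi : i ≤ m) : d.b i x = 0 := by
  rcases Nat.eq_zero_or_pos i with rfl | h0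
  · exact d.b0_eq_zero (d.level_ht hj hjm hb)
  rcases eq_or_lt_of_le hi with rfl | him
  · exact d.b_top x
  by_contra h
  exact hij (d.level_unique h0 him hj hjm h hb)

theorem b_cases {x : ι} {j : ℕ} (hj : 1 ≤ j) (hjm : j < m) :
    d.b j x = 0 ∨ d.b j x = 1 ∨ d.b j x = -1 := by
  refine int_le_one_of_sq ?_
  have h1 := d.single_le_level hj hjm x
  have h2 := d.level_sq_le x
  nlinarith

theorem row_level {x : ι} {r : ℕ} (hr : 1 ≤ r) (hrm : r < m) (hb : d.b r x ≠ 0) :
    ∑ y, d.M x y * d.M x y ≤ 3 := by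
  refine d.row_le_three (d.b r) ?_
  have h1 : app d.M (app d.M (d.b r)) x =
      app d.M (d.b (r - 1)) x + app d.M (d.b (r + 1)) x := by
    rw [show app d.M (d.b r) = fun y => d.b (r - 1) y + d.b (r + 1) y from
      funext (d.M_b r hr hrm)]
    exact app_add _ _ _ x
  have hlow : app d.M (d.b (r - 1)) x = (if r = 1 then 2 else 1) * d.b r x := by
    split_ifs with h
    · subst h
      exact d.M_b0 x
    · rw [d.M_b (r - 1) (by omega) (by omega), d.b_off hr hrm hb (by omega) (by omega), zero_add,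
        show r - 1 + 1 = r by omega, one_mul]
  have hhigh : app d.M (d.b (r + 1)) x = (if r + 1 = m then 0 else 1) * d.b r x := by
    split_ifs with h
    · rw [h, zero_mul]
      exact Finset.sum_eq_zero fun y _ => by rw [d.b_top, mul_zero]
    · rw [d.M_b (r + 1) (by omega) (by omega), Nat.add_sub_cancel,
        d.b_off hr hrm hb (i := r + 1 + 1) (by omega) (by omega), add_zero, one_mul]
  rw [h1, hlow, hhigh]
  intro h
  split_ifs at h <;> apply hb <;> linarith

theorem row_zero {x : ι} (hx : d.ht x = 0) : ∑ y, d.M x y * d.M x y ≤ 3 := by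
  refine d.row_le_three (d.b 0) ?_
  have h1 : app d.M (app d.M (d.b 0)) x = 2 * app d.M (d.b 1) x := by
    rw [show app d.M (d.b 0) = fun y => 2 * d.b 1 y from funext d.M_b0]
    exact app_smul _ _ _ x
  have h2 := d.two_le
  rw [h1, d.M_b 1 le_rfl (by omega)]
  have hb : d.b (1 + 1) x = 0 := by
    rcases eq_or_lt_of_le h2 with h | h
    · rw [show 1 + 1 = m by omega]; exact d.b_top x
    · exact d.b_eq_zero_of_ht hx (by omega) (by omega)
  rw [hb, add_zero, Nat.sub_self]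
  intro h
  rcases d.b0_cases hx with h' | h' <;> rw [h'] at h <;> omega

theorem entry_cases {x : ι} (h : ∑ y, d.M x y * d.M x y ≤ 3) (y : ι) :
    d.M x y = 0 ∨ d.M x y = 1 ∨ d.M x y = -1 :=
  int_le_one_of_sq ((Finset.single_le_sum (f := fun z => d.M x z * d.M x z)
    (fun z _ => mul_self_nonneg _) (Finset.mem_univ y)).trans h)

/-- A row with value `±1` at a pair meets exactly one of its members. -/
theorem existsUnique_nbr {x : ι} (hx : ∑ y, d.M x y * d.M x y ≤ 3) {j : ℕ} (hj : 1 ≤ j)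
    (hjm : j < m) (hval : app d.M (d.b j) x = 1 ∨ app d.M (d.b j) x = -1) :
    ∃! z, d.b j z ≠ 0 ∧ d.M x z ≠ 0 := by
  obtain ⟨p, q, hpq, hp, hq, hz⟩ := exists_pair_of_norm_two (d.norm j hj hjm)
  have hp0 : d.b j p ≠ 0 := fun h => by simp [h] at hp
  have hq0 : d.b j q ≠ 0 := fun h => by simp [h] at hq
  rw [app, Fintype.sum_eq_add p q hpq fun z hz' => by rw [hz z hz'.1 hz'.2, mul_zero]] at hval
  have hmem : ∀ z, d.b j z ≠ 0 → z = p ∨ z = q := fun z h => by
    by_contra hc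
    push Not at hc
    exact h (hz z hc.1 hc.2)
  rcases d.b_cases (x := p) hj hjm with h | h | h <;> [exact absurd h hp0; skip; skip] <;>
    rcases d.b_cases (x := q) hj hjm with h' | h' | h' <;> [exact absurd h' hq0; skip; skip;
      exact absurd h' hq0; skip; skip] <;>
    rcases d.entry_cases hx p with e | e | e <;> rcases d.entry_cases hx q with e' | e' | e' <;>
    rw [h, h', e, e'] at hval <;>
    first
      | (exfalso; omega)
      | (refine ⟨q, ⟨hq0, by rw [e']; decide⟩, ?_⟩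
         rintro z ⟨hz1, hz2⟩
         rcases hmem z hz1 with rfl | rfl
         · exact absurd e hz2
         · rfl)
      | (refine ⟨p, ⟨hp0, by rw [e]; decide⟩, ?_⟩
         rintro z ⟨hz1, hz2⟩
         rcases hmem z hz1 with rfl | rfl
         · rfl
         · exact absurd e' hz2)

include d in
theorem two_le' : 1 < m ∧ 1 ≤ m := by
  have := d.two_le
  omega

/-- A character of the first level is next to exactly two characters of height zero. -/
theorem card_fork {x : ι} (hb : d.b 1 x ≠ 0) :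
    ((d.S).filter fun s => d.M x s ≠ 0).card = 2 := by
  have hm := d.two_le'.1
  have hx := d.row_level le_rfl hm hb
  have hterm : ∀ s ∈ d.S, d.M x s * d.b 0 s = 0 ∨ d.M x s * d.b 0 s = 1 ∨
      d.M x s * d.b 0 s = -1 := by
    intro s hs
    rcases d.entry_cases hx s with e | e | e <;> rcases d.b0_cases (d.mem_S.1 hs) with h | h <;>
      rw [e, h] <;> decide
  have hsum : ∑ s ∈ d.S, d.M x s * d.b 0 s = 2 * d.b 1 x := by
    rw [← d.M_b0 x, app]
    exact Finset.sum_subset (Finset.subset_univ _) fun s _ hs => by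
      rw [d.b0_eq_zero (fun h => hs (d.mem_S.2 h)), mul_zero]
  have hsq : ∀ s ∈ d.S, (d.M x s * d.b 0 s) * (d.M x s * d.b 0 s) =
      if d.M x s ≠ 0 then 1 else 0 := by
    intro s hs
    rcases d.entry_cases hx s with e | e | e <;> rcases d.b0_cases (d.mem_S.1 hs) with h | h <;>
      rw [e, h] <;> decide
  set K := ((d.S).filter fun s => d.M x s ≠ 0).card with hK
  have hKsum : (K : ℤ) = ∑ s ∈ d.S, (d.M x s * d.b 0 s) * (d.M x s * d.b 0 s) := by
    rw [Finset.sum_congr rfl hsq, ← Finset.sum_filter, Finset.sum_const, nsmul_one, hK]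
  have hK3 : (K : ℤ) ≤ 3 := by
    rw [hKsum]
    refine le_trans (Finset.sum_le_sum fun s hs => ?_)
      ((Finset.sum_le_sum_of_subset_of_nonneg (Finset.subset_univ d.S)
        fun y _ _ => mul_self_nonneg _).trans hx)
    rcases d.b0_cases (d.mem_S.1 hs) with h | h <;> rw [h] <;> ring_nf <;> exact le_rfl
  have hpar : ((K : ℤ) - 2 * d.b 1 x) % 2 = 0 := by
    rw [hKsum, ← hsum, ← Finset.sum_sub_distrib, Finset.sum_int_mod, Finset.sum_eq_zero, Int.zero_emod]
    intro s hs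
    rcases hterm s hs with e | e | e <;> rw [e] <;> decide
  have hK2 : (2 : ℤ) ≤ K := by
    rcases d.b_cases (x := x) le_rfl hm with h | h | h
    · exact absurd h hb
    · have h2 : (2 : ℤ) * d.b 1 x ≤ K := by
        rw [hKsum, ← hsum]
        refine Finset.sum_le_sum fun s hs => ?_
        rcases hterm s hs with e | e | e <;> rw [e] <;> decide
      rw [h] at h2; linarith
    · have h2 : -((K : ℤ)) ≤ 2 * d.b 1 x := by
        rw [hKsum, ← hsum, ← Finset.sum_neg_distrib]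
        refine Finset.sum_le_sum fun s hs => ?_
        rcases hterm s hs with e | e | e <;> rw [e] <;> decide
      rw [h] at h2; linarith
  omega

theorem existsUnique_up {x : ι} {r : ℕ} (hr : 1 ≤ r) (hrm : r + 1 < m) (hb : d.b r x ≠ 0) :
    ∃! z, d.b (r + 1) z ≠ 0 ∧ d.M x z ≠ 0 := by
  refine d.existsUnique_nbr (d.row_level hr (by omega) hb) (by omega) hrm ?_
  rw [d.M_b (r + 1) (by omega) hrm, Nat.add_sub_cancel,
    d.b_off hr (by omega) hb (i := r + 1 + 1) (by omega) (by omega), add_zero]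
  rcases d.b_cases (x := x) hr (by omega) with h | h | h
  · exact absurd h hb
  · exact Or.inl h
  · exact Or.inr h

theorem existsUnique_down {x : ι} {r : ℕ} (hr : 1 ≤ r) (hrm : r + 1 < m) (hb : d.b (r + 1) x ≠ 0) :
    ∃! z, d.b r z ≠ 0 ∧ d.M x z ≠ 0 := by
  refine d.existsUnique_nbr (d.row_level (by omega) hrm hb) hr (by omega) ?_
  rw [d.M_b r hr (by omega), d.b_off (i := r - 1) (j := r + 1) (by omega) hrm hb (by omega)
    (by omega), zero_add]
  rcases d.b_cases (x := x) (j := r + 1) (by omega) hrm with h | h | h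
  · exact absurd h hb
  · exact Or.inl h
  · exact Or.inr h

theorem existsUnique_fork {s : ι} (hs : d.ht s = 0) : ∃! z, d.b 1 z ≠ 0 ∧ d.M s z ≠ 0 := by
  have hm := d.two_le'.1
  refine d.existsUnique_nbr (d.row_zero hs) le_rfl hm ?_
  rw [d.M_b 1 le_rfl hm, Nat.sub_self]
  have hb : d.b (1 + 1) s = 0 := by
    rcases eq_or_lt_of_le (show 1 + 1 ≤ m by omega) with h | h
    · rw [h]; exact d.b_top s
    · exact d.b_eq_zero_of_ht hs (by omega) h
  rw [hb, add_zero]
  exact d.b0_cases hs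

/-- The two chains with their forks, without signs. -/
structure PreChain (d : QData ι m) where
  s₁ : ι
  s₂ : ι
  s₃ : ι
  s₄ : ι
  p : ℕ → ι
  q : ℕ → ι
  ne12 : s₁ ≠ s₂
  ne13 : s₁ ≠ s₃
  ne14 : s₁ ≠ s₄
  ne23 : s₂ ≠ s₃
  ne24 : s₂ ≠ s₄
  ne34 : s₃ ≠ s₄
  ht_iff : ∀ x, d.ht x = 0 ↔ x = s₁ ∨ x = s₂ ∨ x = s₃ ∨ x = s₄
  p_mem : ∀ r, 1 ≤ r → r < m → d.b r (p r) ≠ 0
  q_mem : ∀ r, 1 ≤ r → r < m → d.b r (q r) ≠ 0
  pq_ne : ∀ r, 1 ≤ r → r < m → p r ≠ q r
  level : ∀ r, 1 ≤ r → r < m → ∀ x, x ≠ p r → x ≠ q r → d.b r x = 0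
  p_q_zero : ∀ r, 1 ≤ r → r + 1 < m → d.M (p r) (q (r + 1)) = 0
  q_p_zero : ∀ r, 1 ≤ r → r + 1 < m → d.M (q r) (p (r + 1)) = 0
  p_s₃ : d.M (p 1) s₃ = 0
  p_s₄ : d.M (p 1) s₄ = 0
  q_s₁ : d.M (q 1) s₁ = 0
  q_s₂ : d.M (q 1) s₂ = 0

theorem exists_preChain : Nonempty (PreChain d) := by
  have hm := d.two_le'.1
  obtain ⟨P, Q, hPQ, hP, hQ, hz⟩ := exists_pair_of_norm_two (d.norm 1 le_rfl hm)
  have hP0 : d.b 1 P ≠ 0 := fun h => by simp [h] at hP
  have hQ0 : d.b 1 Q ≠ 0 := fun h => by simp [h] at hQ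
  have hexcl : ∀ s ∈ d.S, d.M P s ≠ 0 → d.M Q s = 0 := by
    intro s hs h1
    by_contra h2
    exact hPQ ((d.existsUnique_fork (d.mem_S.1 hs)).unique
      ⟨hP0, by rwa [d.M_symm]⟩ ⟨hQ0, by rwa [d.M_symm]⟩)
  obtain ⟨s₁, s₂, h12, hFP⟩ := Finset.card_eq_two.1 (d.card_fork hP0)
  obtain ⟨s₃, s₄, h34, hFQ⟩ := Finset.card_eq_two.1 (d.card_fork hQ0)
  have m1 : s₁ ∈ d.S ∧ d.M P s₁ ≠ 0 := by
    have : s₁ ∈ d.S.filter fun s => d.M P s ≠ 0 := by rw [hFP]; simp
    simpa using this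
  have m2 : s₂ ∈ d.S ∧ d.M P s₂ ≠ 0 := by
    have : s₂ ∈ d.S.filter fun s => d.M P s ≠ 0 := by rw [hFP]; simp
    simpa using this
  have m3 : s₃ ∈ d.S ∧ d.M Q s₃ ≠ 0 := by
    have : s₃ ∈ d.S.filter fun s => d.M Q s ≠ 0 := by rw [hFQ]; simp
    simpa using this
  have m4 : s₄ ∈ d.S ∧ d.M Q s₄ ≠ 0 := by
    have : s₄ ∈ d.S.filter fun s => d.M Q s ≠ 0 := by rw [hFQ]; simp
    simpa using this
  have h13 : s₁ ≠ s₃ := fun h => m3.2 (h ▸ hexcl s₁ m1.1 m1.2)
  have h14 : s₁ ≠ s₄ := fun h => m4.2 (h ▸ hexcl s₁ m1.1 m1.2)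
  have h23 : s₂ ≠ s₃ := fun h => m3.2 (h ▸ hexcl s₂ m2.1 m2.2)
  have h24 : s₂ ≠ s₄ := fun h => m4.2 (h ▸ hexcl s₂ m2.1 m2.2)
  have hS : ({s₁, s₂, s₃, s₄} : Finset ι) = d.S := by
    refine Finset.eq_of_subset_of_card_le (fun x hx => ?_) ?_
    · simp only [Finset.mem_insert, Finset.mem_singleton] at hx
      rcases hx with rfl | rfl | rfl | rfl
      exacts [m1.1, m2.1, m3.1, m4.1]
    · rw [d.card_S, Finset.card_insert_of_notMem (by simp [h12, h13, h14]),
        Finset.card_insert_of_notMem (by simp [h23, h24]), Finset.card_pair h34]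
  -- the chains
  let nxt : ℕ → ι → ι := fun r x =>
    if h : ∃ z, d.b (r + 1) z ≠ 0 ∧ d.M x z ≠ 0 then h.choose else x
  let run : ι → ℕ → ι := fun x₀ r => Nat.rec x₀ (fun k y => if k = 0 then x₀ else nxt k y) r
  have hrun1 : ∀ x₀, run x₀ 1 = x₀ := fun x₀ => rfl
  have hstep : ∀ x₀ r, 1 ≤ r → run x₀ (r + 1) = nxt r (run x₀ r) := fun x₀ r hr => by
    show (if r = 0 then x₀ else nxt r (run x₀ r)) = _
    rw [if_neg (by omega)]
  have hmem : ∀ x₀, d.b 1 x₀ ≠ 0 → ∀ r, 1 ≤ r → r < m → d.b r (run x₀ r) ≠ 0 ∧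
      (r + 1 < m → d.b (r + 1) (run x₀ (r + 1)) ≠ 0 ∧
        d.M (run x₀ r) (run x₀ (r + 1)) ≠ 0) := by
    intro x₀ hx₀ r hr hrm
    induction r, hr using Nat.le_induction with
    | base =>
      refine ⟨by rw [hrun1]; exact hx₀, fun h => ?_⟩
      obtain ⟨z, hz, -⟩ := d.existsUnique_up le_rfl h hx₀
      rw [hrun1, hstep x₀ 1 le_rfl, hrun1]
      have hex : ∃ z, d.b (1 + 1) z ≠ 0 ∧ d.M x₀ z ≠ 0 := ⟨z, hz⟩
      simp only [nxt]
      rw [dif_pos hex]
      exact hex.choose_spec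
    | succ k hk ih =>
      obtain ⟨-, h2⟩ := ih (by omega)
      refine ⟨(h2 hrm).1, fun h => ?_⟩
      obtain ⟨z, hz, -⟩ := d.existsUnique_up (r := k + 1) (by omega) h (h2 hrm).1
      rw [hstep x₀ (k + 1) (by omega)]
      have hex : ∃ z, d.b (k + 1 + 1) z ≠ 0 ∧ d.M (run x₀ (k + 1)) z ≠ 0 := ⟨z, hz⟩
      simp only [nxt]
      rw [dif_pos hex]
      exact hex.choose_spec
  have hne : ∀ r, 1 ≤ r → r < m → run P r ≠ run Q r := by
    intro r hr hrm
    induction r, hr using Nat.le_induction with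
    | base => rwa [hrun1, hrun1]
    | succ k hk ih =>
      intro heq
      obtain ⟨a1, a2⟩ := (hmem P hP0 k hk (by omega)).2 hrm
      obtain ⟨-, c2⟩ := (hmem Q hQ0 k hk (by omega)).2 hrm
      exact ih (by omega) ((d.existsUnique_down hk hrm a1).unique
        ⟨(hmem P hP0 k hk (by omega)).1, by rwa [d.M_symm]⟩
        ⟨(hmem Q hQ0 k hk (by omega)).1, by rw [heq, d.M_symm]; exact c2⟩)
  have hlevel : ∀ r, 1 ≤ r → r < m → ∀ x, x ≠ run P r → x ≠ run Q r → d.b r x = 0 := by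
    intro r hr hrm x hxP hxQ
    obtain ⟨a, c, -, -, -, hz'⟩ := exists_pair_of_norm_two (d.norm r hr hrm)
    have hm' : ∀ y, d.b r y ≠ 0 → y = a ∨ y = c := fun y h => by
      by_contra hc
      push Not at hc
      exact h (hz' y hc.1 hc.2)
    by_contra hx
    have hne' := hne r hr hrm
    rcases hm' x hx with rfl | rfl <;> rcases hm' _ (hmem P hP0 r hr hrm).1 with h | h <;>
      rcases hm' _ (hmem Q hQ0 r hr hrm).1 with h' | h' <;>
      first
        | exact hxP h.symm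
        | exact hxQ h'.symm
        | exact hne' (h.trans h'.symm)
  refine ⟨{
    s₁ := s₁, s₂ := s₂, s₃ := s₃, s₄ := s₄, p := run P, q := run Q
    ne12 := h12, ne13 := h13, ne14 := h14, ne23 := h23, ne24 := h24, ne34 := h34
    ht_iff := fun x => by rw [← d.mem_S, ← hS]; simp
    p_mem := fun r hr hrm => (hmem P hP0 r hr hrm).1
    q_mem := fun r hr hrm => (hmem Q hQ0 r hr hrm).1
    pq_ne := hne
    level := hlevel
    p_q_zero := fun r hr hrm => ?_
    q_p_zero := fun r hr hrm => ?_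
    p_s₃ := ?_
    p_s₄ := ?_
    q_s₁ := ?_
    q_s₂ := ?_ }⟩
  · by_contra h
    exact hne (r + 1) (by omega) hrm ((d.existsUnique_up hr hrm
      (hmem P hP0 r hr (by omega)).1).unique ((hmem P hP0 r hr (by omega)).2 hrm)
      ⟨(hmem Q hQ0 (r + 1) (by omega) hrm).1, h⟩)
  · by_contra h
    exact hne (r + 1) (by omega) hrm ((d.existsUnique_up hr hrm
      (hmem Q hQ0 r hr (by omega)).1).unique ⟨(hmem P hP0 (r + 1) (by omega) hrm).1, h⟩
      ((hmem Q hQ0 r hr (by omega)).2 hrm))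
  · rw [hrun1]
    by_contra h
    exact m3.2 (hexcl s₃ m3.1 h)
  · rw [hrun1]
    by_contra h
    exact m4.2 (hexcl s₄ m4.1 h)
  · rw [hrun1]
    exact hexcl s₁ m1.1 m1.2
  · rw [hrun1]
    exact hexcl s₂ m2.1 m2.2

end QData

end CfsgLib.QuatBlocks.Comb
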