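import Cfsg.Agent.Lib.QuatBlocks.CombRows

/-!
# The vertex joining the chains
-/

set_option autoImplicit false
set_option maxHeartbeats 800000

open Finset
open scoped Classical

namespace CfsgLib.QuatBlocks.Comb

universe u

variable {ι : Type u} [Fintype ι]

theorem sum_mul_dlt' (f : ι → ℤ) (a : ι) : ∑ z, dlt z a * f z = f a := by
  simp [dlt]

namespace QData

variable {m : ℕ} (d : QData ι m)

theorem dot_app_comm (v w : ι → ℤ) : dot (app d.M v) w = dot v (app d.M w) := by
  simp only [dot, app, Finset.sum_mul, Finset.mul_sum]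
  rw [Finset.sum_comm]
  exact Finset.sum_congr rfl fun x _ => Finset.sum_congr rfl fun y _ => by
    rw [d.M_symm x y]; ring

/-- The eigenvectors for two are orthogonal to the coefficient vectors. -/
theorem dot_b_eq_zero {f : ι → ℤ} (hf : ∀ x, app d.M f x = 2 * f x) {j : ℕ} (hj : j ≤ m) :
    dot (d.b j) f = 0 := by
  have h2 : ∀ i, dot (app d.M (d.b i)) f = 2 * dot (d.b i) f := by
    intro i
    rw [d.dot_app_comm, dot, dot, Finset.mul_sum]
    exact Finset.sum_congr rfl fun x _ => by rw [hf x]; ring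
  have h1 : dot (d.b 1) f = dot (d.b 0) f := by
    have h := h2 0
    rw [dot, Finset.sum_congr rfl fun x _ => by rw [d.M_b0 x, mul_assoc], ← Finset.mul_sum] at h
    simp only [dot] at h ⊢
    linarith
  have hconst : ∀ i, i + 1 ≤ m → dot (d.b i) f = dot (d.b 0) f ∧
      dot (d.b (i + 1)) f = dot (d.b 0) f := by
    intro i
    induction i with
    | zero => exact fun _ => ⟨rfl, h1⟩
    | succ i ih =>
      intro hi
      obtain ⟨a, b⟩ := ih (by omega)
      refine ⟨b, ?_⟩
      have h := h2 (i + 1)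
      rw [dot, Finset.sum_congr rfl fun x _ => by
        rw [d.M_b (i + 1) (by omega) (by omega) x, add_mul], Finset.sum_add_distrib] at h
      simp only [Nat.add_sub_cancel] at h
      simp only [dot] at h a b ⊢
      linarith
  have hall : ∀ i, i ≤ m → dot (d.b i) f = dot (d.b 0) f := by
    intro i hi
    rcases i with _ | i
    · rfl
    · exact (hconst i hi).2
  have htop : dot (d.b m) f = 0 := Finset.sum_eq_zero fun x _ => by rw [d.b_top, zero_mul]
  rw [hall j hj, ← hall m le_rfl, htop]

namespace Chain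

variable {d} (k : Chain d)

/-- The value of a function at the fork or at a level of the first chain. -/
noncomputable def gP (f : ι → ℤ) (r : ℕ) : ℤ := if r = 0 then f k.s₁ + f k.s₂ else f (k.p r)

theorem sum_prevP {r : ℕ} (h1 : 1 ≤ r) (f : ι → ℤ) :
    ∑ z, k.prevP r z * f z = k.gP f (r - 1) := by
  unfold prevP gP
  split_ifs with h h' h'
  · simp [add_mul, Finset.sum_add_distrib, sum_mul_dlt']
  · omega
  · omega
  · exact sum_mul_dlt' f _

theorem app_p {r : ℕ} (h1 : 1 ≤ r) (h2 : r + 1 < m) (f : ι → ℤ) :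
    app d.M f (k.p r) = k.gP f (r - 1) + k.gP f (r + 1) := by
  rw [app, ← k.sum_prevP h1, gP, if_neg (by omega : ¬r + 1 = 0), ← sum_mul_dlt' f (k.p (r + 1)),
    ← Finset.sum_add_distrib]
  exact Finset.sum_congr rfl fun z _ => by rw [d.M_symm, k.M_p_eq h1 h2]; ring

theorem app_p_last (f : ι → ℤ) :
    app d.M f (k.p (m - 1)) = k.gP f (m - 2) + ∑ z, k.free (m - 1) z * f z := by
  have hm := d.two_le
  rw [app, show m - 2 = m - 1 - 1 by omega, ← k.sum_prevP (by omega), ← Finset.sum_add_distrib]
  refine Finset.sum_congr rfl fun z _ => ?_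
  rw [d.M_symm]
  simp only [free, nextP]
  rw [if_pos (by omega : m - 1 + 1 = m)]
  ring

theorem exists_free : ∃ z, k.free (m - 1) z ≠ 0 := by
  have hm := d.two_le
  by_contra hc
  push Not at hc
  set v := k.p (m - 1) with hv
  set a : ι → ℤ := fun z => d.A z v with ha
  have hMa : ∀ x, app d.M a x = 2 * a x := d.MA v
  have hv0 : d.ht v ≠ 0 := d.level_ht (j := m - 1) (by omega) (by omega) (k.p_mem _ (by omega) (by omega))
  have hav : 4 ≤ a v := by
    have hd : (4 : ℤ) ∣ a v := by
      refine dvd_trans ?_ (d.dvd_A_succ v v hv0)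
      rw [show (4 : ℤ) = 2 ^ 2 by norm_num]
      exact pow_dvd_pow _ (by omega)
    have := d.diag_pos v
    obtain ⟨c, hc'⟩ := hd
    simp only [ha] at hc' ⊢
    omega
  have hlin : ∀ j, j ≤ m → k.gP a (m - j) = if j = 0 then k.gP a m else (j : ℤ) * a v := by
    intro j
    induction j using Nat.strong_induction_on with
    | _ j ih =>
      intro hj
      rcases j with _ | _ | _ | j
      · rfl
      · rw [gP, if_neg (by omega : ¬(m - (0 + 1)) = 0), show m - (0 + 1) = m - 1 by omega, ← hv]
        simp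
      · have h := k.app_p_last a
        rw [hMa, Finset.sum_eq_zero (fun z _ => by rw [hc z, zero_mul]), add_zero, ← hv] at h
        rw [show m - (0 + 1 + 1) = m - 2 by omega, ← h]
        simp
      · have h := k.app_p (r := m - (j + 2)) (by omega) (by omega) a
        rw [hMa, show m - (j + 2) - 1 = m - (j + 1 + 1 + 1) by omega,
          show m - (j + 2) + 1 = m - (j + 1) by omega] at h
        have i1 := ih (j + 2) (by omega) (by omega)
        have i2 := ih (j + 1) (by omega) (by omega)
        rw [gP, if_neg (by omega : ¬(m - (j + 2)) = 0)] at i1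
        simp only [Nat.succ_ne_zero, if_false] at i1 i2 ⊢
        rw [i1, i2] at h
        push_cast at h i1 i2 ⊢
        linarith
  have hfork := hlin m le_rfl
  rw [Nat.sub_self, if_neg (by omega : ¬m = 0), gP, if_pos rfl] at hfork
  have hfork' : a k.s₃ + a k.s₄ = (m : ℤ) * a v := by
    have h := d.dot_b_eq_zero hMa (Nat.zero_le m)
    rw [dot, Finset.sum_congr rfl fun x _ => mul_comm _ _, k.sum_b0] at h
    linarith
  have hq : a (k.q (m - 1)) = a v := by
    have h := d.dot_b_eq_zero hMa (show m - 1 ≤ m by omega)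
    rw [dot, Finset.sum_congr rfl fun x _ => mul_comm _ _, k.sum_b (by omega) (by omega), ← hv] at h
    linarith
  have hrow : ∑ z, a z * a z = 8 * (m : ℤ) * a v := by
    rw [← d.row_sq v]
    exact Finset.sum_congr rfl fun z _ => by simp only [ha]; rw [d.A_symm z v]
  have hbound : ∑ z, (a z * a z * d.b 0 z) * d.b 0 z +
      ∑ z, (a z * a z * d.b (m - 1) z) * d.b (m - 1) z ≤ 8 * (m : ℤ) * a v := by
    rw [← hrow, ← Finset.sum_add_distrib]
    refine Finset.sum_le_sum fun z _ => ?_
    have h0 := d.b0_sq z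
    have h1 := d.single_le_level (show 1 ≤ m - 1 by omega) (by omega) z
    have h2 := d.level_sq_le z
    split_ifs at h0 with hz
    · have h3 := d.b_eq_zero_of_ht hz (show 1 ≤ m - 1 by omega) (by omega)
      rw [h3]
      nlinarith
    · nlinarith [mul_self_nonneg (a z)]
  obtain ⟨e1, e2, e3, e4⟩ := k.b0_one
  rw [k.sum_b0, k.sum_b (by omega) (by omega), e1, e2, e3, e4, k.b_p _ (by omega) (by omega),
    k.b_q _ (by omega) (by omega), ← hv, hq] at hbound
  have hm' : (2 : ℤ) ≤ m := by exact_mod_cast hm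
  have hs1 : ((m : ℤ) * a v) ^ 2 ≤ 2 * (a k.s₁ ^ 2 + a k.s₂ ^ 2) := by
    rw [← hfork]; nlinarith [sq_nonneg (a k.s₁ - a k.s₂)]
  have hs2 : ((m : ℤ) * a v) ^ 2 ≤ 2 * (a k.s₃ ^ 2 + a k.s₄ ^ 2) := by
    rw [← hfork']; nlinarith [sq_nonneg (a k.s₃ - a k.s₄)]
  have h8 : a v * ((m : ℤ) ^ 2 + 2) ≤ 8 * m := by
    refine le_of_mul_le_mul_left ?_ (show (0 : ℤ) < a v by omega)
    nlinarith
  nlinarith [sq_nonneg ((m : ℤ) - 1)]

end Chain

/-- The chains joined by a further vertex, all signs normalised. -/
structure Full (d : QData ι m) extends Chain d where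
  w : ι
  w_ht : d.ht w ≠ 0
  w_b : ∀ r, r ≤ m → d.b r w = 0
  free_last : ∀ z, toChain.free (m - 1) z = dlt z w

/-- Signs normalising the whole configuration exist. -/
theorem exists_full :
    ∃ (σ : ι → ℤ) (hσ : ∀ x, σ x * σ x = 1) (σ' : ι → ℤ) (hσ' : ∀ x, σ' x * σ' x = 1),
      Nonempty (Full ((d.twist σ hσ).twist σ' hσ')) := by
  obtain ⟨σ, hσ, ⟨k⟩⟩ := d.exists_chain
  set e := d.twist σ hσ
  have hm := e.two_le
  have h1 : 1 ≤ m - 1 := by omega
  have h2 : m - 1 < m := by omega
  obtain ⟨w, hw⟩ := k.exists_free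
  have hb := (k.free_bound h1 h2).1
  have hnp : 2 ≤ dot (e.b (m - 1 - 1)) (e.b (m - 1 - 1)) := by
    rcases Nat.eq_zero_or_pos (m - 1 - 1) with h | h
    · rw [h, e.norm_zero]; norm_num
    · rw [e.norm _ h (by omega)]
  have hnn : 0 ≤ dot (e.b (m - 1 + 1)) (e.b (m - 1 + 1)) :=
    Finset.sum_nonneg fun z _ => mul_self_nonneg _
  have hsum : ∑ z, k.free (m - 1) z * k.free (m - 1) z ≤ 1 := by omega
  have hw1 : k.free (m - 1) w * k.free (m - 1) w = 1 := by
    have := int_sq_ge_one hw
    have := Finset.single_le_sum (f := fun z => k.free (m - 1) z * k.free (m - 1) z)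
      (fun z _ => mul_self_nonneg _) (Finset.mem_univ w)
    linarith
  have hother : ∀ z, z ≠ w → k.free (m - 1) z = 0 := by
    intro z hz
    by_contra h
    have := int_sq_ge_one h
    have h3 : k.free (m - 1) z * k.free (m - 1) z + k.free (m - 1) w * k.free (m - 1) w ≤
        ∑ y, k.free (m - 1) y * k.free (m - 1) y := by
      rw [← Finset.sum_pair (f := fun y => k.free (m - 1) y * k.free (m - 1) y) hz]
      exact Finset.sum_le_sum_of_subset_of_nonneg (Finset.subset_univ _)
        fun y _ _ => mul_self_nonneg _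
    linarith
  -- `w` is not adjacent to the last level
  have hadj : k.prevP (m - 1) w + k.prevQ (m - 1) w + k.nextP (m - 1) w + k.nextQ (m - 1) w = 0 := by
    rcases k.free_adj h1 h2 w with ⟨e1, -⟩ | ⟨-, e3, -⟩
    · exact e1
    · exact absurd e3 hw
  have hnext : k.nextP (m - 1) w = 0 ∧ k.nextQ (m - 1) w = 0 := by
    simp only [Chain.nextP, Chain.nextQ]
    rw [if_pos (by omega : m - 1 + 1 = m), if_pos (by omega : m - 1 + 1 = m)]
    exact ⟨rfl, rfl⟩
  have hne : ∀ z, z = k.s₁ ∨ z = k.s₂ → m = 2 → 1 ≤ k.prevP (m - 1) z ∧ k.prevQ (m - 1) z = 0 := by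
    intro z hz hm2
    simp only [Chain.prevP, Chain.prevQ]
    rw [if_pos (by omega : m - 1 = 1), if_pos (by omega : m - 1 = 1)]
    rcases hz with rfl | rfl <;>
      simp [dlt, k.ne12, k.ne13, k.ne14, k.ne23, k.ne24, k.ne12.symm]
  have hne' : ∀ z, z = k.s₃ ∨ z = k.s₄ → m = 2 → 1 ≤ k.prevQ (m - 1) z ∧ k.prevP (m - 1) z = 0 := by
    intro z hz hm2
    simp only [Chain.prevP, Chain.prevQ]
    rw [if_pos (by omega : m - 1 = 1), if_pos (by omega : m - 1 = 1)]
    rcases hz with rfl | rfl <;>
      simp [dlt, k.ne34, k.ne13.symm, k.ne14.symm, k.ne23.symm, k.ne24.symm, k.ne34.symm]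
  have hw_ht : e.ht w ≠ 0 := by
    intro h0
    rcases eq_or_lt_of_le hm with hm2 | hm3
    · rw [hnext.1, hnext.2] at hadj
      rcases (k.ht_iff w).1 h0 with h | h | h | h
      · have := hne w (Or.inl h) hm2.symm; omega
      · have := hne w (Or.inr h) hm2.symm; omega
      · have := hne' w (Or.inl h) hm2.symm; omega
      · have := hne' w (Or.inr h) hm2.symm; omega
    · have hv := k.p_mem (m - 1) h1 h2
      have h := k.app_p_last (e.b 0)
      rw [e.M_b0, e.b_off h1 h2 hv (i := 1) (by omega) (by omega),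
        Fintype.sum_eq_single w fun z hz => by rw [hother z hz, zero_mul], Chain.gP,
        if_neg (by omega : ¬m - 2 = 0),
        e.b_off (j := m - 2) (by omega) (by omega) (k.p_mem (m - 2) (by omega) (by omega))
          (i := 0) (by omega) (by omega)] at h
      rcases e.b0_cases h0 with e' | e' <;> rw [e'] at h <;> omega
  have hw_p : ∀ r, 1 ≤ r → r < m → w ≠ k.p r ∧ w ≠ k.q r := by
    intro r hr hrm
    rcases eq_or_lt_of_le (show r ≤ m - 1 by omega) with rfl | hlt
    · have hzero : ∀ r' z, r' = m - 1 → k.nextP r' z = 0 ∧ k.nextQ r' z = 0 := fun r' z hr' => by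
        simp only [Chain.nextP, Chain.nextQ]
        rw [if_pos (by omega : r' + 1 = m), if_pos (by omega : r' + 1 = m)]
        exact ⟨rfl, rfl⟩
      have hprev : ∀ z, (z = k.p (m - 1) ∨ z = k.q (m - 1)) →
          k.prevP (m - 1) z = 0 ∧ k.prevQ (m - 1) z = 0 := by
        intro z hz
        have hbz : e.b (m - 1) z ≠ 0 := by
          rcases hz with rfl | rfl
          · exact k.p_mem _ h1 h2
          · exact k.q_mem _ h1 h2
        simp only [Chain.prevP, Chain.prevQ]
        split_ifs with h
        · have hht := e.level_ht h1 h2 hbz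
          have hd : ∀ s, e.ht s = 0 → dlt z s = 0 := fun s hs => dlt_ne fun e' => hht (e' ▸ hs)
          rw [hd _ ((k.ht_iff _).2 (by simp)), hd _ ((k.ht_iff _).2 (by simp)),
            hd _ ((k.ht_iff _).2 (by simp)), hd _ ((k.ht_iff _).2 (by simp))]
          simp
        · exact ⟨dlt_ne fun e' => k.p_mem (m - 1 - 1) (by omega) (by omega)
              (e' ▸ e.b_off h1 h2 hbz (by omega) (by omega)),
            dlt_ne fun e' => k.q_mem (m - 1 - 1) (by omega) (by omega)
              (e' ▸ e.b_off h1 h2 hbz (by omega) (by omega))⟩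
      have hpq : k.free (m - 1) (k.p (m - 1)) = k.free (m - 1) (k.q (m - 1)) := by
        have hp := k.M_q_eq h1 h2 (k.p (m - 1))
        rw [(hprev _ (Or.inl rfl)).2, (hzero _ _ rfl).2] at hp
        simp only [Chain.free] at hp ⊢
        rw [(hprev _ (Or.inl rfl)).1, (hzero _ _ rfl).1] at hp ⊢
        rw [(hprev _ (Or.inr rfl)).1, (hzero _ _ rfl).1]
        rw [e.M_symm] at hp
        linarith
      have hpne := k.pq_ne _ h1 h2
      constructor
      · rintro rfl
        exact hw (hpq.trans (hother _ hpne.symm))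
      · rintro rfl
        exact hw (hpq.symm.trans (hother _ hpne))
    · constructor
      · rintro rfl
        have h := k.M_p_eq hr (by omega) (k.p (m - 1))
        have hpv := k.M_q_eq h1 h2 (k.p r)
        apply hw
        simp only [Chain.free]
        rw [e.M_symm, h, hnext.1]
        rw [hnext.1, hnext.2] at hadj
        have hbv := k.p_mem _ h1 h2
        have hp0 : k.prevP r (k.p (m - 1)) = 0 := by
          simp only [Chain.prevP]
          split_ifs with h'
          · have hht := e.level_ht h1 h2 hbv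
            have hd : ∀ s, e.ht s = 0 → dlt (k.p (m - 1)) s = 0 := fun s hs =>
              dlt_ne fun e' => hht (e' ▸ hs)
            rw [hd _ ((k.ht_iff _).2 (by simp)), hd _ ((k.ht_iff _).2 (by simp))]
            ring
          · exact dlt_ne fun e' => k.p_mem (r - 1) (by omega) (by omega)
              (e' ▸ e.b_off h1 h2 hbv (by omega) (by omega))
        rw [hp0]
        rcases eq_or_lt_of_le (show r + 1 ≤ m - 1 by omega) with h' | h'
        · exfalso
          have e1 : (1 : ℤ) ≤ k.prevP (m - 1) (k.p r) := by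
            simp only [Chain.prevP]
            rw [if_neg (by omega : ¬m - 1 = 1), show m - 1 - 1 = r by omega, dlt_self]
          have e2 : (0 : ℤ) ≤ k.prevQ (m - 1) (k.p r) := by
            simp only [Chain.prevQ]
            rw [if_neg (by omega : ¬m - 1 = 1)]
            rcases dlt_cases (k.p r) (k.q (m - 1 - 1)) with ⟨a, -⟩ | ⟨a, -⟩ <;> rw [a]
            norm_num
          linarith
        · have e1 : k.prevP (m - 1) (k.p r) = 0 := by
            simp only [Chain.prevP]
            rw [if_neg (by omega : ¬m - 1 = 1)]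
            exact dlt_ne fun e' => k.p_mem (m - 1 - 1) (by omega) (by omega)
              (e' ▸ e.b_off hr (by omega) (k.p_mem r hr (by omega)) (by omega) (by omega))
          rw [e1, dlt_ne (fun e' : k.p (m - 1) = k.p (r + 1) => k.p_mem (r + 1) (by omega) (by omega)
            (e' ▸ e.b_off h1 h2 hbv (by omega) (by omega)))]
          ring
      · rintro rfl
        have h := k.M_q_eq' hr (by omega) (k.p (m - 1))
        apply hw
        simp only [Chain.free]
        rw [e.M_symm, h, hnext.1]
        rw [hnext.1, hnext.2] at hadj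
        have hbv := k.p_mem _ h1 h2
        have hp0 : k.prevQ r (k.p (m - 1)) = 0 := by
          simp only [Chain.prevQ]
          split_ifs with h'
          · have hht := e.level_ht h1 h2 hbv
            have hd : ∀ s, e.ht s = 0 → dlt (k.p (m - 1)) s = 0 := fun s hs =>
              dlt_ne fun e' => hht (e' ▸ hs)
            rw [hd _ ((k.ht_iff _).2 (by simp)), hd _ ((k.ht_iff _).2 (by simp))]
            ring
          · exact dlt_ne fun e' => k.q_mem (r - 1) (by omega) (by omega)
              (e' ▸ e.b_off h1 h2 hbv (by omega) (by omega))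
        have hdl : dlt (k.p (m - 1)) (k.q (r + 1)) = 0 := by
          rcases eq_or_lt_of_le (show r + 1 ≤ m - 1 by omega) with h' | h'
          · rw [h']; exact dlt_ne (k.pq_ne _ h1 h2)
          · exact dlt_ne fun e' => k.q_mem (r + 1) (by omega) (by omega)
              (e' ▸ e.b_off h1 h2 hbv (by omega) (by omega))
        have e1 : k.prevP (m - 1) (k.q r) = 0 := by
          simp only [Chain.prevP]
          rw [if_neg (by omega : ¬m - 1 = 1)]
          rcases eq_or_lt_of_le (show r + 1 ≤ m - 1 by omega) with h' | h'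
          · rw [show m - 1 - 1 = r by omega]; exact dlt_ne (k.pq_ne r hr (by omega)).symm
          · exact dlt_ne fun e' => k.p_mem (m - 1 - 1) (by omega) (by omega)
              (e' ▸ e.b_off hr (by omega) (k.q_mem r hr (by omega)) (by omega) (by omega))
        rw [hp0, hdl, e1]
        ring
  have hw_b : ∀ r, r ≤ m → e.b r w = 0 := by
    intro r hr
    rcases Nat.eq_zero_or_pos r with rfl | h0
    · exact e.b0_eq_zero hw_ht
    rcases eq_or_lt_of_le hr with rfl | hlt
    · exact e.b_top w
    · exact k.level r h0 hlt w (hw_p r h0 hlt).1 (hw_p r h0 hlt).2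
  -- the sign at `w`
  let σ' : ι → ℤ := fun z => if z = w then k.free (m - 1) w else 1
  have hσ' : ∀ z, σ' z * σ' z = 1 := fun z => by
    simp only [σ']
    split_ifs
    · exact hw1
    · norm_num
  refine ⟨σ, hσ, σ', hσ', ⟨?_⟩⟩
  have hone : ∀ z, z ≠ w → σ' z = 1 := fun z hz => if_neg hz
  have hsb : ∀ r z, r ≤ m → σ' z * e.b r z = e.b r z := by
    intro r z hr
    by_cases hz : z = w
    · rw [hz, hw_b r hr, mul_zero]
    · rw [hone z hz, one_mul]
  have hσp : ∀ r, 1 ≤ r → r < m → σ' (k.p r) = 1 ∧ σ' (k.q r) = 1 := fun r a b =>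
    ⟨hone _ (hw_p r a b).1.symm, hone _ (hw_p r a b).2.symm⟩
  have hσs : ∀ x, e.ht x = 0 → σ' x = 1 := fun x hx => hone x fun h => hw_ht (h ▸ hx)
  let k' : Chain (e.twist σ' hσ') :=
  { s₁ := k.s₁, s₂ := k.s₂, s₃ := k.s₃, s₄ := k.s₄, p := k.p, q := k.q
    ne12 := k.ne12, ne13 := k.ne13, ne14 := k.ne14, ne23 := k.ne23, ne24 := k.ne24, ne34 := k.ne34
    ht_iff := k.ht_iff
    p_mem := fun r a b => by show σ' _ * e.b r _ ≠ 0; rw [hsb r _ (by omega)]; exact k.p_mem r a b
    q_mem := fun r a b => by show σ' _ * e.b r _ ≠ 0; rw [hsb r _ (by omega)]; exact k.q_mem r a b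
    pq_ne := k.pq_ne
    level := fun r a b x hxp hxq => by
      show σ' x * e.b r x = 0
      rw [k.level r a b x hxp hxq, mul_zero]
    p_q_zero := fun r a b => by
      show _ * e.M _ _ = 0; rw [k.p_q_zero r a b, mul_zero]
    q_p_zero := fun r a b => by
      show _ * e.M _ _ = 0; rw [k.q_p_zero r a b, mul_zero]
    p_s₃ := by show _ * e.M _ _ = 0; rw [k.p_s₃, mul_zero]
    p_s₄ := by show _ * e.M _ _ = 0; rw [k.p_s₄, mul_zero]
    q_s₁ := by show _ * e.M _ _ = 0; rw [k.q_s₁, mul_zero]
    q_s₂ := by show _ * e.M _ _ = 0; rw [k.q_s₂, mul_zero]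
    b0_one := by
      obtain ⟨e1, e2, e3, e4⟩ := k.b0_one
      refine ⟨?_, ?_, ?_, ?_⟩ <;> show σ' _ * e.b 0 _ = _ <;> rw [hsb 0 _ (by omega)] <;>
        assumption
    b_p := fun r a b => by show σ' _ * e.b r _ = 1; rw [hsb r _ (by omega)]; exact k.b_p r a b
    b_q := fun r a b => by show σ' _ * e.b r _ = -1; rw [hsb r _ (by omega)]; exact k.b_q r a b }
  refine { toChain := k', w := w, w_ht := hw_ht, w_b := fun r hr => ?_, free_last := fun z => ?_ }
  · show σ' w * e.b r w = 0
    rw [hw_b r hr, mul_zero]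
  · show σ' z * σ' (k.p (m - 1)) * e.M z (k.p (m - 1)) - k.prevP (m - 1) z -
      k.nextP (m - 1) z = dlt z w
    rw [(hσp _ h1 h2).1, mul_one]
    by_cases hz : z = w
    · subst hz
      rw [dlt_self]
      have : k.prevP (m - 1) z = 0 ∧ k.nextP (m - 1) z = 0 := by
        refine ⟨?_, hnext.1⟩
        rw [hnext.1, hnext.2] at hadj
        rcases k.free_adj h1 h2 z with ⟨e1, e2⟩ | ⟨-, e3, -⟩
        · rw [hnext.1, hnext.2] at e1 e2
          linarith
        · exact absurd e3 hw
      rw [this.1, this.2]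
      have hf : k.free (m - 1) z = e.M z (k.p (m - 1)) := by
        simp only [Chain.free, this.1, this.2, sub_zero]
      simp only [σ', if_true, hf]
      rw [hf] at hw1
      linarith
    · rw [hone z hz, one_mul, dlt_ne hz]
      exact hother z hz

end QData

end CfsgLib.QuatBlocks.Comb
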