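import Cfsg.Agent.Lib.QuatBlocks.CombKernel

/-!
# The rows outside the chains
-/

set_option autoImplicit false
set_option maxHeartbeats 800000

open Finset
open scoped Classical

namespace CfsgLib.QuatBlocks.Comb

universe u v

variable {ι : Type u} [Fintype ι]

theorem sum_sq_ge_one {a b c : ℤ} (h : a + b = -c) (hc : c ≠ 0) : 1 ≤ a * a + b * b := by
  rcases eq_or_ne a 0 with h0 | h0
  · subst h0
    have hb : b ≠ 0 := fun hb => hc (by linarith)
    linarith [int_sq_ge_one hb]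
  · linarith [int_sq_ge_one h0, mul_self_nonneg b]

namespace QData

namespace Full

variable {m : ℕ} {d : QData ι m} (k : Full d)

theorem row_int {x : ι} (hb : ∀ r, 1 ≤ r → r < m → d.b r x = 0) (f : ι → ℤ) :
    app d.M f x =
      d.M x k.s₁ * f k.s₁ + d.M x k.s₂ * f k.s₂ + d.M x k.s₃ * f k.s₃ + d.M x k.s₄ * f k.s₄ +
      ((dlt x k.s₁ + dlt x k.s₂) * f (k.p 1) + (dlt x k.s₃ + dlt x k.s₄) * f (k.q 1)) +
      dlt x k.w * (f (k.p (m - 1)) + f (k.q (m - 1))) +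
      d.M x k.w * f k.w + ∑ y ∈ k.R, d.M x y * f y := by
  have h := k.row_outside (K := ℤ) hb f
  simp only [Int.cast_id] at h
  exact h

/-- A vector constant along the chains, up to the signs `ε`. -/
noncomputable def uvec (ε : ℤ) (x : ι) : ℤ :=
  d.b 0 x * d.b 0 x + 2 * (∑ r ∈ Ico 1 m, ε ^ r * (d.b r x * d.b r x)) + 2 * dlt x k.w

theorem uvec_p (ε : ℤ) {r : ℕ} (h1 : 1 ≤ r) (h2 : r < m) :
    k.uvec ε (k.p r) = 2 * ε ^ r ∧ k.uvec ε (k.q r) = 2 * ε ^ r := by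
  have key : ∀ x, d.b r x ≠ 0 → d.b r x * d.b r x = 1 → x ≠ k.w → k.uvec ε x = 2 * ε ^ r := by
    intro x hx hx1 hw
    simp only [uvec]
    rw [d.b0_eq_zero (d.level_ht h1 h2 hx), dlt_ne hw, Finset.sum_eq_single r]
    · rw [hx1]; ring
    · intro j hj hne
      obtain ⟨a, b⟩ := Finset.mem_Ico.1 hj
      rw [d.b_off h1 h2 hx hne b.le, mul_zero, mul_zero]
    · intro h
      exact absurd (Finset.mem_Ico.2 ⟨h1, h2⟩) h
  exact ⟨key _ (k.p_mem r h1 h2) (by rw [k.b_p r h1 h2]; norm_num) (k.w_ne_p h1 h2).1.symm,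
    key _ (k.q_mem r h1 h2) (by rw [k.b_q r h1 h2]; norm_num) (k.w_ne_p h1 h2).2.symm⟩

theorem uvec_w (ε : ℤ) : k.uvec ε k.w = 2 := by
  simp only [uvec]
  rw [k.w_b 0 (Nat.zero_le _), dlt_self, Finset.sum_eq_zero]
  · ring
  · intro j hj
    rw [k.w_b j (Finset.mem_Ico.1 hj).2.le, mul_zero, mul_zero]

theorem uvec_s (ε : ℤ) {x : ι} (hx : d.ht x = 0) : k.uvec ε x = 1 := by
  simp only [uvec]
  rw [d.b0_sq, if_pos hx, (k.s_facts hx).2, Finset.sum_eq_zero]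
  · ring
  · intro j hj
    rw [(k.s_facts hx).1 j (Finset.mem_Ico.1 hj).1 (Finset.mem_Ico.1 hj).2, mul_zero, mul_zero]

theorem uvec_R (ε : ℤ) {x : ι} (hx : x ∈ k.R) : k.uvec ε x = 0 := by
  simp only [uvec]
  rw [d.b0_eq_zero (k.mem_R.1 hx).1, (k.R_facts hx).2.2.2.2, Finset.sum_eq_zero]
  · ring
  · intro j hj
    rw [(k.mem_R.1 hx).2.2 j (Finset.mem_Ico.1 hj).1 (Finset.mem_Ico.1 hj).2, mul_zero, mul_zero]

theorem hP_uvec {ε : ℤ} (hε : ε ^ m = 1) {j : ℕ} (hj : j ≤ m) :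
    k.hP (k.uvec ε) j = 2 * ε ^ j ∧ k.hQ (k.uvec ε) j = 2 * ε ^ j := by
  obtain ⟨a, b, c, e⟩ := k.ht_s
  simp only [hP, hQ]
  rcases Nat.eq_zero_or_pos j with rfl | h0
  · rw [if_pos rfl, if_pos rfl, k.uvec_s ε a, k.uvec_s ε b, k.uvec_s ε c, k.uvec_s ε e]
    norm_num
  · rw [if_neg (by omega : ¬j = 0), if_neg (by omega : ¬j = 0)]
    rcases eq_or_lt_of_le hj with rfl | hlt
    · rw [if_pos rfl, if_pos rfl, k.uvec_w, hε]
      norm_num
    · rw [if_neg hlt.ne, if_neg hlt.ne]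
      exact k.uvec_p ε h0 hlt

theorem app_uvec_p {ε : ℤ} (hε : ε ^ m = 1) (h2ε : ε * ε = 1) {r : ℕ} (h1 : 1 ≤ r) (h2 : r < m) :
    app d.M (k.uvec ε) (k.p r) = 2 * ε * k.uvec ε (k.p r) ∧
      app d.M (k.uvec ε) (k.q r) = 2 * ε * k.uvec ε (k.q r) := by
  have e1 : app d.M (k.uvec ε) (k.p r) = k.hP (k.uvec ε) (r - 1) + k.hP (k.uvec ε) (r + 1) := by
    have h := k.row_p (K := ℤ) h1 h2 (k.uvec ε)
    simp only [Int.cast_id] at h
    exact h
  have e2 : app d.M (k.uvec ε) (k.q r) = k.hQ (k.uvec ε) (r - 1) + k.hQ (k.uvec ε) (r + 1) := by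
    have h := k.row_q (K := ℤ) h1 h2 (k.uvec ε)
    simp only [Int.cast_id] at h
    exact h
  rw [e1, e2, (k.hP_uvec hε (show r - 1 ≤ m by omega)).1,
    (k.hP_uvec hε (show r + 1 ≤ m by omega)).1, (k.hP_uvec hε (show r - 1 ≤ m by omega)).2,
    (k.hP_uvec hε (show r + 1 ≤ m by omega)).2, (k.uvec_p ε h1 h2).1, (k.uvec_p ε h1 h2).2]
  obtain ⟨j, rfl⟩ : ∃ j, r = j + 1 := ⟨r - 1, by omega⟩
  rw [Nat.add_sub_cancel, pow_succ ε (j + 1), pow_succ ε j]
  constructor <;> linear_combination (-2 * ε ^ j) * h2ε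

/-- The row sum over the forks and `w`, weighted as in `uvec`. -/
noncomputable def E (x : ι) : ℤ :=
  d.M x k.s₁ + d.M x k.s₂ + d.M x k.s₃ + d.M x k.s₄ + 2 * d.M x k.w

theorem app_uvec_outside (ε : ℤ) {x : ι} (hb : ∀ r, 1 ≤ r → r < m → d.b r x = 0) :
    app d.M (k.uvec ε) x = k.E x +
      (dlt x k.s₁ + dlt x k.s₂ + dlt x k.s₃ + dlt x k.s₄) * (2 * ε) +
      dlt x k.w * (4 * ε ^ (m - 1)) := by
  have hm := d.two_le
  obtain ⟨a, b, c, e⟩ := k.ht_s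
  rw [k.row_int hb, k.uvec_s ε a, k.uvec_s ε b, k.uvec_s ε c, k.uvec_s ε e, k.uvec_w,
    (k.uvec_p ε le_rfl (by omega)).1, (k.uvec_p ε le_rfl (by omega)).2,
    (k.uvec_p ε (show 1 ≤ m - 1 by omega) (by omega)).1,
    (k.uvec_p ε (show 1 ≤ m - 1 by omega) (by omega)).2,
    Finset.sum_eq_zero fun y hy => by rw [k.uvec_R ε hy, mul_zero]]
  simp only [E, pow_one]
  ring

omit k in
include d in
theorem eps_pow : (-1 : ℤ) ^ m = 1 ∧ (-1 : ℤ) ^ (m - 1) = -1 := by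
  refine ⟨d.even_m.neg_one_pow, Odd.neg_one_pow ?_⟩
  obtain ⟨j, hj⟩ := d.even_m
  have := d.two_le
  exact ⟨j - 1, by omega⟩

/-- The vector `uvec` is an eigenvector for two. -/
theorem app_uvec (x : ι) : app d.M (k.uvec 1) x = 2 * k.uvec 1 x := by
  refine d.eq_two (k.uvec 1) ?_ x
  have hm := d.two_le
  obtain ⟨a, b, c, e⟩ := k.ht_s
  obtain ⟨w1, w2, w3, w4⟩ := k.w_s
  obtain ⟨hε, hε'⟩ := eps_pow (d := d)
  set X := k.E k.s₁ + k.E k.s₂ + k.E k.s₃ + k.E k.s₄ + 2 * k.E k.w with hX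
  have key : ∀ ε : ℤ, ε ^ m = 1 → ε * ε = 1 → ε ^ (m - 1) = ε →
      ∑ x, (k.uvec ε x * app d.M (k.uvec ε) x - 2 * ε * (k.uvec ε x * k.uvec ε x)) = X := by
    intro ε he he2 he'
    have hs : ∀ s, d.ht s = 0 → app d.M (k.uvec ε) s = k.E s + 2 * ε := by
      intro s hs
      rw [k.app_uvec_outside ε (k.s_facts hs).1, (k.s_facts hs).2]
      have h4 : dlt s k.s₁ + dlt s k.s₂ + dlt s k.s₃ + dlt s k.s₄ = 1 := by
        rcases (k.ht_iff s).1 hs with rfl | rfl | rfl | rfl <;>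
          simp [dlt, k.ne12, k.ne13, k.ne14, k.ne23, k.ne24, k.ne34, k.ne12.symm, k.ne13.symm,
            k.ne14.symm, k.ne23.symm, k.ne24.symm, k.ne34.symm]
      rw [h4]; ring
    rw [k.sum_split, Finset.sum_eq_zero (s := Ico 1 m), Finset.sum_eq_zero (s := k.R)]
    · rw [hs _ a, hs _ b, hs _ c, hs _ e, k.app_uvec_outside ε (x := k.w)
        (fun r _ hr => k.w_b r hr.le), dlt_self, w1, w2, w3, w4, k.uvec_w, k.uvec_s ε a,
        k.uvec_s ε b, k.uvec_s ε c, k.uvec_s ε e, he', hX]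
      ring
    · intro y hy
      rw [k.uvec_R ε hy]; ring
    · intro r hr
      obtain ⟨h1, h2⟩ := Finset.mem_Ico.1 hr
      rw [(k.app_uvec_p he he2 h1 h2).1, (k.app_uvec_p he he2 h1 h2).2]
      ring
  have hp := key 1 (one_pow _) (one_mul _) (one_pow _)
  have hn := key (-1) hε (by norm_num) hε'
  simp only [Finset.sum_sub_distrib, ← Finset.mul_sum] at hp hn
  have hle := d.le_two (k.uvec 1)
  have hge := d.ge_two (k.uvec (-1))
  simp only [dot] at hle hge ⊢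
  linarith

/-- The entries of a row off the chains towards a fork. -/
theorem fork {x : ι} (hb : ∀ r, 1 ≤ r → r < m → d.b r x = 0) :
    d.M x k.s₁ + d.M x k.s₂ = -d.M x k.w ∧ d.M x k.s₃ + d.M x k.s₄ = -d.M x k.w := by
  have hm := d.two_le
  have h0 : d.M x k.s₁ + d.M x k.s₂ - d.M x k.s₃ - d.M x k.s₄ = 0 := by
    have h := d.M_b0 x
    rw [app, k.sum_b0, hb 1 le_rfl (by omega)] at h
    linarith
  have h := k.app_uvec x
  rw [k.app_uvec_outside 1 hb, one_pow] at h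
  have hu : 2 * k.uvec 1 x = (dlt x k.s₁ + dlt x k.s₂ + dlt x k.s₃ + dlt x k.s₄) * (2 * 1) +
      dlt x k.w * (4 * 1) := by
    by_cases hx : d.ht x = 0
    · rw [k.uvec_s 1 hx, (k.s_facts hx).2]
      rcases (k.ht_iff x).1 hx with rfl | rfl | rfl | rfl <;>
        simp [dlt, k.ne12, k.ne13, k.ne14, k.ne23, k.ne24, k.ne34, k.ne12.symm, k.ne13.symm,
          k.ne14.symm, k.ne23.symm, k.ne24.symm, k.ne34.symm]
    · by_cases hw : x = k.w
      · subst hw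
        obtain ⟨w1, w2, w3, w4⟩ := k.w_s
        rw [k.uvec_w, dlt_self, w1, w2, w3, w4]
        norm_num
      · have hR : x ∈ k.R := k.mem_R.2 ⟨hx, hw, hb⟩
        obtain ⟨r1, r2, r3, r4, rw'⟩ := k.R_facts hR
        rw [k.uvec_R 1 hR, r1, r2, r3, r4, rw']
        norm_num
  simp only [E] at h
  constructor <;> linarith

theorem row_norm {x : ι} (hb : ∀ r, 1 ≤ r → r < m → d.b r x = 0) :
    ∑ y, d.M x y * d.M x y =
      d.M x k.s₁ * d.M x k.s₁ + d.M x k.s₂ * d.M x k.s₂ + d.M x k.s₃ * d.M x k.s₃ +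
      d.M x k.s₄ * d.M x k.s₄ +
      ((dlt x k.s₁ + dlt x k.s₂) * d.M x (k.p 1) + (dlt x k.s₃ + dlt x k.s₄) * d.M x (k.q 1)) +
      dlt x k.w * (d.M x (k.p (m - 1)) + d.M x (k.q (m - 1))) +
      d.M x k.w * d.M x k.w + ∑ y ∈ k.R, d.M x y * d.M x y :=
  k.row_int hb (d.M x)

/-- The row of `w` meets no fork and has no diagonal entry. -/
theorem w_row : d.M k.w k.w = 0 ∧ d.M k.w k.s₁ = 0 ∧ d.M k.w k.s₂ = 0 ∧ d.M k.w k.s₃ = 0 ∧
    d.M k.w k.s₄ = 0 ∧ ∑ y ∈ k.R, d.M k.w y * d.M k.w y ≤ 2 := by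
  have hm := d.two_le
  obtain ⟨w1, w2, w3, w4⟩ := k.w_s
  obtain ⟨a, b, c, e⟩ := k.ht_s
  have hwb : ∀ r, 1 ≤ r → r < m → d.b r k.w = 0 := fun r _ hr => k.w_b r hr.le
  have hlast := k.M_p_outside hwb (show 1 ≤ m - 1 by omega) (show m - 1 < m by omega)
  rw [w1, w2, w3, w4, dlt_self, if_pos (by omega : m - 1 + 1 = m)] at hlast
  simp only [add_zero, zero_add, ite_self] at hlast
  have hN := k.row_norm hwb
  rw [w1, w2, w3, w4, dlt_self, hlast.1, hlast.2] at hN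
  obtain ⟨f1, f2⟩ := k.fork hwb
  have h4 := d.row_le_four k.w
  have hR : 0 ≤ ∑ y ∈ k.R, d.M k.w y * d.M k.w y :=
    Finset.sum_nonneg fun y _ => mul_self_nonneg _
  have hww : d.M k.w k.w = 0 := by
    by_contra h
    have hc : d.M k.w k.w * d.M k.w k.w ≤ 2 := by nlinarith
    rcases int_le_one_of_sq (a := d.M k.w k.w) (by omega) with h' | h' | h'
    · exact h h'
    all_goals
      have e1 := sum_sq_ge_one f1 h
      have e2 := sum_sq_ge_one f2 h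
      rw [h'] at hN
      linarith
  rw [hww] at f1 f2 hN
  have hno : ∀ s, d.ht s = 0 →
      (d.M s k.s₁ + d.M s k.s₂ = -d.M s k.w ∧ d.M s k.s₃ + d.M s k.s₄ = -d.M s k.w) →
      d.M k.w s = 0 := by
    intro s hs hfork
    by_contra h
    have hN3 := d.row_zero hs
    have hN' := k.row_norm (k.s_facts hs).1
    rw [(k.s_facts hs).2] at hN'
    rw [d.M_symm k.w s] at h
    have hsq := int_sq_ge_one h
    have e1 := sum_sq_ge_one hfork.1 h
    have e2 := sum_sq_ge_one hfork.2 h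
    have hR' : 0 ≤ ∑ y ∈ k.R, d.M s y * d.M s y :=
      Finset.sum_nonneg fun y _ => mul_self_nonneg _
    have hp := k.M_p_outside (k.s_facts hs).1 (le_refl 1) (show 1 < m by omega)
    rw [(k.s_facts hs).2, if_pos rfl, if_pos rfl, ite_self, add_zero, add_zero] at hp
    have hd : (dlt s k.s₁ + dlt s k.s₂) * d.M s (k.p 1) + (dlt s k.s₃ + dlt s k.s₄) * d.M s (k.q 1) =
        1 := by
      rcases (k.ht_iff s).1 hs with rfl | rfl | rfl | rfl <;> rw [hp.1, hp.2] <;>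
        simp [dlt, k.ne12, k.ne13, k.ne14, k.ne23, k.ne24, k.ne34, k.ne12.symm, k.ne13.symm,
          k.ne14.symm, k.ne23.symm, k.ne24.symm, k.ne34.symm]
    linarith
  have hs1 : d.M k.w k.s₁ = 0 := hno _ a (k.fork (k.s_facts a).1)
  have hs3 : d.M k.w k.s₃ = 0 := hno _ c (k.fork (k.s_facts c).1)
  refine ⟨hww, hs1, by linarith, hs3, by linarith, ?_⟩
  rw [hs1, hs3, show d.M k.w k.s₂ = 0 by linarith, show d.M k.w k.s₄ = 0 by linarith] at hN
  linarith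

end Full

end QData

end CfsgLib.QuatBlocks.Comb
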