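import Cfsg.Agent.Lib.QuatBlocks.CombEnd

/-!
# The eigenvectors for two on the joined chains
-/

set_option autoImplicit false
set_option maxHeartbeats 800000

open Finset
open scoped Classical

namespace CfsgLib.QuatBlocks.Comb

universe u v

variable {ι : Type u} [Fintype ι]

theorem sum_dlt_cast {K : Type v} [CommRing K] (f : ι → K) (a : ι) :
    ∑ y, (dlt y a : K) * f y = f a := by
  simp [dlt]

namespace QData

namespace Full

variable {m : ℕ} {d : QData ι m} (k : Full d)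

/-- The characters outside the chains and their forks. -/
noncomputable def R : Finset ι :=
  univ.filter fun x => d.ht x ≠ 0 ∧ x ≠ k.w ∧ ∀ r ∈ Ico 1 m, d.b r x = 0

theorem mem_R {x : ι} :
    x ∈ k.R ↔ d.ht x ≠ 0 ∧ x ≠ k.w ∧ ∀ r, 1 ≤ r → r < m → d.b r x = 0 := by
  simp [R, and_imp]

theorem w_ne_p {r : ℕ} (h1 : 1 ≤ r) (h2 : r < m) : k.w ≠ k.p r ∧ k.w ≠ k.q r :=
  ⟨fun h => k.p_mem r h1 h2 (h ▸ k.w_b r h2.le), fun h => k.q_mem r h1 h2 (h ▸ k.w_b r h2.le)⟩

/-- The partition of the characters. -/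
theorem one_eq (x : ι) : (1 : ℤ) = d.b 0 x * d.b 0 x +
    ∑ r ∈ Ico 1 m, (d.b r x * d.b r x) + dlt x k.w + (if x ∈ k.R then 1 else 0) := by
  by_cases h0 : d.ht x = 0
  · rw [d.b0_sq, if_pos h0, Finset.sum_eq_zero, dlt_ne, if_neg]
    · norm_num
    · exact fun h => (k.mem_R.1 h).1 h0
    · exact fun h => k.w_ht (h ▸ h0)
    · intro r hr
      obtain ⟨a, b⟩ := Finset.mem_Ico.1 hr
      rw [d.b_eq_zero_of_ht h0 a b, mul_zero]
  · rw [d.b0_sq, if_neg h0]
    by_cases hw : x = k.w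
    · subst hw
      rw [dlt_self, Finset.sum_eq_zero, if_neg]
      · norm_num
      · exact fun h => (k.mem_R.1 h).2.1 rfl
      · intro r hr
        obtain ⟨a, b⟩ := Finset.mem_Ico.1 hr
        rw [k.w_b r b.le, mul_zero]
    · rw [dlt_ne hw]
      by_cases hR : x ∈ k.R
      · rw [if_pos hR, Finset.sum_eq_zero]
        · norm_num
        · intro r hr
          obtain ⟨a, b⟩ := Finset.mem_Ico.1 hr
          rw [(k.mem_R.1 hR).2.2 r a b, mul_zero]
      · rw [if_neg hR]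
        rw [k.mem_R] at hR
        push Not at hR
        obtain ⟨r, h1, h2, h3⟩ := hR h0 hw
        rw [Finset.sum_eq_single r]
        · rcases d.b_cases (x := x) h1 h2 with e | e | e
          · exact absurd e h3
          all_goals rw [e]; norm_num
        · intro r' hr' hne
          obtain ⟨a, b⟩ := Finset.mem_Ico.1 hr'
          rw [d.b_off h1 h2 h3 hne b.le, mul_zero]
        · intro h
          exact absurd (Finset.mem_Ico.2 ⟨h1, h2⟩) h

/-- A sum over the characters, split along the configuration. -/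
theorem sum_split {K : Type v} [CommRing K] (f : ι → K) :
    ∑ x, f x = f k.s₁ + f k.s₂ + f k.s₃ + f k.s₄ +
      (∑ r ∈ Ico 1 m, (f (k.p r) + f (k.q r))) + f k.w + ∑ x ∈ k.R, f x := by
  have h : ∀ x, f x = (dlt x k.s₁ : K) * f x + (dlt x k.s₂ : K) * f x + (dlt x k.s₃ : K) * f x +
      (dlt x k.s₄ : K) * f x +
      (∑ r ∈ Ico 1 m, ((dlt x (k.p r) : K) * f x + (dlt x (k.q r) : K) * f x)) +
      (dlt x k.w : K) * f x + (if x ∈ k.R then f x else 0) := by
    intro x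
    have hb : ∀ r ∈ Ico 1 m, d.b r x * d.b r x = dlt x (k.p r) + dlt x (k.q r) := by
      intro r hr
      obtain ⟨a, b⟩ := Finset.mem_Ico.1 hr
      rw [k.b_eq a b]
      have hne := k.pq_ne r a b
      rcases dlt_cases x (k.p r) with ⟨e, -⟩ | ⟨e, rfl⟩
      · rcases dlt_cases x (k.q r) with ⟨e', -⟩ | ⟨e', -⟩ <;> rw [e, e'] <;> norm_num
      · rw [e, dlt_ne hne]; norm_num
    have h0 : d.b 0 x * d.b 0 x = dlt x k.s₁ + dlt x k.s₂ + dlt x k.s₃ + dlt x k.s₄ := by
      rw [k.b0_eq]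
      rcases dlt_cases x k.s₁ with ⟨e1, -⟩ | ⟨e1, rfl⟩
      · rcases dlt_cases x k.s₂ with ⟨e2, -⟩ | ⟨e2, rfl⟩
        · rcases dlt_cases x k.s₃ with ⟨e3, -⟩ | ⟨e3, rfl⟩
          · rcases dlt_cases x k.s₄ with ⟨e4, -⟩ | ⟨e4, -⟩ <;> rw [e1, e2, e3, e4] <;> norm_num
          · rw [e1, e2, e3, dlt_ne k.ne34]; norm_num
        · rw [e1, e2, dlt_ne k.ne23, dlt_ne k.ne24]; norm_num
      · rw [e1, dlt_ne k.ne12, dlt_ne k.ne13, dlt_ne k.ne14]; norm_num
    have h1 := k.one_eq x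
    rw [h0, Finset.sum_congr rfl hb] at h1
    have h2 := congrArg (fun z : ℤ => (z : K) * f x) h1
    simp only [Int.cast_one, one_mul, Int.cast_add, Int.cast_sum, add_mul, Finset.sum_mul,
      Int.cast_ite, Int.cast_zero, ite_mul, zero_mul] at h2
    exact h2
  rw [Finset.sum_congr rfl fun x _ => h x]
  simp only [Finset.sum_add_distrib, sum_dlt_cast]
  rw [Finset.sum_comm]
  conv_lhs => enter [1, 1, 2, 2]; rw [Finset.sum_comm]
  simp only [sum_dlt_cast, Finset.sum_ite_mem, Finset.univ_inter]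

/-- The neighbour indicator of the first chain. -/
noncomputable def nP (r : ℕ) (x : ι) : ℤ :=
  k.prevP r x + (if r + 1 = m then dlt x k.w else dlt x (k.p (r + 1)))

/-- The neighbour indicator of the second chain. -/
noncomputable def nQ (r : ℕ) (x : ι) : ℤ :=
  k.prevQ r x + (if r + 1 = m then dlt x k.w else dlt x (k.q (r + 1)))

theorem M_p {r : ℕ} (h1 : 1 ≤ r) (h2 : r < m) (x : ι) : d.M x (k.p r) = k.nP r x := by
  unfold nP
  split_ifs with h
  · have := k.free_last x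
    rw [show m - 1 = r by omega] at this
    simp only [Chain.free, Chain.nextP] at this
    rw [if_pos h] at this
    linarith
  · exact k.M_p_eq h1 (by omega) x

theorem M_q {r : ℕ} (h1 : 1 ≤ r) (h2 : r < m) (x : ι) : d.M x (k.q r) = k.nQ r x := by
  unfold nQ
  split_ifs with h
  · have := k.free_last x
    rw [show m - 1 = r by omega] at this
    rw [k.M_q_eq h1 h2, this, Chain.nextQ, if_pos h]
    ring
  · exact k.M_q_eq' h1 (by omega) x

/-- The value of a function along the first chain, from the fork to `w`. -/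
noncomputable def hP {K : Type v} [CommRing K] (f : ι → K) (r : ℕ) : K :=
  if r = 0 then f k.s₁ + f k.s₂ else if r = m then f k.w else f (k.p r)

/-- The value of a function along the second chain, from the fork to `w`. -/
noncomputable def hQ {K : Type v} [CommRing K] (f : ι → K) (r : ℕ) : K :=
  if r = 0 then f k.s₃ + f k.s₄ else if r = m then f k.w else f (k.q r)

theorem row_p {K : Type v} [CommRing K] {r : ℕ} (h1 : 1 ≤ r) (h2 : r < m) (f : ι → K) :
    ∑ y, (d.M (k.p r) y : K) * f y = k.hP f (r - 1) + k.hP f (r + 1) := by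
  rw [Finset.sum_congr rfl fun y _ => by rw [d.M_symm, k.M_p h1 h2]]
  simp only [nP, Int.cast_add, add_mul, Finset.sum_add_distrib]
  congr 1
  · simp only [Chain.prevP, hP]
    split_ifs with a b c <;> try omega
    · simp [add_mul, Finset.sum_add_distrib, sum_dlt_cast]
    · exact sum_dlt_cast f _
  · simp only [hP]
    split_ifs <;> first | (exfalso; omega) | exact sum_dlt_cast f _

theorem row_q {K : Type v} [CommRing K] {r : ℕ} (h1 : 1 ≤ r) (h2 : r < m) (f : ι → K) :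
    ∑ y, (d.M (k.q r) y : K) * f y = k.hQ f (r - 1) + k.hQ f (r + 1) := by
  rw [Finset.sum_congr rfl fun y _ => by rw [d.M_symm, k.M_q h1 h2]]
  simp only [nQ, Int.cast_add, add_mul, Finset.sum_add_distrib]
  congr 1
  · simp only [Chain.prevQ, hQ]
    split_ifs with a b c <;> try omega
    · simp [add_mul, Finset.sum_add_distrib, sum_dlt_cast]
    · exact sum_dlt_cast f _
  · simp only [hQ]
    split_ifs <;> first | (exfalso; omega) | exact sum_dlt_cast f _

/-- The entries of an outside row towards a chain. -/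
theorem M_p_outside {x : ι} (hb : ∀ r, 1 ≤ r → r < m → d.b r x = 0) {r : ℕ} (h1 : 1 ≤ r)
    (h2 : r < m) :
    d.M x (k.p r) = (if r = 1 then dlt x k.s₁ + dlt x k.s₂ else 0) +
      (if r + 1 = m then dlt x k.w else 0) ∧
    d.M x (k.q r) = (if r = 1 then dlt x k.s₃ + dlt x k.s₄ else 0) +
      (if r + 1 = m then dlt x k.w else 0) := by
  rw [k.M_p h1 h2, k.M_q h1 h2]
  simp only [nP, nQ, Chain.prevP, Chain.prevQ]
  have hp : ∀ j, 1 ≤ j → j < m → dlt x (k.p j) = 0 ∧ dlt x (k.q j) = 0 := fun j a b =>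
    ⟨dlt_ne fun e => k.p_mem j a b (e ▸ hb j a b), dlt_ne fun e => k.q_mem j a b (e ▸ hb j a b)⟩
  constructor <;> split_ifs <;>
    first
      | rfl
      | rw [(hp (r - 1) (by omega) (by omega)).1, (hp (r + 1) (by omega) (by omega)).1]
      | rw [(hp (r - 1) (by omega) (by omega)).2, (hp (r + 1) (by omega) (by omega)).2]
      | rw [(hp (r - 1) (by omega) (by omega)).1]
      | rw [(hp (r - 1) (by omega) (by omega)).2]
      | rw [(hp (r + 1) (by omega) (by omega)).1]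
      | rw [(hp (r + 1) (by omega) (by omega)).2]

theorem s_facts {x : ι} (hx : d.ht x = 0) :
    (∀ r, 1 ≤ r → r < m → d.b r x = 0) ∧ dlt x k.w = 0 :=
  ⟨fun _ a b => d.b_eq_zero_of_ht hx a b, dlt_ne fun e => k.w_ht (e ▸ hx)⟩

theorem ht_s : d.ht k.s₁ = 0 ∧ d.ht k.s₂ = 0 ∧ d.ht k.s₃ = 0 ∧ d.ht k.s₄ = 0 :=
  ⟨(k.ht_iff _).2 (by simp), (k.ht_iff _).2 (by simp), (k.ht_iff _).2 (by simp),
    (k.ht_iff _).2 (by simp)⟩

theorem w_s : dlt k.w k.s₁ = 0 ∧ dlt k.w k.s₂ = 0 ∧ dlt k.w k.s₃ = 0 ∧ dlt k.w k.s₄ = 0 := by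
  obtain ⟨a, b, c, e⟩ := k.ht_s
  exact ⟨dlt_ne fun h => k.w_ht (h ▸ a), dlt_ne fun h => k.w_ht (h ▸ b),
    dlt_ne fun h => k.w_ht (h ▸ c), dlt_ne fun h => k.w_ht (h ▸ e)⟩

theorem R_facts {x : ι} (hx : x ∈ k.R) :
    dlt x k.s₁ = 0 ∧ dlt x k.s₂ = 0 ∧ dlt x k.s₃ = 0 ∧ dlt x k.s₄ = 0 ∧ dlt x k.w = 0 := by
  obtain ⟨a, b, c, e⟩ := k.ht_s
  obtain ⟨hh, hw, -⟩ := k.mem_R.1 hx
  exact ⟨dlt_ne fun h => hh (h ▸ a), dlt_ne fun h => hh (h ▸ b),
    dlt_ne fun h => hh (h ▸ c), dlt_ne fun h => hh (h ▸ e), dlt_ne hw⟩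

/-- The sum over a row off the chains, in terms of the five special columns and `R`. -/
theorem row_outside {K : Type v} [CommRing K] {x : ι}
    (hb : ∀ r, 1 ≤ r → r < m → d.b r x = 0) (f : ι → K) :
    ∑ y, (d.M x y : K) * f y =
      (d.M x k.s₁ : K) * f k.s₁ + (d.M x k.s₂ : K) * f k.s₂ + (d.M x k.s₃ : K) * f k.s₃ +
      (d.M x k.s₄ : K) * f k.s₄ +
      (((dlt x k.s₁ + dlt x k.s₂ : ℤ) : K) * f (k.p 1) +
        ((dlt x k.s₃ + dlt x k.s₄ : ℤ) : K) * f (k.q 1)) +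
      (dlt x k.w : K) * (f (k.p (m - 1)) + f (k.q (m - 1))) +
      (d.M x k.w : K) * f k.w + ∑ y ∈ k.R, (d.M x y : K) * f y := by
  have hm := d.two_le
  have hmid : ∑ r ∈ Ico 1 m, ((d.M x (k.p r) : K) * f (k.p r) + (d.M x (k.q r) : K) * f (k.q r)) =
      (((dlt x k.s₁ + dlt x k.s₂ : ℤ) : K) * f (k.p 1) +
        ((dlt x k.s₃ + dlt x k.s₄ : ℤ) : K) * f (k.q 1)) +
      (dlt x k.w : K) * (f (k.p (m - 1)) + f (k.q (m - 1))) := by
    rw [Finset.sum_congr rfl fun r hr => by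
      rw [(k.M_p_outside hb (Finset.mem_Ico.1 hr).1 (Finset.mem_Ico.1 hr).2).1,
        (k.M_p_outside hb (Finset.mem_Ico.1 hr).1 (Finset.mem_Ico.1 hr).2).2]]
    have hr1 : (1 : ℕ) ∈ Ico 1 m := Finset.mem_Ico.2 ⟨le_rfl, by omega⟩
    have hrm : m - 1 ∈ Ico 1 m := Finset.mem_Ico.2 ⟨by omega, by omega⟩
    have hiff : ∀ r, r + 1 = m ↔ r = m - 1 := fun r => by omega
    simp only [hiff, Int.cast_add, Int.cast_ite, Int.cast_zero, add_mul, ite_mul, zero_mul,
      Finset.sum_add_distrib, Finset.sum_ite_eq', hr1, hrm, if_true]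
    ring
  rw [k.sum_split (fun y => (d.M x y : K) * f y), hmid]
  ring

end Full

end QData

end CfsgLib.QuatBlocks.Comb
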