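import Cfsg.Agent.Lib.QuatBlocks.CombOmega

/-!
# The heights and the number of characters
-/

set_option autoImplicit false
set_option maxHeartbeats 800000

open Finset
open scoped Classical

namespace CfsgLib.QuatBlocks.Comb

universe u v

variable {ι : Type u} [Fintype ι]

theorem int_sq_one {a : ℤ} (h0 : a ≠ 0) (h : a * a ≤ 1) : a = 1 ∨ a = -1 := by
  rcases int_le_one_of_sq (a := a) (by omega) with e | e | e
  · exact absurd e h0
  · exact Or.inl e
  · exact Or.inr e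

theorem int_sq_le_two {a : ℤ} (h : a * a ≤ 2) (h0 : a ≠ 0) : a * a = 1 := by
  rcases int_le_one_of_sq (a := a) (by omega) with e | e | e
  · exact absurd e h0
  all_goals rw [e]; norm_num

namespace QData

variable {m : ℕ} (d : QData ι m)

theorem fixed_dot {Y : ι → ℤ} (hY : ∀ x, app d.M Y x = 2 * Y x) (x : ι) :
    ∑ z, Y z * d.A z x = 8 * (m : ℤ) * Y x := by
  rw [← d.fixed Y hY x, app]
  exact Finset.sum_congr rfl fun z _ => by rw [d.A_symm z x]; ring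

theorem ht_of_A_two {x s : ι} (hs : d.ht s = 0) (hx : d.ht x ≠ 0) (h : d.A x s = 2) :
    d.ht x = 1 := by
  have h1 := d.dvd_A x s
  rw [h] at h1
  by_contra hne
  have h4 : (4 : ℤ) ∣ 2 := by
    refine dvd_trans ?_ h1
    rw [show (4 : ℤ) = 2 ^ 2 by norm_num]
    exact pow_dvd_pow _ (by omega)
  norm_num at h4

namespace Full

variable {m : ℕ} {d : QData ι m} (k : Full d)

theorem ker_int {f : ι → ℤ} (hf : ∀ x, app d.M f x = 2 * f x) :
    f k.s₃ + f k.s₄ = f k.s₁ + f k.s₂ ∧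
    (∀ r, 1 ≤ r → r < m → f (k.p r) = f k.s₁ + f k.s₂ ∧ f (k.q r) = f k.s₁ + f k.s₂) ∧
    f k.w = f k.s₁ + f k.s₂ ∧
    2 * f k.s₁ = f k.s₁ + f k.s₂ + d.M k.s₁ k.s₁ * (f k.s₁ - f k.s₂) +
      d.M k.s₁ k.s₃ * (f k.s₃ - f k.s₄) + ∑ y ∈ k.R, d.M k.s₁ y * f y ∧
    2 * f k.s₃ = f k.s₁ + f k.s₂ + d.M k.s₁ k.s₃ * (f k.s₁ - f k.s₂) +
      d.M k.s₃ k.s₃ * (f k.s₃ - f k.s₄) + ∑ y ∈ k.R, d.M k.s₃ y * f y := by
  have hm := d.two_le
  have hf' : ∀ x, ∑ y, (d.M x y : ℤ) * f y = 2 * f x := hf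
  have hh : ∀ x, ∑ y, ((d.M x y : ℤ) : ℤ) * f y = 2 * f x := hf
  obtain ⟨e1, e2, e3, e4⟩ := k.ker_chain (K := ℤ) (f := f) (by simpa using hh)
  obtain ⟨a1, -, a3, -⟩ := k.eq_s (K := ℤ) (f := f) (by simpa using hh)
  simp only [Int.cast_id] at e1 e2 e3 e4 a1 a3
  rw [Finset.sum_eq_zero fun y hy => by rw [k.omega_eq_zero hy, zero_mul]] at e1
  have hδ : f (k.p 1) - (f k.s₁ + f k.s₂) = 0 := by linarith
  rw [hδ] at e3 e4
  simp only [mul_zero, add_zero] at e3 e4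
  have hp1 := (e3 1 le_rfl (by omega)).1
  have hq1 := (e3 1 le_rfl (by omega)).2
  rw [hp1] at a1
  rw [hq1] at a3
  exact ⟨e2, e3, e4, by linarith, by linarith⟩

/-- The value of an eigenvector against `uvec`. -/
theorem dot_uvec {f : ι → ℤ} (hf : ∀ x, app d.M f x = 2 * f x) :
    ∑ x, f x * k.uvec 1 x = 4 * (m : ℤ) * (f k.s₁ + f k.s₂) := by
  obtain ⟨a, b, c, e⟩ := k.ht_s
  obtain ⟨h34, hlev, hw, -, -⟩ := k.ker_int hf
  rw [k.sum_split, k.uvec_s 1 a, k.uvec_s 1 b, k.uvec_s 1 c, k.uvec_s 1 e, k.uvec_w,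
    Finset.sum_eq_zero (s := k.R) fun y hy => by rw [k.uvec_R 1 hy, mul_zero],
    Finset.sum_congr (s₁ := Ico 1 m) rfl fun r hr => by
      rw [(k.uvec_p 1 (Finset.mem_Ico.1 hr).1 (Finset.mem_Ico.1 hr).2).1,
        (k.uvec_p 1 (Finset.mem_Ico.1 hr).1 (Finset.mem_Ico.1 hr).2).2,
        (hlev r (Finset.mem_Ico.1 hr).1 (Finset.mem_Ico.1 hr).2).1,
        (hlev r (Finset.mem_Ico.1 hr).1 (Finset.mem_Ico.1 hr).2).2, one_pow]]
  rw [Finset.sum_const, Nat.card_Ico, nsmul_eq_mul, hw,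
    Nat.cast_sub (show 1 ≤ m from le_trans (by norm_num) d.two_le)]
  push_cast
  linear_combination h34

theorem col_sum (x : ι) :
    4 * (m : ℤ) * (d.A k.s₁ x + d.A k.s₂ x) = 8 * (m : ℤ) * k.uvec 1 x := by
  rw [← k.dot_uvec (f := fun y => d.A y x) (d.MA x), ← d.fixed_dot k.app_uvec x]
  exact Finset.sum_congr rfl fun z _ => by ring

theorem fork_sum (x : ι) : d.A k.s₁ x + d.A k.s₂ x = 2 * k.uvec 1 x := by
  have hm := d.m_pos
  refine mul_left_cancel₀ (show (4 * (m : ℤ)) ≠ 0 by omega) ?_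
  rw [k.col_sum x]
  ring

/-- The heights on the chains and at `w`. -/
theorem ht_one_of_not_mem_R {x : ι} (hx : d.ht x ≠ 0) (hR : x ∉ k.R) : d.ht x = 1 := by
  obtain ⟨a, -⟩ := k.ht_s
  obtain ⟨-, hlev, hw, -, -⟩ := k.ker_int (f := fun y => d.A y k.s₁) (d.MA k.s₁)
  have h2 := k.fork_sum k.s₁
  rw [k.uvec_s 1 a] at h2
  refine d.ht_of_A_two a hx ?_
  rw [k.mem_R] at hR
  push Not at hR
  by_cases hxw : x = k.w
  · subst hxw
    linarith
  · obtain ⟨r, h1, h3, h4⟩ := hR hx hxw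
    have hcase : x = k.p r ∨ x = k.q r := by
      by_contra h
      push Not at h
      exact h4 (k.level r h1 h3 x h.1 h.2)
    obtain ⟨e1, e2⟩ := hlev r h1 h3
    rcases hcase with rfl | rfl <;> linarith

/-- The column of an outside character at the forks. -/
theorem R_col {t : ι} (ht : t ∈ k.R) :
    d.A k.s₁ t + d.A k.s₂ t = 0 ∧ d.A k.s₃ t + d.A k.s₄ t = 0 ∧
    d.A k.s₁ t ≠ 0 ∧ d.A k.s₃ t ≠ 0 ∧
    2 * d.A k.s₁ t = 2 * d.M k.s₁ k.s₁ * d.A k.s₁ t + 2 * d.M k.s₁ k.s₃ * d.A k.s₃ t +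
      ∑ y ∈ k.R, d.M k.s₁ y * d.A y t ∧
    2 * d.A k.s₃ t = 2 * d.M k.s₁ k.s₃ * d.A k.s₁ t + 2 * d.M k.s₃ k.s₃ * d.A k.s₃ t +
      ∑ y ∈ k.R, d.M k.s₃ y * d.A y t := by
  obtain ⟨a, b, c, e⟩ := k.ht_s
  obtain ⟨h34, -, -, e1, e3⟩ := k.ker_int (f := fun y => d.A y t) (d.MA t)
  have h12 := k.fork_sum t
  rw [k.uvec_R 1 ht, mul_zero] at h12
  have i2 : d.A k.s₂ t = -d.A k.s₁ t := by linarith
  have i4 : d.A k.s₄ t = -d.A k.s₃ t := by linarith
  rw [i2, i4] at e1 e3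
  refine ⟨h12, by linarith, ?_, ?_, by linarith, by linarith⟩
  · rw [d.A_symm]; exact d.A_ne_zero a
  · rw [d.A_symm]; exact d.A_ne_zero c

theorem sum_row_int {x : ι} (hb : ∀ r, 1 ≤ r → r < m → d.b r x = 0) (Y : ι → ℤ)
    (hYp : ∀ r, 1 ≤ r → r < m → Y (k.p r) = 0 ∧ Y (k.q r) = 0) (hYw : Y k.w = 0) :
    app d.M Y x =
      d.M x k.s₁ * Y k.s₁ + d.M x k.s₂ * Y k.s₂ + d.M x k.s₃ * Y k.s₃ + d.M x k.s₄ * Y k.s₄ +
        ∑ y ∈ k.R, d.M x y * Y y := by
  have hm := d.two_le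
  rw [k.row_int hb, (hYp 1 le_rfl (by omega)).1, (hYp 1 le_rfl (by omega)).2,
    (hYp (m - 1) (by omega) (by omega)).1, (hYp (m - 1) (by omega) (by omega)).2, hYw]
  ring

/-- A vector on the forks and `R`, balanced on each fork. -/
noncomputable def yvec (c₁ c₃ : ℤ) (f : ι → ℤ) (x : ι) : ℤ :=
  c₁ * (dlt x k.s₁ - dlt x k.s₂) + c₃ * (dlt x k.s₃ - dlt x k.s₄) + if x ∈ k.R then f x else 0

theorem yvec_values (c₁ c₃ : ℤ) (f : ι → ℤ) :
    k.yvec c₁ c₃ f k.s₁ = c₁ ∧ k.yvec c₁ c₃ f k.s₂ = -c₁ ∧ k.yvec c₁ c₃ f k.s₃ = c₃ ∧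
      k.yvec c₁ c₃ f k.s₄ = -c₃ ∧ k.yvec c₁ c₃ f k.w = 0 ∧
      (∀ r, 1 ≤ r → r < m → k.yvec c₁ c₃ f (k.p r) = 0 ∧ k.yvec c₁ c₃ f (k.q r) = 0) ∧
      ∀ x ∈ k.R, k.yvec c₁ c₃ f x = f x := by
  obtain ⟨a, b, c, e⟩ := k.ht_s
  obtain ⟨w1, w2, w3, w4⟩ := k.w_s
  have hnR : ∀ x, d.ht x = 0 → x ∉ k.R := fun x hx h => (k.mem_R.1 h).1 hx
  simp only [yvec]
  refine ⟨?_, ?_, ?_, ?_, ?_, fun r h1 h2 => ?_, fun x hx => ?_⟩
  · simp [dlt, hnR _ a, k.ne12, k.ne13, k.ne14]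
  · simp [dlt, hnR _ b, k.ne23, k.ne24, k.ne12.symm]
  · simp [dlt, hnR _ c, k.ne34, k.ne13.symm, k.ne23.symm]
  · simp [dlt, hnR _ e, k.ne14.symm, k.ne24.symm, k.ne34.symm]
  · rw [w1, w2, w3, w4, if_neg fun h => (k.mem_R.1 h).2.1 rfl]
    ring
  · have key : ∀ x, d.b r x ≠ 0 → c₁ * (dlt x k.s₁ - dlt x k.s₂) +
        c₃ * (dlt x k.s₃ - dlt x k.s₄) + (if x ∈ k.R then f x else 0) = 0 := by
      intro x hx
      have hh := d.level_ht h1 h2 hx
      have hd : ∀ s, d.ht s = 0 → dlt x s = 0 := fun s hs => dlt_ne fun h => hh (h ▸ hs)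
      rw [hd _ a, hd _ b, hd _ c, hd _ e, if_neg fun h => hx ((k.mem_R.1 h).2.2 r h1 h2)]
      ring
    exact ⟨key _ (k.p_mem r h1 h2), key _ (k.q_mem r h1 h2)⟩
  · obtain ⟨r1, r2, r3, r4, -⟩ := k.R_facts hx
    rw [r1, r2, r3, r4, if_pos hx]
    ring

/-- The criterion for a balanced vector to be an eigenvector for two. -/
theorem app_yvec {c₁ c₃ : ℤ} {f : ι → ℤ}
    (h1 : 2 * c₁ = 2 * d.M k.s₁ k.s₁ * c₁ + 2 * d.M k.s₁ k.s₃ * c₃ +
      ∑ y ∈ k.R, d.M k.s₁ y * f y)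
    (h3 : 2 * c₃ = 2 * d.M k.s₁ k.s₃ * c₁ + 2 * d.M k.s₃ k.s₃ * c₃ +
      ∑ y ∈ k.R, d.M k.s₃ y * f y)
    (hR : ∀ x ∈ k.R, (d.M x k.s₁ - d.M x k.s₂) * c₁ + (d.M x k.s₃ - d.M x k.s₄) * c₃ +
      ∑ y ∈ k.R, d.M x y * f y = 2 * f x) (x : ι) :
    app d.M (k.yvec c₁ c₃ f) x = 2 * k.yvec c₁ c₃ f x := by
  have hm := d.two_le
  obtain ⟨a, b, c, e⟩ := k.ht_s
  obtain ⟨y1, y2, y3, y4, yw, yp, yR⟩ := k.yvec_values c₁ c₃ f
  obtain ⟨e12, e22, e14, e23, e24, e34, e44⟩ := k.ss_shape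
  have hsum : ∀ x, ∑ y ∈ k.R, d.M x y * k.yvec c₁ c₃ f y = ∑ y ∈ k.R, d.M x y * f y :=
    fun x => Finset.sum_congr rfl fun y hy => by rw [yR y hy]
  have hflip : ∀ s s', (∀ y ∈ k.R, d.M y s + d.M y s' = 0) →
      ∑ y ∈ k.R, d.M s' y * f y = -∑ y ∈ k.R, d.M s y * f y := by
    intro s s' h
    rw [← Finset.sum_neg_distrib]
    exact Finset.sum_congr rfl fun y hy => by
      rw [d.M_symm s y, d.M_symm s' y]
      linear_combination (f y) * h y hy
  have f12 := hflip k.s₁ k.s₂ fun y hy => by rw [(k.R_fork hy).1, k.omega_eq_zero hy, neg_zero]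
  have f34 := hflip k.s₃ k.s₄ fun y hy => by rw [(k.R_fork hy).2, k.omega_eq_zero hy, neg_zero]
  by_cases hx : d.ht x = 0
  · rw [k.sum_row_int (k.s_facts hx).1 _ yp yw, hsum, y1, y2, y3, y4]
    rcases (k.ht_iff x).1 hx with rfl | rfl | rfl | rfl
    · rw [y1, e12, e14]; linarith
    · rw [y2, d.M_symm k.s₂ k.s₁, e12, e22, e23, e24, f12]; linarith
    · rw [y3, d.M_symm k.s₃ k.s₁, d.M_symm k.s₃ k.s₂, e23, e34]; linarith
    · rw [y4, d.M_symm k.s₄ k.s₁, d.M_symm k.s₄ k.s₂, d.M_symm k.s₄ k.s₃, e14, e24, e34, e44, f34]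
      linarith
  by_cases hw : x = k.w
  · subst hw
    obtain ⟨-, u1, u2, u3, u4, -⟩ := k.w_row
    rw [k.sum_row_int (fun r _ hr => k.w_b r hr.le) _ yp yw, hsum, u1, u2, u3, u4, yw,
      Finset.sum_eq_zero fun y hy => by rw [d.M_symm, k.omega_eq_zero hy, zero_mul]]
    ring
  by_cases hb : ∀ r, 1 ≤ r → r < m → d.b r x = 0
  · have hxR := k.mem_R.2 ⟨hx, hw, hb⟩
    rw [k.sum_row_int hb _ yp yw, hsum, y1, y2, y3, y4, yR x hxR]
    linarith [hR x hxR]
  push Not at hb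
  obtain ⟨r, r1, r2, r3⟩ := hb
  have hcase : x = k.p r ∨ x = k.q r := by
    by_contra h
    push Not at h
    exact r3 (k.level r r1 r2 x h.1 h.2)
  have hzero : ∀ j, j ≤ m →
      k.hP (k.yvec c₁ c₃ f) j = 0 ∧ k.hQ (k.yvec c₁ c₃ f) j = 0 := by
    intro j hj
    simp only [hP, hQ]
    rcases Nat.eq_zero_or_pos j with rfl | h0
    · rw [if_pos rfl, if_pos rfl, y1, y2, y3, y4]
      simp
    · rw [if_neg (by omega : ¬j = 0), if_neg (by omega : ¬j = 0)]
      rcases eq_or_lt_of_le hj with rfl | hlt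
      · rw [if_pos rfl, if_pos rfl, yw]
        exact ⟨rfl, rfl⟩
      · rw [if_neg hlt.ne, if_neg hlt.ne]
        exact yp j h0 hlt
  rcases hcase with rfl | rfl
  · have h := k.row_p (K := ℤ) r1 r2 (k.yvec c₁ c₃ f)
    rw [(hzero (r - 1) (by omega)).1, (hzero (r + 1) (by omega)).1] at h
    rw [(yp r r1 r2).1]
    simpa [app] using h
  · have h := k.row_q (K := ℤ) r1 r2 (k.yvec c₁ c₃ f)
    rw [(hzero (r - 1) (by omega)).2, (hzero (r + 1) (by omega)).2] at h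
    rw [(yp r r1 r2).2]
    simpa [app] using h

theorem dot_yvec (c₁ c₃ : ℤ) (f g : ι → ℤ) :
    ∑ x, k.yvec c₁ c₃ f x * g x = c₁ * (g k.s₁ - g k.s₂) + c₃ * (g k.s₃ - g k.s₄) +
      ∑ y ∈ k.R, f y * g y := by
  obtain ⟨y1, y2, y3, y4, yw, yp, yR⟩ := k.yvec_values c₁ c₃ f
  rw [k.sum_split, y1, y2, y3, y4, yw,
    Finset.sum_eq_zero (s := Ico 1 m) fun r hr => by
      rw [(yp r (Finset.mem_Ico.1 hr).1 (Finset.mem_Ico.1 hr).2).1,
        (yp r (Finset.mem_Ico.1 hr).1 (Finset.mem_Ico.1 hr).2).2]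
      ring,
    Finset.sum_congr (s₁ := k.R) rfl fun y hy => by rw [yR y hy]]
  ring

/-- With an outside character the forks carry no further entries. -/
theorem ss_zero (hne : k.R.Nonempty) :
    d.M k.s₁ k.s₁ = 0 ∧ d.M k.s₁ k.s₃ = 0 ∧ d.M k.s₃ k.s₃ = 0 := by
  obtain ⟨t, ht⟩ := hne
  obtain ⟨i2, i4, hα, hβ, e1, e3⟩ := k.R_col ht
  have hA2 : d.A k.s₂ t = -d.A k.s₁ t := by linarith
  have hA4 : d.A k.s₄ t = -d.A k.s₃ t := by linarith
  have hY0 : ∀ (c₁ c₃ : ℤ),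
      (2 * c₁ = 2 * d.M k.s₁ k.s₁ * c₁ + 2 * d.M k.s₁ k.s₃ * c₃) →
      (2 * c₃ = 2 * d.M k.s₁ k.s₃ * c₁ + 2 * d.M k.s₃ k.s₃ * c₃) →
      (∀ x ∈ k.R, (d.M x k.s₁ - d.M x k.s₂) * c₁ + (d.M x k.s₃ - d.M x k.s₄) * c₃ = 0) →
      c₁ * d.A k.s₁ t + c₃ * d.A k.s₃ t = 0 := by
    intro c₁ c₃ h1 h3 hR
    have h := d.fixed_dot (k.app_yvec (c₁ := c₁) (c₃ := c₃) (f := fun _ => 0)
      (by simpa using h1) (by simpa using h3) (fun x hx => by simpa using hR x hx)) t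
    rw [k.dot_yvec, (k.yvec_values c₁ c₃ fun _ => 0).2.2.2.2.2.2 t ht, hA2, hA4] at h
    simp at h
    linarith
  obtain ⟨b1, -, b3, -⟩ := k.s_budget
  have hR1 : 0 ≤ ∑ y ∈ k.R, d.M k.s₁ y * d.M k.s₁ y :=
    Finset.sum_nonneg fun y _ => mul_self_nonneg _
  have hR3 : 0 ≤ ∑ y ∈ k.R, d.M k.s₃ y * d.M k.s₃ y :=
    Finset.sum_nonneg fun y _ => mul_self_nonneg _
  have key13 : d.M k.s₁ k.s₃ = 0 := by
    by_contra hd
    have hd1 : d.M k.s₁ k.s₃ * d.M k.s₁ k.s₃ ≤ 1 := by nlinarith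
    have hc : d.M k.s₁ k.s₁ = 0 := by nlinarith [int_sq_ge_one hd]
    have he : d.M k.s₃ k.s₃ = 0 := by nlinarith [int_sq_ge_one hd]
    rw [hc, Finset.sum_eq_zero fun y hy => by
      rw [(k.R_zero₁₂ (Or.inr hd) hy).1, zero_mul]] at e1
    have hz : ∀ x ∈ k.R, (d.M x k.s₁ - d.M x k.s₂) * 1 +
        (d.M x k.s₃ - d.M x k.s₄) * d.M k.s₁ k.s₃ = 0 := by
      intro x hx
      obtain ⟨z1, z2⟩ := k.R_zero₁₂ (Or.inr hd) hx
      obtain ⟨z3, z4⟩ := k.R_zero₃₄ (Or.inr hd) hx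
      rw [d.M_symm x k.s₁, d.M_symm x k.s₂, d.M_symm x k.s₃, d.M_symm x k.s₄, z1, z2, z3, z4]
      ring
    rcases int_sq_one hd hd1 with h | h <;> rw [h] at hz e1
    · have := hY0 1 1 (by rw [hc, h]; norm_num) (by rw [he, h]; norm_num) hz
      exact hα (by linarith)
    · have := hY0 1 (-1) (by rw [hc, h]; norm_num) (by rw [he, h]; norm_num) hz
      exact hα (by linarith)
  refine ⟨?_, key13, ?_⟩
  · by_contra hc
    have hc1 : d.M k.s₁ k.s₁ * d.M k.s₁ k.s₁ ≤ 1 := by nlinarith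
    rw [key13, Finset.sum_eq_zero fun y hy => by
      rw [(k.R_zero₁₂ (Or.inl hc) hy).1, zero_mul]] at e1
    rcases int_sq_one hc hc1 with h | h
    · have := hY0 1 0 (by rw [h, key13]; norm_num) (by rw [key13]; norm_num) fun x hx => by
        obtain ⟨z1, z2⟩ := k.R_zero₁₂ (Or.inl hc) hx
        rw [d.M_symm x k.s₁, d.M_symm x k.s₂, z1, z2]; ring
      exact hα (by linarith)
    · rw [h] at e1
      exact hα (by linarith)
  · by_contra he
    have he1 : d.M k.s₃ k.s₃ * d.M k.s₃ k.s₃ ≤ 1 := by nlinarith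
    rw [key13, Finset.sum_eq_zero fun y hy => by
      rw [(k.R_zero₃₄ (Or.inl he) hy).1, zero_mul]] at e3
    rcases int_sq_one he he1 with h | h
    · have := hY0 0 1 (by rw [key13]; norm_num) (by rw [h, key13]; norm_num) fun x hx => by
        obtain ⟨z1, z2⟩ := k.R_zero₃₄ (Or.inl he) hx
        rw [d.M_symm x k.s₃, d.M_symm x k.s₄, z1, z2]; ring
      exact hβ (by linarith)
    · rw [h] at e3
      exact hβ (by linarith)

/-- The entries among the outside characters. -/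
theorem M_RR (hne : k.R.Nonempty) {t t' : ι} (ht : t ∈ k.R) (ht' : t' ∈ k.R) :
    d.M t t' = 2 * dlt t t' -
      (d.M t k.s₁ * d.M t' k.s₁ + d.M t k.s₃ * d.M t' k.s₃) := by
  obtain ⟨h1, h2, h3⟩ := k.ss_zero hne
  obtain ⟨z, hz, hzR⟩ := k.exists_ker_extend h1 h2 h3 t'
  obtain ⟨a1, a2, a3, a4⟩ := k.eq_s hz
  obtain ⟨e1, -, e3, e4⟩ := k.ker_chain hz
  have hone : ∀ f : ι → ℂ, ∑ y ∈ k.R, f y * z y = f t' := by
    intro f
    rw [Finset.sum_eq_single t' (fun y hy hne' => by rw [hzR y hy, if_neg hne', mul_zero])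
      fun h => absurd ht' h, hzR t' ht', if_pos rfl, mul_one]
  rw [h1, h2, hone] at a1 a2
  rw [h2, h3, hone] at a3 a4
  rw [Int.cast_zero] at a1 a2 a3 a4
  have h := hz t
  rw [k.row_R ht, hone, k.omega_eq_zero ht, hzR t ht] at h
  obtain ⟨f1, f2⟩ := k.R_fork ht
  obtain ⟨g1, g2⟩ := k.R_fork ht'
  rw [k.omega_eq_zero ht, neg_zero] at f1 f2
  rw [k.omega_eq_zero ht', neg_zero] at g1 g2
  have i2 : d.M t k.s₂ = -d.M t k.s₁ := by linarith
  have i4 : d.M t k.s₄ = -d.M t k.s₃ := by linarith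
  have j2 : d.M t' k.s₂ = -d.M t' k.s₁ := by linarith
  have j4 : d.M t' k.s₄ = -d.M t' k.s₃ := by linarith
  rw [i2, i4] at h
  rw [d.M_symm k.s₁ t'] at a1
  rw [d.M_symm k.s₂ t', j2] at a2
  rw [d.M_symm k.s₃ t'] at a3
  rw [d.M_symm k.s₄ t', j4] at a4
  have key : ((d.M t t' : ℤ) : ℂ) = ((2 * dlt t t' -
      (d.M t k.s₁ * d.M t' k.s₁ + d.M t k.s₃ * d.M t' k.s₃) : ℤ) : ℂ) := by
    push_cast at h a1 a2 a3 a4 ⊢
    have hd : (dlt t t' : ℂ) = if t = t' then 1 else 0 := by simp [dlt]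
    rw [hd]
    linear_combination h - ((d.M t k.s₁ : ℂ) / 2) * (a1 - a2) - ((d.M t k.s₃ : ℂ) / 2) * (a3 - a4)
  exact Int.cast_injective key

/-- The linear equations for the column of an outside character. -/
theorem gram (hne : k.R.Nonempty) {t t' : ι} (ht : t ∈ k.R) (ht' : t' ∈ k.R) :
    d.A t' t + d.M t' k.s₁ * d.A k.s₁ t + d.M t' k.s₃ * d.A k.s₃ t =
      8 * (m : ℤ) * dlt t t' := by
  obtain ⟨h1, h2, h3⟩ := k.ss_zero hne
  have hsum : ∀ x, ∑ y ∈ k.R, d.M x y * (2 * dlt y t') = 2 * d.M x t' := by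
    intro x
    rw [Finset.sum_eq_single t' (fun y _ hy => by rw [dlt_ne hy, mul_zero, mul_zero])
      (fun h => absurd ht' h), dlt_self]
    ring
  have hY := k.app_yvec (c₁ := d.M t' k.s₁) (c₃ := d.M t' k.s₃) (f := fun y => 2 * dlt y t')
    (by rw [h1, h2, hsum, d.M_symm k.s₁ t']; ring) (by rw [h2, h3, hsum, d.M_symm k.s₃ t']; ring)
    (fun x hx => by
      obtain ⟨f1, f2⟩ := k.R_fork hx
      rw [k.omega_eq_zero hx, neg_zero] at f1 f2
      rw [hsum, k.M_RR hne hx ht', show d.M x k.s₂ = -d.M x k.s₁ by linarith,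
        show d.M x k.s₄ = -d.M x k.s₃ by linarith]
      ring)
  have h := d.fixed_dot hY t
  obtain ⟨i2, i4, -⟩ := k.R_col ht
  rw [k.dot_yvec, (k.yvec_values _ _ _).2.2.2.2.2.2 t ht,
    show d.A k.s₂ t = -d.A k.s₁ t by linarith, show d.A k.s₄ t = -d.A k.s₃ t by linarith,
    Finset.sum_eq_single t' (fun y _ hy => by rw [dlt_ne hy, mul_zero, zero_mul])
      (fun h => absurd ht' h), dlt_self] at h
  linarith

/-- If a fork has two outside neighbours, they are orthogonal to the other fork. -/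
theorem cross_zero (hne : k.R.Nonempty)
    (hP : ∑ y ∈ k.R, d.M y k.s₁ * d.M y k.s₁ = 2 ∨ ∑ y ∈ k.R, d.M y k.s₃ * d.M y k.s₃ = 2) :
    ∑ y ∈ k.R, d.M y k.s₁ * d.M y k.s₃ = 0 := by
  obtain ⟨h1, h2, h3⟩ := k.ss_zero hne
  obtain ⟨e12, e22, e14, e23, e24, e34, e44⟩ := k.ss_shape
  obtain ⟨a, b, c, e⟩ := k.ht_s
  have hm := d.two_le
  have key : ∀ s s' o, d.ht s = 0 → d.ht s' = 0 → d.ht o = 0 → s ≠ s' → o ≠ s → o ≠ s' →
      (∀ z, d.ht z = 0 → d.M z s = 0 ∧ d.M z s' = 0) →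
      (∀ r, 1 ≤ r → r < m →
        d.M (k.p r) s = d.M (k.p r) s' ∧ d.M (k.q r) s = d.M (k.q r) s') →
      (∀ y ∈ k.R, d.M y s + d.M y s' = 0) →
      ∑ y ∈ k.R, d.M y s * d.M y s = 2 →
      ∑ y ∈ k.R, d.M o y * d.M y s = 0 := by
    intro s s' o hs hs' ho hne' hos hos' hSS hlev hfork h2'
    set σ : ι → ℤ := fun x => dlt x s - dlt x s' with hσ
    have happ : ∀ x, app d.M σ x = d.M x s - d.M x s' := fun x => by
      simp only [app, hσ, mul_sub, Finset.sum_sub_distrib, sum_mul_dlt]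
    have hMσ : ∀ x, x ∉ k.R → d.M x s - d.M x s' = 0 := by
      intro x hx
      by_cases hx0 : d.ht x = 0
      · rw [(hSS x hx0).1, (hSS x hx0).2, sub_zero]
      by_cases hw : x = k.w
      · subst hw
        rw [d.M_symm k.w s, d.M_symm k.w s', k.M_s_w hs, k.M_s_w hs', sub_zero]
      rw [k.mem_R] at hx
      push Not at hx
      obtain ⟨r, r1, r2, r3⟩ := hx hx0 hw
      have hcase : x = k.p r ∨ x = k.q r := by
        by_contra h
        push Not at h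
        exact r3 (k.level r r1 r2 x h.1 h.2)
      rcases hcase with rfl | rfl
      · rw [(hlev r r1 r2).1, sub_self]
      · rw [(hlev r r1 r2).2, sub_self]
    have hR : ∀ x ∈ k.R, d.M x s - d.M x s' = 2 * d.M x s := fun x hx => by
      linarith [hfork x hx]
    have hnorm : dot σ σ = 2 := by
      simp only [dot, hσ, mul_sub, Finset.sum_sub_distrib, sum_mul_dlt, dlt_self, dlt_ne hne',
        dlt_ne hne'.symm]
      norm_num
    have hMM : dot (app d.M σ) (app d.M σ) = 4 * dot σ σ := by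
      rw [hnorm, dot, Finset.sum_congr rfl fun x _ => by rw [happ x],
        ← Finset.sum_subset (Finset.subset_univ k.R) (fun x _ hx => by
          rw [hMσ x hx, mul_zero]), Finset.sum_congr rfl fun x hx => by rw [hR x hx]]
      calc ∑ x ∈ k.R, 2 * d.M x s * (2 * d.M x s) = 4 * ∑ x ∈ k.R, d.M x s * d.M x s := by
            rw [Finset.mul_sum]; exact Finset.sum_congr rfl fun x _ => by ring
        _ = 4 * 2 := by rw [h2']
    have h4 := d.eq_four σ hMM o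
    have hσo : σ o = 0 := by simp [hσ, dlt_ne hos, dlt_ne hos']
    rw [hσo, mul_zero, app, Finset.sum_congr rfl fun x _ => by rw [happ x],
      ← Finset.sum_subset (Finset.subset_univ k.R) (fun x _ hx => by rw [hMσ x hx, mul_zero]),
      Finset.sum_congr rfl fun x hx => by rw [hR x hx]] at h4
    rw [Finset.sum_congr rfl fun x _ =>
      show d.M o x * (2 * d.M x s) = 2 * (d.M o x * d.M x s) by ring, ← Finset.mul_sum] at h4
    linarith
  have hSS : ∀ z, d.ht z = 0 → d.M z k.s₁ = 0 ∧ d.M z k.s₂ = 0 ∧ d.M z k.s₃ = 0 ∧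
      d.M z k.s₄ = 0 := by
    intro z hz
    rcases (k.ht_iff z).1 hz with rfl | rfl | rfl | rfl
    · rw [e12, e14, h1, h2]; simp
    · rw [d.M_symm k.s₂ k.s₁, e12, e22, e23, e24, h1, h2]; simp
    · rw [d.M_symm k.s₃ k.s₁, d.M_symm k.s₃ k.s₂, e23, e34, h2, h3]; simp
    · rw [d.M_symm k.s₄ k.s₁, d.M_symm k.s₄ k.s₂, d.M_symm k.s₄ k.s₃, e14, e24, e34, e44, h2, h3]
      simp
  have hlev : ∀ r, 1 ≤ r → r < m →
      (d.M (k.p r) k.s₁ = d.M (k.p r) k.s₂ ∧ d.M (k.q r) k.s₁ = d.M (k.q r) k.s₂) ∧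
      (d.M (k.p r) k.s₃ = d.M (k.p r) k.s₄ ∧ d.M (k.q r) k.s₃ = d.M (k.q r) k.s₄) := by
    intro r r1 r2
    have q1 := k.M_p_outside (k.s_facts a).1 r1 r2
    have q2 := k.M_p_outside (k.s_facts b).1 r1 r2
    have q3 := k.M_p_outside (k.s_facts c).1 r1 r2
    have q4 := k.M_p_outside (k.s_facts e).1 r1 r2
    rw [(k.s_facts a).2] at q1
    rw [(k.s_facts b).2] at q2
    rw [(k.s_facts c).2] at q3
    rw [(k.s_facts e).2] at q4
    simp only [d.M_symm (k.p r), d.M_symm (k.q r), q1.1, q1.2, q2.1, q2.2, q3.1, q3.2, q4.1, q4.2]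
    simp [dlt, k.ne12, k.ne13, k.ne14, k.ne23, k.ne24, k.ne34, k.ne12.symm, k.ne13.symm,
      k.ne14.symm, k.ne23.symm, k.ne24.symm, k.ne34.symm]
  rcases hP with h | h
  · have := key k.s₁ k.s₂ k.s₃ a b c k.ne12 k.ne13.symm k.ne23.symm
      (fun z hz => ⟨(hSS z hz).1, (hSS z hz).2.1⟩) (fun r r1 r2 => (hlev r r1 r2).1)
      (fun y hy => by rw [(k.R_fork hy).1, k.omega_eq_zero hy, neg_zero]) h
    rw [← this]
    exact Finset.sum_congr rfl fun y _ => by rw [d.M_symm k.s₃ y]; ring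
  · have := key k.s₃ k.s₄ k.s₁ c e a k.ne34 k.ne13 k.ne14
      (fun z hz => ⟨(hSS z hz).2.2.1, (hSS z hz).2.2.2⟩) (fun r r1 r2 => (hlev r r1 r2).2)
      (fun y hy => by rw [(k.R_fork hy).2, k.omega_eq_zero hy, neg_zero]) h
    rw [← this]
    exact Finset.sum_congr rfl fun y _ => by rw [d.M_symm k.s₁ y]

/-- At most two outside characters, each with column `± 2 * m` at the first fork. -/
theorem R_final {t : ι} (ht : t ∈ k.R) :
    k.R.card ≤ 2 ∧ (d.A k.s₁ t = 2 * (m : ℤ) ∨ d.A k.s₁ t = -(2 * (m : ℤ))) := by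
  have hne : k.R.Nonempty := ⟨t, ht⟩
  obtain ⟨h1, h2, h3⟩ := k.ss_zero hne
  set p : ι → ℤ := fun y => d.M y k.s₁ with hp
  set q : ι → ℤ := fun y => d.M y k.s₃ with hq
  obtain ⟨b1, -, b3, -⟩ := k.s_budget
  rw [h1, h2] at b1
  rw [h2, h3] at b3
  have hPle : ∑ y ∈ k.R, p y * p y ≤ 2 := by
    simp only [hp, fun y => d.M_symm y k.s₁]
    simpa using b1
  have hQle : ∑ y ∈ k.R, q y * q y ≤ 2 := by
    simp only [hq, fun y => d.M_symm y k.s₃]
    simpa using b3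
  have hm := d.m_pos
  have heq : ∀ x ∈ k.R,
      d.A k.s₁ x * (2 + ∑ y ∈ k.R, p y * p y) + d.A k.s₃ x * ∑ y ∈ k.R, p y * q y =
        8 * (m : ℤ) * p x ∧
      d.A k.s₁ x * ∑ y ∈ k.R, p y * q y + d.A k.s₃ x * (2 + ∑ y ∈ k.R, q y * q y) =
        8 * (m : ℤ) * q x := by
    intro x hx
    obtain ⟨-, -, -, -, e1, e3⟩ := k.R_col hx
    rw [h1, h2] at e1
    rw [h2, h3] at e3
    have e1' : ∑ y ∈ k.R, p y * d.A y x = 2 * d.A k.s₁ x := by
      simp only [hp, fun y => d.M_symm y k.s₁]; linarith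
    have e3' : ∑ y ∈ k.R, q y * d.A y x = 2 * d.A k.s₃ x := by
      simp only [hq, fun y => d.M_symm y k.s₃]; linarith
    constructor
    · have hsum : ∑ y ∈ k.R, p y * (d.A y x + p y * d.A k.s₁ x + q y * d.A k.s₃ x) =
          8 * (m : ℤ) * p x := by
        rw [Finset.sum_congr rfl fun y hy => by
          rw [show d.A y x + p y * d.A k.s₁ x + q y * d.A k.s₃ x = _ from k.gram hne hx hy],
          Finset.sum_eq_single x (fun y _ hy => by rw [dlt_ne (Ne.symm hy), mul_zero, mul_zero])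
            (fun h => absurd hx h), dlt_self]
        ring
      simp only [mul_add, Finset.sum_add_distrib] at hsum
      rw [e1', Finset.sum_congr rfl fun y _ => (mul_assoc (p y) (p y) _).symm, ← Finset.sum_mul,
        Finset.sum_congr rfl fun y _ => (mul_assoc (p y) (q y) _).symm, ← Finset.sum_mul] at hsum
      linarith
    · have hsum : ∑ y ∈ k.R, q y * (d.A y x + p y * d.A k.s₁ x + q y * d.A k.s₃ x) =
          8 * (m : ℤ) * q x := by
        rw [Finset.sum_congr rfl fun y hy => by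
          rw [show d.A y x + p y * d.A k.s₁ x + q y * d.A k.s₃ x = _ from k.gram hne hx hy],
          Finset.sum_eq_single x (fun y _ hy => by rw [dlt_ne (Ne.symm hy), mul_zero, mul_zero])
            (fun h => absurd hx h), dlt_self]
        ring
      simp only [mul_add, Finset.sum_add_distrib] at hsum
      rw [e3', Finset.sum_congr rfl fun y _ =>
          show q y * (p y * d.A k.s₁ x) = p y * q y * d.A k.s₁ x by ring, ← Finset.sum_mul,
        Finset.sum_congr rfl fun y _ => (mul_assoc (q y) (q y) _).symm, ← Finset.sum_mul] at hsum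
      linarith
  obtain ⟨-, -, hα, hβ, e1, e3⟩ := k.R_col ht
  rw [h1, h2] at e1
  rw [h2, h3] at e3
  have hP1 : 1 ≤ ∑ y ∈ k.R, p y * p y := by
    by_contra hc
    have hz := (Finset.sum_eq_zero_iff_of_nonneg fun y _ => mul_self_nonneg (p y)).1
      (le_antisymm (show ∑ y ∈ k.R, p y * p y ≤ 0 by omega)
        (Finset.sum_nonneg fun y _ => mul_self_nonneg _))
    rw [Finset.sum_eq_zero fun y hy => by
      rw [d.M_symm k.s₁ y, show d.M y k.s₁ = 0 from mul_self_eq_zero.1 (hz y hy), zero_mul]] at e1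
    exact hα (by linarith)
  have hQ1 : 1 ≤ ∑ y ∈ k.R, q y * q y := by
    by_contra hc
    have hz := (Finset.sum_eq_zero_iff_of_nonneg fun y _ => mul_self_nonneg (q y)).1
      (le_antisymm (show ∑ y ∈ k.R, q y * q y ≤ 0 by omega)
        (Finset.sum_nonneg fun y _ => mul_self_nonneg _))
    rw [Finset.sum_eq_zero fun y hy => by
      rw [d.M_symm k.s₃ y, show d.M y k.s₃ = 0 from mul_self_eq_zero.1 (hz y hy), zero_mul]] at e3
    exact hβ (by linarith)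
  have hcross : (∑ y ∈ k.R, p y * p y = 2 ∨ ∑ y ∈ k.R, q y * q y = 2) →
      ∑ y ∈ k.R, p y * q y = 0 := k.cross_zero hne
  have hple : ∀ x ∈ k.R, p x * p x ≤ ∑ y ∈ k.R, p y * p y := fun x hx =>
    Finset.single_le_sum (fun y _ => mul_self_nonneg _) hx
  have hqle : ∀ x ∈ k.R, q x * q x ≤ ∑ y ∈ k.R, q y * q y := fun x hx =>
    Finset.single_le_sum (fun y _ => mul_self_nonneg _) hx
  by_cases hC : ∑ y ∈ k.R, p y * q y = 0
  · -- orthogonal supports
    have hpq : ∀ x ∈ k.R, p x * p x = 1 ∧ q x * q x = 1 := by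
      intro x hx
      obtain ⟨g1, g2⟩ := heq x hx
      obtain ⟨-, -, hα', hβ', -⟩ := k.R_col hx
      rw [hC] at g1 g2
      refine ⟨int_sq_le_two ((hple x hx).trans hPle) fun h0 => ?_,
        int_sq_le_two ((hqle x hx).trans hQle) fun h0 => ?_⟩
      · rw [h0] at g1
        simp only [mul_zero, add_zero, mul_eq_zero] at g1
        rcases g1 with h | h
        · exact hα' h
        · omega
      · rw [h0] at g2
        simp only [mul_zero, zero_add, mul_eq_zero] at g2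
        rcases g2 with h | h
        · exact hβ' h
        · omega
    have hcardP : (k.R.card : ℤ) = ∑ y ∈ k.R, p y * p y := by
      rw [Finset.sum_congr rfl fun y hy => (hpq y hy).1, Finset.sum_const, nsmul_one]
    have hcard2 : k.R.card = 2 := by
      by_contra hne2
      have hcard1 : k.R.card = 1 := by
        have := Finset.card_pos.2 hne
        omega
      obtain ⟨x, hx⟩ := Finset.card_eq_one.1 hcard1
      rw [hx, Finset.sum_singleton] at hC
      have := hpq x (by rw [hx]; simp)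
      rcases mul_eq_zero.1 hC with h | h <;> rw [h] at this <;> norm_num at this
    refine ⟨hcard2.le, ?_⟩
    obtain ⟨g1, -⟩ := heq t ht
    rw [hC, ← hcardP, hcard2] at g1
    rcases Int.eq_one_or_neg_one_of_mul_eq_one (hpq t ht).1 with h | h <;> rw [h] at g1 <;>
      [left; right] <;> push_cast at g1 <;> linarith
  · -- a single outside character
    have hPQ : ∑ y ∈ k.R, p y * p y = 1 ∧ ∑ y ∈ k.R, q y * q y = 1 := by
      constructor
      · by_contra h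
        exact hC (hcross (Or.inl (by omega)))
      · by_contra h
        exact hC (hcross (Or.inr (by omega)))
    obtain ⟨x₀, hx₀, hpq0⟩ := Finset.exists_ne_zero_of_sum_ne_zero hC
    have hp0 : p x₀ ≠ 0 := fun h => hpq0 (by rw [h, zero_mul])
    have hq0 : q x₀ ≠ 0 := fun h => hpq0 (by rw [h, mul_zero])
    have hoth : ∀ x ∈ k.R, x ≠ x₀ → p x = 0 ∧ q x = 0 := by
      intro x hx hxne
      have hs : ∀ f : ι → ℤ, f x₀ ≠ 0 → ∑ y ∈ k.R, f y * f y = 1 → f x = 0 := by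
        intro f hf hf1
        by_contra h
        have h' : f x * f x + f x₀ * f x₀ ≤ ∑ y ∈ k.R, f y * f y := by
          rw [← Finset.sum_pair (f := fun y => f y * f y) hxne]
          refine Finset.sum_le_sum_of_subset_of_nonneg ?_ fun y _ _ => mul_self_nonneg _
          intro y hy
          rcases Finset.mem_insert.1 hy with rfl | hy
          · exact hx
          · rw [Finset.mem_singleton.1 hy]; exact hx₀
        have := int_sq_ge_one h
        have := int_sq_ge_one hf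
        omega
      exact ⟨hs p hp0 hPQ.1, hs q hq0 hPQ.2⟩
    have hCval : (∑ y ∈ k.R, p y * q y) * (∑ y ∈ k.R, p y * q y) = 1 := by
      rw [Finset.sum_eq_single x₀ (fun y hy hne' => by rw [(hoth y hy hne').1, zero_mul])
        (fun h => absurd hx₀ h)]
      have := hple x₀ hx₀
      have := hqle x₀ hx₀
      have := int_sq_le_two ((hple x₀ hx₀).trans hPle) hp0
      have := int_sq_le_two ((hqle x₀ hx₀).trans hQle) hq0
      linear_combination (q x₀ * q x₀) * (int_sq_le_two ((hple x₀ hx₀).trans hPle) hp0) +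
        int_sq_le_two ((hqle x₀ hx₀).trans hQle) hq0
    have hall : ∀ x ∈ k.R, x = x₀ := by
      intro x hx
      by_contra hne'
      obtain ⟨g1, g2⟩ := heq x hx
      obtain ⟨-, -, hα', -⟩ := k.R_col hx
      rw [(hoth x hx hne').1, hPQ.1] at g1
      rw [(hoth x hx hne').2, hPQ.2] at g2
      refine hα' ?_
      have h8 : 8 * d.A k.s₁ x = 0 := by
        linear_combination 3 * g1 - (∑ y ∈ k.R, p y * q y) * g2 + (d.A k.s₁ x) * hCval
      omega
    obtain rfl : t = x₀ := hall t ht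
    have hR : k.R = {t} := Finset.eq_singleton_iff_unique_mem.2 ⟨ht, hall⟩
    have hg := k.gram hne ht ht
    rw [dlt_self] at hg
    simp only [hR, Finset.sum_singleton, hp, hq] at e1 e3 hPQ
    rw [d.M_symm k.s₁ t] at e1
    rw [d.M_symm k.s₃ t] at e3
    refine ⟨by rw [hR]; simp, ?_⟩
    have hAtt : d.A t t = 4 * (m : ℤ) := by
      have h1' : d.M t k.s₁ * d.A k.s₁ t * 2 = d.A t t := by
        linear_combination (d.M t k.s₁) * e1 + (d.A t t) * hPQ.1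
      have h3' : d.M t k.s₃ * d.A k.s₃ t * 2 = d.A t t := by
        linear_combination (d.M t k.s₃) * e3 + (d.A t t) * hPQ.2
      linarith
    rw [hAtt] at e1
    rcases Int.eq_one_or_neg_one_of_mul_eq_one hPQ.1 with h | h <;>
      rw [h] at e1 <;> [left; right] <;> linarith

theorem card_R_le : k.R.card ≤ 2 := by
  rcases k.R.eq_empty_or_nonempty with h | ⟨t, ht⟩
  · rw [h]; simp
  · exact (k.R_final ht).1

/-- The number of characters outside the forks and `R`. -/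
theorem card_not_R : (univ.filter fun x => d.ht x ≠ 0 ∧ x ∉ k.R).card = 2 * m - 1 := by
  have h := k.sum_split (K := ℤ) fun x => if d.ht x ≠ 0 ∧ x ∉ k.R then 1 else 0
  obtain ⟨a, b, c, e⟩ := k.ht_s
  rw [if_neg (fun hh => hh.1 a), if_neg (fun hh => hh.1 b), if_neg (fun hh => hh.1 c),
    if_neg (fun hh => hh.1 e), if_pos ⟨k.w_ht, fun hh => (k.mem_R.1 hh).2.1 rfl⟩,
    Finset.sum_eq_zero (s := k.R) (fun x hx => if_neg fun hh => hh.2 hx),
    Finset.sum_congr (s₁ := Ico 1 m) rfl fun r hr => by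
      obtain ⟨r1, r2⟩ := Finset.mem_Ico.1 hr
      rw [if_pos ⟨d.level_ht r1 r2 (k.p_mem r r1 r2),
          fun hh => k.p_mem r r1 r2 ((k.mem_R.1 hh).2.2 r r1 r2)⟩,
        if_pos ⟨d.level_ht r1 r2 (k.q_mem r r1 r2),
          fun hh => k.q_mem r r1 r2 ((k.mem_R.1 hh).2.2 r r1 r2)⟩],
    ← Finset.sum_filter, Finset.sum_const, Finset.sum_const, Nat.card_Ico] at h
  have := d.two_le
  simp only [nsmul_eq_mul, mul_one] at h
  push_cast at h
  omega

end Full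

/-- The invariants of the data. -/
theorem invariants {n : ℕ} (hn : 4 ≤ n) (hmn : 2 * m = 2 ^ (n - 2)) :
    d.l ≤ 3 ∧ (univ.filter fun x => d.ht x = 0).card = 4 ∧
      (∀ x, d.ht x = 0 ∨ d.ht x = 1 ∨ d.ht x = n - 2) ∧
      (univ.filter fun x => d.ht x = 1).card = 2 ^ (n - 2) - 1 := by
  obtain ⟨σ, hσ, σ', hσ', ⟨k⟩⟩ := d.exists_full
  have hR : ∀ x, x ∈ k.R → d.ht x = n - 2 := by
    intro x hx
    obtain ⟨a, -⟩ := k.ht_s
    have hA : |((d.twist σ hσ).twist σ' hσ').A x k.s₁| = (2 : ℤ) ^ (n - 2) := by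
      rw [QData.A_symm]
      have h2m : (2 * (m : ℤ)) = (2 : ℤ) ^ (n - 2) := by exact_mod_cast hmn
      rcases (k.R_final hx).2 with h | h <;> rw [h, h2m] <;> simp
    have h1 := (dvd_abs _ _).2 (((d.twist σ hσ).twist σ' hσ').dvd_A x k.s₁)
    have h2 : ¬ (2 : ℤ) ^ (d.ht x + 1) ∣ |((d.twist σ hσ).twist σ' hσ').A x k.s₁| :=
      fun h => ((d.twist σ hσ).twist σ' hσ').not_dvd_A x k.s₁ a ((dvd_abs _ _).1 h)
    rw [hA] at h1 h2
    have hle : ¬ n - 2 < d.ht x := by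
      intro hlt
      have h3 : (2 : ℤ) ^ (n - 2 + 1) ∣ (2 : ℤ) ^ (n - 2) := (pow_dvd_pow _ hlt).trans h1
      have h4 := Int.le_of_dvd (by positivity) h3
      rw [pow_succ] at h4
      have : (0 : ℤ) < (2 : ℤ) ^ (n - 2) := by positivity
      linarith
    have hge : ¬ d.ht x < n - 2 := fun hlt => h2 (pow_dvd_pow _ hlt)
    omega
  have hcard := k.card_R
  have hl : ((d.twist σ hσ).twist σ' hσ').l = d.l := rfl
  have hle := k.card_R_le
  refine ⟨by omega, d.card_S, fun x => ?_, ?_⟩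
  · by_cases h0 : d.ht x = 0
    · exact Or.inl h0
    by_cases hx : x ∈ k.R
    · exact Or.inr (Or.inr (hR x hx))
    · exact Or.inr (Or.inl (k.ht_one_of_not_mem_R h0 hx))
  · rw [← hmn, ← k.card_not_R]
    congr 1
    ext x
    simp only [Finset.mem_filter, Finset.mem_univ, true_and]
    constructor
    · intro h
      refine ⟨show d.ht x ≠ 0 by omega, fun hx => ?_⟩
      have := hR x hx
      omega
    · exact fun h => k.ht_one_of_not_mem_R h.1 h.2

end QData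

end CfsgLib.QuatBlocks.Comb
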