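import Cfsg.Agent.Lib.QuatBlocks.CombFork
import Mathlib.LinearAlgebra.Dimension.Constructions
import Mathlib.LinearAlgebra.FiniteDimensional.Lemmas

/-!
# The outside characters are not joined to `w`
-/

set_option autoImplicit false
set_option maxHeartbeats 800000

open Finset
open scoped Classical

namespace CfsgLib.QuatBlocks.Comb

universe u v

variable {ι : Type u} [Fintype ι]

theorem linear_of_recursion {K : Type v} [CommRing K] {m : ℕ} (f : ℕ → K)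
    (h : ∀ r, 1 ≤ r → r < m → 2 * f r = f (r - 1) + f (r + 1)) :
    ∀ r, r ≤ m → f r = f 0 + (r : K) * (f 1 - f 0) := by
  intro r
  induction r using Nat.strong_induction_on with
  | _ r ih =>
    intro hr
    rcases r with _ | _ | r
    · simp
    · simp
    · have h1 := h (r + 1) (by omega) (by omega)
      rw [Nat.add_sub_cancel, ih r (by omega) (by omega), ih (r + 1) (by omega) (by omega)] at h1
      push_cast at h1 ⊢
      linear_combination -h1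

namespace QData

namespace Full

variable {m : ℕ} {d : QData ι m} (k : Full d)

theorem card_R : k.R.card + 1 = d.l := by
  have h := k.sum_split (K := ℤ) (fun _ => (1 : ℤ))
  simp only [Finset.sum_const, Finset.card_univ, Nat.card_Ico, nsmul_eq_mul,
    mul_one, d.card] at h
  have := d.two_le
  push_cast at h
  omega

theorem M_s_w {s : ι} (hs : d.ht s = 0) : d.M s k.w = 0 := by
  obtain ⟨-, a, b, c, e, -⟩ := k.w_row
  rw [d.M_symm]
  rcases (k.ht_iff s).1 hs with rfl | rfl | rfl | rfl <;> assumption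

/-- The entries among the forks. -/
theorem ss_shape :
    d.M k.s₁ k.s₂ = -d.M k.s₁ k.s₁ ∧ d.M k.s₂ k.s₂ = d.M k.s₁ k.s₁ ∧
    d.M k.s₁ k.s₄ = -d.M k.s₁ k.s₃ ∧ d.M k.s₂ k.s₃ = -d.M k.s₁ k.s₃ ∧
    d.M k.s₂ k.s₄ = d.M k.s₁ k.s₃ ∧ d.M k.s₃ k.s₄ = -d.M k.s₃ k.s₃ ∧
    d.M k.s₄ k.s₄ = d.M k.s₃ k.s₃ := by
  obtain ⟨a, b, c, e⟩ := k.ht_s
  obtain ⟨f1, g1⟩ := k.fork (k.s_facts a).1
  obtain ⟨f2, g2⟩ := k.fork (k.s_facts b).1
  obtain ⟨f3, g3⟩ := k.fork (k.s_facts c).1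
  obtain ⟨f4, g4⟩ := k.fork (k.s_facts e).1
  rw [k.M_s_w a] at f1 g1
  rw [k.M_s_w b, d.M_symm k.s₂ k.s₁] at f2
  rw [k.M_s_w b] at g2
  rw [k.M_s_w c, d.M_symm k.s₃ k.s₁, d.M_symm k.s₃ k.s₂] at f3
  rw [k.M_s_w c] at g3
  rw [k.M_s_w e, d.M_symm k.s₄ k.s₁, d.M_symm k.s₄ k.s₂] at f4
  rw [k.M_s_w e, d.M_symm k.s₄ k.s₃] at g4
  refine ⟨?_, ?_, ?_, ?_, ?_, ?_, ?_⟩ <;> linarith

/-- The bounds on the rows of the forks. -/
theorem s_budget :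
    2 * d.M k.s₁ k.s₁ ^ 2 + 2 * d.M k.s₁ k.s₃ ^ 2 + ∑ y ∈ k.R, d.M k.s₁ y * d.M k.s₁ y ≤ 2 ∧
    2 * d.M k.s₁ k.s₁ ^ 2 + 2 * d.M k.s₁ k.s₃ ^ 2 + ∑ y ∈ k.R, d.M k.s₂ y * d.M k.s₂ y ≤ 2 ∧
    2 * d.M k.s₃ k.s₃ ^ 2 + 2 * d.M k.s₁ k.s₃ ^ 2 + ∑ y ∈ k.R, d.M k.s₃ y * d.M k.s₃ y ≤ 2 ∧
    2 * d.M k.s₃ k.s₃ ^ 2 + 2 * d.M k.s₁ k.s₃ ^ 2 + ∑ y ∈ k.R, d.M k.s₄ y * d.M k.s₄ y ≤ 2 := by
  have hm := d.two_le
  obtain ⟨a, b, c, e⟩ := k.ht_s
  obtain ⟨e12, e22, e14, e23, e24, e34, e44⟩ := k.ss_shape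
  have key : ∀ s, d.ht s = 0 → d.M s k.s₁ * d.M s k.s₁ + d.M s k.s₂ * d.M s k.s₂ +
      d.M s k.s₃ * d.M s k.s₃ + d.M s k.s₄ * d.M s k.s₄ + ∑ y ∈ k.R, d.M s y * d.M s y ≤ 2 := by
    intro s hs
    have h3 := d.row_zero hs
    rw [k.row_norm (k.s_facts hs).1, (k.s_facts hs).2, k.M_s_w hs] at h3
    have hp := k.M_p_outside (k.s_facts hs).1 (le_refl 1) (show 1 < m by omega)
    rw [(k.s_facts hs).2, if_pos rfl, if_pos rfl, ite_self, add_zero, add_zero] at hp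
    rw [hp.1, hp.2] at h3
    have hd : (dlt s k.s₁ + dlt s k.s₂) * (dlt s k.s₁ + dlt s k.s₂) +
        (dlt s k.s₃ + dlt s k.s₄) * (dlt s k.s₃ + dlt s k.s₄) = 1 := by
      rcases (k.ht_iff s).1 hs with rfl | rfl | rfl | rfl <;>
        simp [dlt, k.ne12, k.ne13, k.ne14, k.ne23, k.ne24, k.ne34, k.ne12.symm, k.ne13.symm,
          k.ne14.symm, k.ne23.symm, k.ne24.symm, k.ne34.symm]
    linarith
  have h1 := key _ a
  have h2 := key _ b
  have h3 := key _ c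
  have h4 := key _ e
  rw [e12, e14] at h1
  rw [d.M_symm k.s₂ k.s₁, e12, e22, e23, e24] at h2
  rw [d.M_symm k.s₃ k.s₁, d.M_symm k.s₃ k.s₂, e23, e34] at h3
  rw [d.M_symm k.s₄ k.s₁, d.M_symm k.s₄ k.s₂, d.M_symm k.s₄ k.s₃, e14, e24, e34, e44] at h4
  refine ⟨?_, ?_, ?_, ?_⟩ <;> linarith

/-- A nonzero entry among the first fork exhausts its rows. -/
theorem R_zero₁₂ (h : d.M k.s₁ k.s₁ ≠ 0 ∨ d.M k.s₁ k.s₃ ≠ 0) {y : ι} (hy : y ∈ k.R) :
    d.M k.s₁ y = 0 ∧ d.M k.s₂ y = 0 := by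
  obtain ⟨b1, b2, -, -⟩ := k.s_budget
  have h2 : 2 ≤ 2 * d.M k.s₁ k.s₁ ^ 2 + 2 * d.M k.s₁ k.s₃ ^ 2 := by
    rcases h with h | h <;> nlinarith [int_sq_ge_one h]
  constructor <;>
    refine mul_self_eq_zero.1 ((Finset.sum_eq_zero_iff_of_nonneg fun z _ =>
      mul_self_nonneg (d.M _ z)).1 (le_antisymm (by linarith)
        (Finset.sum_nonneg fun z _ => mul_self_nonneg _)) y hy)

/-- A nonzero entry among the second fork exhausts its rows. -/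
theorem R_zero₃₄ (h : d.M k.s₃ k.s₃ ≠ 0 ∨ d.M k.s₁ k.s₃ ≠ 0) {y : ι} (hy : y ∈ k.R) :
    d.M k.s₃ y = 0 ∧ d.M k.s₄ y = 0 := by
  obtain ⟨-, -, b3, b4⟩ := k.s_budget
  have h2 : 2 ≤ 2 * d.M k.s₃ k.s₃ ^ 2 + 2 * d.M k.s₁ k.s₃ ^ 2 := by
    rcases h with h | h <;> nlinarith [int_sq_ge_one h]
  constructor <;>
    refine mul_self_eq_zero.1 ((Finset.sum_eq_zero_iff_of_nonneg fun z _ =>
      mul_self_nonneg (d.M _ z)).1 (le_antisymm (by linarith)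
        (Finset.sum_nonneg fun z _ => mul_self_nonneg _)) y hy)

theorem R_fork {t : ι} (ht : t ∈ k.R) :
    d.M t k.s₁ + d.M t k.s₂ = -d.M t k.w ∧ d.M t k.s₃ + d.M t k.s₄ = -d.M t k.w :=
  k.fork (k.mem_R.1 ht).2.2

theorem row_R {K : Type v} [CommRing K] {t : ι} (ht : t ∈ k.R) (f : ι → K) :
    ∑ y, (d.M t y : K) * f y =
      (d.M t k.s₁ : K) * f k.s₁ + (d.M t k.s₂ : K) * f k.s₂ + (d.M t k.s₃ : K) * f k.s₃ +
      (d.M t k.s₄ : K) * f k.s₄ + (d.M t k.w : K) * f k.w +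
      ∑ y ∈ k.R, (d.M t y : K) * f y := by
  obtain ⟨r1, r2, r3, r4, rw'⟩ := k.R_facts ht
  rw [k.row_outside (k.mem_R.1 ht).2.2, r1, r2, r3, r4, rw']
  push_cast
  ring

/-- The equations at the forks. -/
theorem eq_s {K : Type v} [CommRing K] {f : ι → K}
    (hf : ∀ x, ∑ y, (d.M x y : K) * f y = 2 * f x) :
    2 * f k.s₁ = (d.M k.s₁ k.s₁ : K) * (f k.s₁ - f k.s₂) +
      (d.M k.s₁ k.s₃ : K) * (f k.s₃ - f k.s₄) + f (k.p 1) + ∑ y ∈ k.R, (d.M k.s₁ y : K) * f y ∧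
    2 * f k.s₂ = -(d.M k.s₁ k.s₁ : K) * (f k.s₁ - f k.s₂) -
      (d.M k.s₁ k.s₃ : K) * (f k.s₃ - f k.s₄) + f (k.p 1) + ∑ y ∈ k.R, (d.M k.s₂ y : K) * f y ∧
    2 * f k.s₃ = (d.M k.s₁ k.s₃ : K) * (f k.s₁ - f k.s₂) +
      (d.M k.s₃ k.s₃ : K) * (f k.s₃ - f k.s₄) + f (k.q 1) + ∑ y ∈ k.R, (d.M k.s₃ y : K) * f y ∧
    2 * f k.s₄ = -(d.M k.s₁ k.s₃ : K) * (f k.s₁ - f k.s₂) -
      (d.M k.s₃ k.s₃ : K) * (f k.s₃ - f k.s₄) + f (k.q 1) + ∑ y ∈ k.R, (d.M k.s₄ y : K) * f y := by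
  obtain ⟨a, b, c, e⟩ := k.ht_s
  obtain ⟨e12, e22, e14, e23, e24, e34, e44⟩ := k.ss_shape
  have key : ∀ s, d.ht s = 0 → 2 * f s =
      (d.M s k.s₁ : K) * f k.s₁ + (d.M s k.s₂ : K) * f k.s₂ + (d.M s k.s₃ : K) * f k.s₃ +
      (d.M s k.s₄ : K) * f k.s₄ + (((dlt s k.s₁ + dlt s k.s₂ : ℤ) : K) * f (k.p 1) +
        ((dlt s k.s₃ + dlt s k.s₄ : ℤ) : K) * f (k.q 1)) + ∑ y ∈ k.R, (d.M s y : K) * f y := by
    intro s hs
    rw [← hf s, k.row_outside (k.s_facts hs).1, (k.s_facts hs).2, k.M_s_w hs]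
    push_cast
    ring
  refine ⟨?_, ?_, ?_, ?_⟩
  · have h := key _ a
    rw [e12, e14] at h
    simp [dlt, k.ne12, k.ne13, k.ne14] at h
    rw [h]; ring
  · have h := key _ b
    rw [d.M_symm k.s₂ k.s₁, e12, e22, e23, e24] at h
    simp [dlt, k.ne23, k.ne24, k.ne12.symm] at h
    rw [h]; ring
  · have h := key _ c
    rw [d.M_symm k.s₃ k.s₁, d.M_symm k.s₃ k.s₂, e23, e34] at h
    simp [dlt, k.ne34, k.ne13.symm, k.ne23.symm] at h
    rw [h]; ring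
  · have h := key _ e
    rw [d.M_symm k.s₄ k.s₁, d.M_symm k.s₄ k.s₂, d.M_symm k.s₄ k.s₃, e14, e24, e34, e44] at h
    simp [dlt, k.ne14.symm, k.ne24.symm, k.ne34.symm] at h
    rw [h]; ring

/-- An eigenvector for two is linear along both chains with the same slope and intercept. -/
theorem ker_chain {K : Type v} [CommRing K] [IsDomain K] [CharZero K] {f : ι → K}
    (hf : ∀ x, ∑ y, (d.M x y : K) * f y = 2 * f x) :
    2 * (f (k.p 1) - (f k.s₁ + f k.s₂)) = ∑ y ∈ k.R, (d.M y k.w : K) * f y ∧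
    f k.s₃ + f k.s₄ = f k.s₁ + f k.s₂ ∧
    (∀ r, 1 ≤ r → r < m →
      f (k.p r) = f k.s₁ + f k.s₂ + (r : K) * (f (k.p 1) - (f k.s₁ + f k.s₂)) ∧
      f (k.q r) = f k.s₁ + f k.s₂ + (r : K) * (f (k.p 1) - (f k.s₁ + f k.s₂))) ∧
    f k.w = f k.s₁ + f k.s₂ + (m : K) * (f (k.p 1) - (f k.s₁ + f k.s₂)) := by
  have hm := d.two_le
  have hP := linear_of_recursion (k.hP f) (m := m) fun r h1 h2 => by
    rw [← k.row_p h1 h2, hf]
    simp only [hP]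
    rw [if_neg (by omega : ¬r = 0), if_neg (by omega : ¬r = m)]
  have hQ := linear_of_recursion (k.hQ f) (m := m) fun r h1 h2 => by
    rw [← k.row_q h1 h2, hf]
    simp only [hQ]
    rw [if_neg (by omega : ¬r = 0), if_neg (by omega : ¬r = m)]
  have p0 : k.hP f 0 = f k.s₁ + f k.s₂ := if_pos rfl
  have q0 : k.hQ f 0 = f k.s₃ + f k.s₄ := if_pos rfl
  have p1 : k.hP f 1 = f (k.p 1) := by
    simp only [Full.hP]; rw [if_neg (by omega : ¬1 = 0), if_neg (by omega : ¬1 = m)]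
  have q1 : k.hQ f 1 = f (k.q 1) := by
    simp only [Full.hQ]; rw [if_neg (by omega : ¬1 = 0), if_neg (by omega : ¬1 = m)]
  have pm : k.hP f m = f k.w := by
    simp [Full.hP, show ¬m = 0 by omega]
  have qm : k.hQ f m = f k.w := by
    simp [Full.hQ, show ¬m = 0 by omega]
  obtain ⟨a1, a2, a3, a4⟩ := k.eq_s hf
  have hsum : ∀ s s' : ι, (∀ y ∈ k.R, d.M y s + d.M y s' = -d.M y k.w) →
      ∑ y ∈ k.R, (d.M s y : K) * f y + ∑ y ∈ k.R, (d.M s' y : K) * f y =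
        -∑ y ∈ k.R, (d.M y k.w : K) * f y := by
    intro s s' h
    rw [← Finset.sum_add_distrib, ← Finset.sum_neg_distrib]
    refine Finset.sum_congr rfl fun y hy => ?_
    have h' := congrArg (fun z : ℤ => (z : K)) (h y hy)
    push_cast at h'
    rw [d.M_symm s y, d.M_symm s' y]
    linear_combination (f y) * h'
  have h12 := hsum k.s₁ k.s₂ fun y hy => (k.R_fork hy).1
  have h34 := hsum k.s₃ k.s₄ fun y hy => (k.R_fork hy).2
  have eP : 2 * (f (k.p 1) - (f k.s₁ + f k.s₂)) = ∑ y ∈ k.R, (d.M y k.w : K) * f y := by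
    linear_combination -a1 - a2 - h12
  have eQ : 2 * (f (k.q 1) - (f k.s₃ + f k.s₄)) = ∑ y ∈ k.R, (d.M y k.w : K) * f y := by
    linear_combination -a3 - a4 - h34
  have hd : f (k.q 1) - (f k.s₃ + f k.s₄) = f (k.p 1) - (f k.s₁ + f k.s₂) :=
    mul_left_cancel₀ (two_ne_zero (α := K)) (by rw [eP, eQ])
  have hw1 := hP m le_rfl
  have hw2 := hQ m le_rfl
  rw [pm, p0, p1] at hw1
  rw [qm, q0, q1, hd] at hw2
  have hg : f k.s₃ + f k.s₄ = f k.s₁ + f k.s₂ := by linear_combination hw1 - hw2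
  refine ⟨eP, hg, fun r h1 h2 => ⟨?_, ?_⟩, hw1⟩
  · have h := hP r h2.le
    rw [p0, p1] at h
    simp only [Full.hP] at h
    rwa [if_neg (by omega : ¬r = 0), if_neg (by omega : ¬r = m)] at h
  · have h := hQ r h2.le
    rw [q0, q1, hd, hg] at h
    simp only [Full.hQ] at h
    rwa [if_neg (by omega : ¬r = 0), if_neg (by omega : ¬r = m)] at h

/-- Without entries among the forks every function on `R` extends to an eigenvector. -/
theorem exists_ker_extend (h1 : d.M k.s₁ k.s₁ = 0) (h2 : d.M k.s₁ k.s₃ = 0)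
    (h3 : d.M k.s₃ k.s₃ = 0) (t : ι) :
    ∃ z : ι → ℂ, (∀ x, ∑ y, (d.M x y : ℂ) * z y = 2 * z x) ∧
      ∀ y ∈ k.R, z y = if y = t then 1 else 0 := by
  let L : kerTwo d.M →ₗ[ℂ] ({y // y ∈ k.R} → ℂ) :=
    (LinearMap.pi fun y => LinearMap.proj (R := ℂ) (φ := fun _ : ι => ℂ) y.1).comp
      (kerTwo d.M).subtype
  have hL : ∀ (z : kerTwo d.M) (y : {y // y ∈ k.R}), L z y = z.1 y.1 := fun _ _ => rfl
  set uC : ι → ℂ := fun x => (k.uvec 1 x : ℂ) with huC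
  have hu : uC ∈ kerTwo d.M := fun x => by
    simp only [huC]
    exact_mod_cast k.app_uvec x
  have hker : LinearMap.ker L ≤ Submodule.span ℂ {(⟨uC, hu⟩ : kerTwo d.M)} := by
    intro z hz
    have hR : ∀ y ∈ k.R, z.1 y = 0 := fun y hy => by
      rw [← hL z ⟨y, hy⟩, LinearMap.mem_ker.1 hz]; rfl
    obtain ⟨e1, e2, e3, e4⟩ := k.ker_chain (mem_kerTwo.1 z.2)
    rw [Finset.sum_eq_zero fun y hy => by rw [hR y hy, mul_zero]] at e1
    have hδ : z.1 (k.p 1) - (z.1 k.s₁ + z.1 k.s₂) = 0 := by linear_combination e1 / 2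
    rw [hδ] at e4
    obtain ⟨a1, a2, a3, a4⟩ := k.eq_s (mem_kerTwo.1 z.2)
    have hzs : ∀ s, ∑ y ∈ k.R, (d.M s y : ℂ) * z.1 y = 0 :=
      fun s => Finset.sum_eq_zero fun y hy => by rw [hR y hy, mul_zero]
    rw [h1, h2, hzs] at a1 a2
    rw [h2, h3, hzs] at a3 a4
    rw [Int.cast_zero] at a1 a2 a3 a4
    have hq1 : z.1 (k.q 1) = z.1 (k.p 1) := by
      rw [(e3 1 le_rfl (by have := d.two_le; omega)).2]
      push_cast; ring
    refine Submodule.mem_span_singleton.2 ⟨(z.1 k.s₁ + z.1 k.s₂) / 2, Subtype.ext (funext fun x => ?_)⟩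
    show (z.1 k.s₁ + z.1 k.s₂) / 2 * uC x = z.1 x
    simp only [huC]
    by_cases hx : d.ht x = 0
    · rw [k.uvec_s 1 hx]
      push_cast
      rcases (k.ht_iff x).1 hx with rfl | rfl | rfl | rfl
      · linear_combination (-1 / 2 : ℂ) * a1 - (1 / 2 : ℂ) * hδ
      · linear_combination (-1 / 2 : ℂ) * a2 - (1 / 2 : ℂ) * hδ
      · linear_combination (-1 / 2 : ℂ) * a3 - (1 / 2 : ℂ) * hδ - (1 / 2 : ℂ) * hq1
      · linear_combination (-1 / 2 : ℂ) * a4 - (1 / 2 : ℂ) * hδ - (1 / 2 : ℂ) * hq1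
    · by_cases hw : x = k.w
      · subst hw
        rw [k.uvec_w, e4]
        push_cast; ring
      · by_cases hb : ∀ r, 1 ≤ r → r < m → d.b r x = 0
        · have hxR := k.mem_R.2 ⟨hx, hw, hb⟩
          rw [k.uvec_R 1 hxR, hR x hxR]
          simp
        · push Not at hb
          obtain ⟨r, r1, r2, r3⟩ := hb
          have hcase : x = k.p r ∨ x = k.q r := by
            by_contra h
            push Not at h
            exact r3 (k.level r r1 r2 x h.1 h.2)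
          obtain ⟨c1, c2⟩ := e3 r r1 r2
          rcases hcase with rfl | rfl
          · rw [(k.uvec_p 1 r1 r2).1, c1, hδ, one_pow]
            push_cast; ring
          · rw [(k.uvec_p 1 r1 r2).2, c2, hδ, one_pow]
            push_cast; ring
  have hk1 : Module.finrank ℂ (LinearMap.ker L) ≤ 1 :=
    (Submodule.finrank_mono hker).trans ((finrank_span_le_card _).trans (by simp))
  have hrn := L.finrank_range_add_finrank_ker
  rw [d.finrank_ker, ← k.card_R] at hrn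
  have htop : LinearMap.range L = ⊤ := by
    refine Submodule.eq_top_of_finrank_eq (le_antisymm (Submodule.finrank_le _) ?_)
    rw [Module.finrank_fintype_fun_eq_card, Fintype.card_coe]
    omega
  obtain ⟨z, hz⟩ := (LinearMap.range_eq_top.1 htop) fun y => if y.1 = t then 1 else 0
  exact ⟨z.1, mem_kerTwo.1 z.2, fun y hy => by rw [← hL z ⟨y, hy⟩, hz]⟩

/-- No outside character is joined to `w`. -/
theorem omega_eq_zero {t : ι} (ht : t ∈ k.R) : d.M t k.w = 0 := by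
  obtain ⟨f1, f2⟩ := k.R_fork ht
  by_cases hA : d.M k.s₁ k.s₁ ≠ 0 ∨ d.M k.s₁ k.s₃ ≠ 0
  · obtain ⟨z1, z2⟩ := k.R_zero₁₂ hA ht
    rw [d.M_symm k.s₁ t] at z1
    rw [d.M_symm k.s₂ t] at z2
    linarith
  push Not at hA
  by_cases hB : d.M k.s₃ k.s₃ ≠ 0 ∨ d.M k.s₁ k.s₃ ≠ 0
  · obtain ⟨z1, z2⟩ := k.R_zero₃₄ hB ht
    rw [d.M_symm k.s₃ t] at z1
    rw [d.M_symm k.s₄ t] at z2
    linarith
  push Not at hB
  obtain ⟨z, hz, hzR⟩ := k.exists_ker_extend hA.1 hA.2 hB.1 t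
  obtain ⟨e1, e2, e3, e4⟩ := k.ker_chain hz
  obtain ⟨a1, a2, a3, a4⟩ := k.eq_s hz
  have hone : ∀ f : ι → ℂ, ∑ y ∈ k.R, f y * z y = f t := by
    intro f
    rw [Finset.sum_eq_single t (fun y hy hne => by rw [hzR y hy, if_neg hne, mul_zero])
      fun h => absurd ht h, hzR t ht, if_pos rfl, mul_one]
  rw [hone] at e1
  rw [hA.1, hA.2, hone] at a1 a2
  rw [hA.2, hB.1, hone] at a3 a4
  rw [Int.cast_zero] at a1 a2 a3 a4
  have hq1 : z (k.q 1) = z (k.p 1) := by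
    rw [(e3 1 le_rfl (by have := d.two_le; omega)).2]
    push_cast; ring
  have ht2 := hz t
  rw [k.row_R ht, hone, hzR t ht, if_pos rfl] at ht2
  have f1' := congrArg (fun x : ℤ => (x : ℂ)) f1
  have f2' := congrArg (fun x : ℤ => (x : ℂ)) f2
  push_cast at f1' f2'
  rw [d.M_symm k.s₁ t] at a1
  rw [d.M_symm k.s₂ t] at a2
  rw [d.M_symm k.s₃ t] at a3
  rw [d.M_symm k.s₄ t] at a4
  have key : ((2 * (2 - d.M t t) : ℤ) : ℂ) =
      ((d.M t k.s₁ * d.M t k.s₁ + d.M t k.s₂ * d.M t k.s₂ + d.M t k.s₃ * d.M t k.s₃ +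
        d.M t k.s₄ * d.M t k.s₄ + ((m : ℤ) - 1) * (d.M t k.w * d.M t k.w) : ℤ) : ℂ) := by
    push_cast
    linear_combination (-2 : ℂ) * ht2 + (d.M t k.s₁ : ℂ) * a1 + (d.M t k.s₂ : ℂ) * a2 +
      (d.M t k.s₃ : ℂ) * a3 + (d.M t k.s₄ : ℂ) * a4 + z (k.p 1) * (f1' + f2') +
      ((m : ℂ) - 1) * (d.M t k.w : ℂ) * e1 +
      2 * (d.M t k.w : ℂ) * e4 + ((d.M t k.s₃ : ℂ) + d.M t k.s₄) * hq1
  have key' := Int.cast_injective key
  obtain ⟨-, -, -, -, -, hwR⟩ := k.w_row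
  have hω : d.M t k.w * d.M t k.w ≤ 2 := by
    rw [d.M_symm t k.w]
    exact le_trans (Finset.single_le_sum (f := fun y => d.M k.w y * d.M k.w y)
      (fun y _ => mul_self_nonneg _) ht) hwR
  rcases int_le_one_of_sq (a := d.M t k.w) (by omega) with h | h | h
  · exact h
  all_goals
    exfalso
    have hpar : ∀ a : ℤ, a * a % 2 = a % 2 := fun a => by
      rcases Int.emod_two_eq_zero_or_one a with e | e <;> rw [Int.mul_emod, e] <;> rfl
    obtain ⟨j, hj⟩ := d.even_m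
    have hm1 : ((m : ℤ) - 1) % 2 = 1 := by omega
    rw [h] at key' f1 f2
    have p1 := hpar (d.M t k.s₁)
    have p2 := hpar (d.M t k.s₂)
    have p3 := hpar (d.M t k.s₃)
    have p4 := hpar (d.M t k.s₄)
    omega

end Full

end QData

end CfsgLib.QuatBlocks.Comb
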