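import Cfsg.Agent.Lib.QuatBlocks.CombChain

/-!
# The rows of the characters in the chains
-/

set_option autoImplicit false
set_option maxHeartbeats 800000

open Finset
open scoped Classical

namespace CfsgLib.QuatBlocks.Comb

universe u

variable {ι : Type u} [Fintype ι]

theorem dlt_cases (z a : ι) : dlt z a = 0 ∧ z ≠ a ∨ dlt z a = 1 ∧ z = a := by
  by_cases h : z = a
  · exact Or.inr ⟨by rw [h, dlt_self], h⟩
  · exact Or.inl ⟨dlt_ne h, h⟩

namespace QData

variable {m : ℕ} (d : QData ι m)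

/-- The two chains with the signs normalised. -/
structure Chain (d : QData ι m) extends PreChain d where
  b0_one : d.b 0 s₁ = 1 ∧ d.b 0 s₂ = 1 ∧ d.b 0 s₃ = -1 ∧ d.b 0 s₄ = -1
  b_p : ∀ r, 1 ≤ r → r < m → d.b r (p r) = 1
  b_q : ∀ r, 1 ≤ r → r < m → d.b r (q r) = -1

/-- Signs normalising the chains exist. -/
theorem exists_chain :
    ∃ (σ : ι → ℤ) (hσ : ∀ x, σ x * σ x = 1), Nonempty (Chain (d.twist σ hσ)) := by
  obtain ⟨k⟩ := d.exists_preChain
  let σ : ι → ℤ := fun x =>
    if d.ht x = 0 then (if x = k.s₃ ∨ x = k.s₄ then -d.b 0 x else d.b 0 x)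
    else if h : ∃ r, (1 ≤ r ∧ r < m) ∧ d.b r x ≠ 0 then
      (if x = k.q h.choose then -d.b h.choose x else d.b h.choose x)
    else 1
  have hlev : ∀ r, 1 ≤ r → r < m → ∀ x, d.b r x ≠ 0 →
      σ x = if x = k.q r then -d.b r x else d.b r x := by
    intro r hr hrm x hx
    have hex : ∃ r, (1 ≤ r ∧ r < m) ∧ d.b r x ≠ 0 := ⟨r, ⟨hr, hrm⟩, hx⟩
    have heq : hex.choose = r :=
      d.level_unique hex.choose_spec.1.1 hex.choose_spec.1.2 hr hrm hex.choose_spec.2 hx
    simp only [σ]
    rw [if_neg (d.level_ht hr hrm hx), dif_pos hex, heq]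
  have hσ : ∀ x, σ x * σ x = 1 := by
    intro x
    by_cases h0 : d.ht x = 0
    · have h := d.b0_sq x
      rw [if_pos h0] at h
      simp only [σ]
      rw [if_pos h0]
      split_ifs <;> linarith
    · by_cases h : ∃ r, (1 ≤ r ∧ r < m) ∧ d.b r x ≠ 0
      · rw [hlev _ h.choose_spec.1.1 h.choose_spec.1.2 x h.choose_spec.2]
        rcases d.b_cases (x := x) h.choose_spec.1.1 h.choose_spec.1.2 with e | e | e
        · exact absurd e h.choose_spec.2
        all_goals rw [e]; split_ifs <;> norm_num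
      · simp only [σ]
        rw [if_neg h0, dif_neg h]
        norm_num
  have hz : ∀ {x y : ι}, d.M x y = 0 → σ x * σ y * d.M x y = 0 := fun h => by rw [h, mul_zero]
  have hσ0 : ∀ x, σ x ≠ 0 := fun x h => by
    have := hσ x
    rw [h] at this
    norm_num at this
  refine ⟨σ, hσ, ⟨{
    s₁ := k.s₁, s₂ := k.s₂, s₃ := k.s₃, s₄ := k.s₄, p := k.p, q := k.q
    ne12 := k.ne12, ne13 := k.ne13, ne14 := k.ne14, ne23 := k.ne23, ne24 := k.ne24, ne34 := k.ne34
    ht_iff := k.ht_iff
    p_mem := fun r h1 h2 => mul_ne_zero (hσ0 _) (k.p_mem r h1 h2)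
    q_mem := fun r h1 h2 => mul_ne_zero (hσ0 _) (k.q_mem r h1 h2)
    pq_ne := k.pq_ne
    level := fun r h1 h2 x hxp hxq => by
      show σ x * d.b r x = 0
      rw [k.level r h1 h2 x hxp hxq, mul_zero]
    p_q_zero := fun r h1 h2 => hz (k.p_q_zero r h1 h2)
    q_p_zero := fun r h1 h2 => hz (k.q_p_zero r h1 h2)
    p_s₃ := hz k.p_s₃
    p_s₄ := hz k.p_s₄
    q_s₁ := hz k.q_s₁
    q_s₂ := hz k.q_s₂
    b0_one := ?_
    b_p := ?_
    b_q := ?_ }⟩⟩
  · have hs : ∀ x, d.ht x = 0 → σ x * d.b 0 x = if x = k.s₃ ∨ x = k.s₄ then -1 else 1 := by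
      intro x hx
      have h := d.b0_sq x
      rw [if_pos hx] at h
      simp only [σ]
      rw [if_pos hx]
      split_ifs <;> linarith
    refine ⟨?_, ?_, ?_, ?_⟩ <;> show σ _ * d.b 0 _ = _ <;> rw [hs _ ((k.ht_iff _).2 (by simp))] <;>
      simp [k.ne13, k.ne14, k.ne23, k.ne24]
  · intro r h1 h2
    show σ (k.p r) * d.b r (k.p r) = 1
    rw [hlev r h1 h2 _ (k.p_mem r h1 h2), if_neg (k.pq_ne r h1 h2)]
    rcases d.b_cases (x := k.p r) h1 h2 with e | e | e <;> rw [e] <;>
      first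
        | exact absurd e (k.p_mem r h1 h2)
        | norm_num
  · intro r h1 h2
    show σ (k.q r) * d.b r (k.q r) = -1
    rw [hlev r h1 h2 _ (k.q_mem r h1 h2), if_pos rfl]
    rcases d.b_cases (x := k.q r) h1 h2 with e | e | e <;> rw [e] <;>
      first
        | exact absurd e (k.q_mem r h1 h2)
        | norm_num

namespace Chain

variable {d} (k : Chain d)

theorem b0_eq (x : ι) :
    d.b 0 x = dlt x k.s₁ + dlt x k.s₂ - dlt x k.s₃ - dlt x k.s₄ := by
  obtain ⟨h1, h2, h3, h4⟩ := k.b0_one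
  by_cases hx : d.ht x = 0
  · rcases (k.ht_iff x).1 hx with rfl | rfl | rfl | rfl <;>
      simp [dlt, h1, h2, h3, h4, k.ne12, k.ne13, k.ne14, k.ne23, k.ne24, k.ne34, k.ne12.symm,
        k.ne13.symm, k.ne14.symm, k.ne23.symm, k.ne24.symm, k.ne34.symm]
  · have hne : ∀ s, d.ht s = 0 → dlt x s = 0 := fun s hs => dlt_ne fun h => hx (h ▸ hs)
    rw [d.b0_eq_zero hx, hne _ ((k.ht_iff _).2 (by simp)), hne _ ((k.ht_iff _).2 (by simp)),
      hne _ ((k.ht_iff _).2 (by simp)), hne _ ((k.ht_iff _).2 (by simp))]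
    ring

theorem b_eq {r : ℕ} (h1 : 1 ≤ r) (h2 : r < m) (x : ι) :
    d.b r x = dlt x (k.p r) - dlt x (k.q r) := by
  rcases dlt_cases x (k.p r) with ⟨hp, hxp⟩ | ⟨hp, rfl⟩
  · rcases dlt_cases x (k.q r) with ⟨hq, hxq⟩ | ⟨hq, rfl⟩
    · rw [hp, hq, k.level r h1 h2 x hxp hxq]; ring
    · rw [hp, hq, k.b_q r h1 h2]; ring
  · rw [hp, dlt_ne (k.pq_ne r h1 h2), k.b_p r h1 h2]
    ring

theorem sum_b0 (f : ι → ℤ) : ∑ x, f x * d.b 0 x = f k.s₁ + f k.s₂ - f k.s₃ - f k.s₄ := by
  simp [k.b0_eq, mul_add, mul_sub, Finset.sum_add_distrib, Finset.sum_sub_distrib, sum_mul_dlt]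

theorem sum_b {r : ℕ} (h1 : 1 ≤ r) (h2 : r < m) (f : ι → ℤ) :
    ∑ x, f x * d.b r x = f (k.p r) - f (k.q r) := by
  simp [k.b_eq h1 h2, mul_sub, Finset.sum_sub_distrib, sum_mul_dlt]

/-- The indicator of the previous vertices of the first chain. -/
noncomputable def prevP (r : ℕ) (z : ι) : ℤ :=
  if r = 1 then dlt z k.s₁ + dlt z k.s₂ else dlt z (k.p (r - 1))

/-- The indicator of the previous vertices of the second chain. -/
noncomputable def prevQ (r : ℕ) (z : ι) : ℤ :=
  if r = 1 then dlt z k.s₃ + dlt z k.s₄ else dlt z (k.q (r - 1))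

/-- The indicator of the next vertex of the first chain. -/
noncomputable def nextP (r : ℕ) (z : ι) : ℤ :=
  if r + 1 = m then 0 else dlt z (k.p (r + 1))

/-- The indicator of the next vertex of the second chain. -/
noncomputable def nextQ (r : ℕ) (z : ι) : ℤ :=
  if r + 1 = m then 0 else dlt z (k.q (r + 1))

theorem prev_eq {r : ℕ} (h1 : 1 ≤ r) (h2 : r < m) (z : ι) :
    d.b (r - 1) z = k.prevP r z - k.prevQ r z := by
  unfold prevP prevQ
  split_ifs with h
  · subst h
    rw [Nat.sub_self, k.b0_eq]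
    ring
  · exact k.b_eq (by omega) (by omega) z

theorem next_eq {r : ℕ} (h1 : 1 ≤ r) (h2 : r < m) (z : ι) :
    d.b (r + 1) z = k.nextP r z - k.nextQ r z := by
  unfold nextP nextQ
  split_ifs with h
  · rw [h, d.b_top]; ring
  · exact k.b_eq (by omega) (by omega) z

/-- The free entry of a row of the chains. -/
noncomputable def free (r : ℕ) (z : ι) : ℤ :=
  d.M z (k.p r) - k.prevP r z - k.nextP r z

theorem M_q_eq {r : ℕ} (h1 : 1 ≤ r) (h2 : r < m) (z : ι) :
    d.M z (k.q r) = k.prevQ r z + k.nextQ r z + k.free r z := by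
  have h := d.M_b r h1 h2 z
  rw [app, k.sum_b h1 h2 (fun y => d.M z y), k.prev_eq h1 h2, k.next_eq h1 h2] at h
  simp only [free]
  linarith

theorem M_s {r : ℕ} (hr : r = 1) :
    d.M k.s₁ (k.p r) = 1 ∧ d.M k.s₂ (k.p r) = 1 ∧
      d.M k.s₃ (k.p r) = 0 ∧ d.M k.s₄ (k.p r) = 0 := by
  subst hr
  have hm := d.two_le'.1
  have hval : ∀ s, d.ht s = 0 → d.M s (k.p 1) - d.M s (k.q 1) = d.b 0 s := by
    intro s hs
    have h := d.M_b 1 le_rfl hm s
    rw [app, k.sum_b le_rfl hm (fun y => d.M s y), Nat.sub_self] at h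
    rw [h]
    rcases eq_or_lt_of_le (show 1 + 1 ≤ m by omega) with h' | h'
    · rw [h', d.b_top, add_zero]
    · rw [d.b_eq_zero_of_ht hs (by omega) h', add_zero]
  obtain ⟨e1, e2, -, -⟩ := k.b0_one
  have a1 := hval k.s₁ ((k.ht_iff _).2 (by simp))
  have a2 := hval k.s₂ ((k.ht_iff _).2 (by simp))
  rw [e1, d.M_symm k.s₁ (k.q 1), k.q_s₁] at a1
  rw [e2, d.M_symm k.s₂ (k.q 1), k.q_s₂] at a2
  exact ⟨by linarith, by linarith, by rw [d.M_symm]; exact k.p_s₃, by rw [d.M_symm]; exact k.p_s₄⟩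

theorem M_next {r : ℕ} (h1 : 1 ≤ r) (h2 : r + 1 < m) :
    d.M (k.p r) (k.p (r + 1)) = 1 ∧ d.M (k.q r) (k.q (r + 1)) = 1 := by
  have hval : ∀ x, d.b r x ≠ 0 →
      d.M x (k.p (r + 1)) - d.M x (k.q (r + 1)) = d.b r x := by
    intro x hx
    have h := d.M_b (r + 1) (by omega) h2 x
    rw [app, k.sum_b (by omega) h2 (fun y => d.M x y), Nat.add_sub_cancel,
      d.b_off h1 (by omega) hx (i := r + 1 + 1) (by omega) (by omega), add_zero] at h
    exact h
  have a := hval _ (k.p_mem r h1 (by omega))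
  have b := hval _ (k.q_mem r h1 (by omega))
  rw [k.p_q_zero r h1 h2, k.b_p r h1 (by omega)] at a
  rw [k.q_p_zero r h1 h2, k.b_q r h1 (by omega)] at b
  exact ⟨by linarith, by linarith⟩

theorem free_adj {r : ℕ} (h1 : 1 ≤ r) (h2 : r < m) (z : ι) :
    (k.prevP r z + k.prevQ r z + k.nextP r z + k.nextQ r z = 0 ∧
      k.prevP r z - k.prevQ r z + k.nextP r z - k.nextQ r z = 0) ∨
    (k.prevP r z + k.prevQ r z + k.nextP r z + k.nextQ r z = 1 ∧ k.free r z = 0 ∧
      (k.prevP r z - k.prevQ r z + k.nextP r z - k.nextQ r z = 1 ∨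
        k.prevP r z - k.prevQ r z + k.nextP r z - k.nextQ r z = -1)) := by
  have hprev : d.b (r - 1) z ≠ 0 → d.b (r + 1) z = 0 := by
    intro h
    rcases eq_or_lt_of_le h1 with rfl | hr
    · rw [Nat.sub_self] at h
      rcases eq_or_lt_of_le (show 1 + 1 ≤ m by omega) with h' | h'
      · rw [h', d.b_top]
      · exact d.b_eq_zero_of_ht (d.ht_zero_of_b0 h) (by omega) h'
    · exact d.b_off (j := r - 1) (by omega) (by omega) h (by omega) (by omega)
  by_cases hA : d.b (r - 1) z = 0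
  · by_cases hC : d.b (r + 1) z = 0
    · left
      have ha : k.prevP r z = 0 ∧ k.prevQ r z = 0 := by
        unfold prevP prevQ
        split_ifs with h
        · subst h
          rw [Nat.sub_self] at hA
          have hne : d.ht z ≠ 0 := fun h0 => by
            rcases d.b0_cases h0 with e | e <;> rw [e] at hA <;> norm_num at hA
          have hd : ∀ s, d.ht s = 0 → dlt z s = 0 := fun s hs => dlt_ne fun e => hne (e ▸ hs)
          rw [hd _ ((k.ht_iff _).2 (by simp)), hd _ ((k.ht_iff _).2 (by simp)),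
            hd _ ((k.ht_iff _).2 (by simp)), hd _ ((k.ht_iff _).2 (by simp))]
          simp
        · exact ⟨dlt_ne fun e => k.p_mem (r - 1) (by omega) (by omega) (e ▸ hA),
            dlt_ne fun e => k.q_mem (r - 1) (by omega) (by omega) (e ▸ hA)⟩
      have hc : k.nextP r z = 0 ∧ k.nextQ r z = 0 := by
        unfold nextP nextQ
        split_ifs with h
        · exact ⟨rfl, rfl⟩
        · exact ⟨dlt_ne fun e => k.p_mem (r + 1) (by omega) (by omega) (e ▸ hC),
            dlt_ne fun e => k.q_mem (r + 1) (by omega) (by omega) (e ▸ hC)⟩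
      rw [ha.1, ha.2, hc.1, hc.2]
      simp
    · right
      have hne : r + 1 ≠ m := fun h => hC (by rw [h]; exact d.b_top z)
      have hlt : r + 1 < m := by omega
      have ha : k.prevP r z = 0 ∧ k.prevQ r z = 0 := by
        unfold prevP prevQ
        split_ifs with h
        · subst h
          have hht := d.level_ht (by omega) hlt hC
          have hd : ∀ s, d.ht s = 0 → dlt z s = 0 := fun s hs => dlt_ne fun e => hht (e ▸ hs)
          rw [hd _ ((k.ht_iff _).2 (by simp)), hd _ ((k.ht_iff _).2 (by simp)),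
            hd _ ((k.ht_iff _).2 (by simp)), hd _ ((k.ht_iff _).2 (by simp))]
          simp
        · exact ⟨dlt_ne fun e => k.p_mem (r - 1) (by omega) (by omega) (e ▸ hA),
            dlt_ne fun e => k.q_mem (r - 1) (by omega) (by omega) (e ▸ hA)⟩
      obtain ⟨hMp, hMq⟩ := k.M_next h1 hlt
      have hcase : z = k.p (r + 1) ∨ z = k.q (r + 1) := by
        by_contra h
        push Not at h
        exact hC (k.level (r + 1) (by omega) hlt z h.1 h.2)
      simp only [free, ha.1, ha.2]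
      unfold nextP nextQ
      rw [if_neg hne, if_neg hne]
      rcases hcase with rfl | rfl
      · rw [dlt_self, dlt_ne (k.pq_ne (r + 1) (by omega) hlt), d.M_symm, hMp]
        norm_num
      · rw [dlt_self, dlt_ne (k.pq_ne (r + 1) (by omega) hlt).symm, d.M_symm, k.p_q_zero r h1 hlt]
        norm_num
  · right
    have hC := hprev hA
    have hc : k.nextP r z = 0 ∧ k.nextQ r z = 0 := by
      unfold nextP nextQ
      split_ifs with h
      · exact ⟨rfl, rfl⟩
      · exact ⟨dlt_ne fun e => k.p_mem (r + 1) (by omega) (by omega) (e ▸ hC),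
          dlt_ne fun e => k.q_mem (r + 1) (by omega) (by omega) (e ▸ hC)⟩
    simp only [free, hc.1, hc.2]
    unfold prevP prevQ
    split_ifs with h
    · subst h
      rw [Nat.sub_self] at hA
      obtain ⟨m1, m2, m3, m4⟩ := k.M_s (r := 1) rfl
      rcases (k.ht_iff z).1 (d.ht_zero_of_b0 hA) with rfl | rfl | rfl | rfl <;>
        simp [dlt, m1, m2, m3, m4, k.ne12, k.ne13, k.ne14, k.ne23, k.ne24, k.ne34, k.ne12.symm,
          k.ne13.symm, k.ne14.symm, k.ne23.symm, k.ne24.symm, k.ne34.symm]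
    · have hr1 : 1 ≤ r - 1 := by omega
      have hr2 : r - 1 + 1 = r := by omega
      obtain ⟨hMp, -⟩ := k.M_next hr1 (by omega)
      have hMz := k.q_p_zero (r - 1) hr1 (by omega)
      rw [hr2] at hMp hMz
      have hcase : z = k.p (r - 1) ∨ z = k.q (r - 1) := by
        by_contra h
        push Not at h
        exact hA (k.level (r - 1) hr1 (by omega) z h.1 h.2)
      rcases hcase with rfl | rfl
      · rw [dlt_self, dlt_ne (k.pq_ne (r - 1) hr1 (by omega)), hMp]
        norm_num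
      · rw [dlt_self, dlt_ne (k.pq_ne (r - 1) hr1 (by omega)).symm, hMz]
        norm_num

/-- The bound on the free entries of a row. -/
theorem free_bound {r : ℕ} (h1 : 1 ≤ r) (h2 : r < m) :
    dot (d.b (r - 1)) (d.b (r - 1)) + dot (d.b (r + 1)) (d.b (r + 1)) +
        4 * ∑ z, k.free r z * k.free r z ≤ 8 ∧
      (dot (d.b (r - 1)) (d.b (r - 1)) + dot (d.b (r + 1)) (d.b (r + 1)) +
          4 * ∑ z, k.free r z * k.free r z = 8 →
        ∀ x, app d.M (fun z => d.M z (k.p r) + d.M z (k.q r)) x =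
          4 * (dlt x (k.p r) + dlt x (k.q r))) := by
  set e : ι → ℤ := fun z => d.M z (k.p r) + d.M z (k.q r) with he
  set τ : ι → ℤ := fun z => dlt z (k.p r) + dlt z (k.q r) with hτ
  have happ : app d.M τ = e := funext fun z => by
    rw [app_add, app_dlt, app_dlt]
  have horth : dot (d.b (r - 1)) (d.b (r + 1)) = 0 := by
    rcases eq_or_lt_of_le (show r + 1 ≤ m by omega) with h | h
    · exact Finset.sum_eq_zero fun z _ => by rw [h, d.b_top, mul_zero]
    · exact d.orth _ _ (by omega) h (by omega)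
  have hee : dot e e = dot (d.b (r - 1)) (d.b (r - 1)) + dot (d.b (r + 1)) (d.b (r + 1)) +
      4 * ∑ z, k.free r z * k.free r z := by
    have hpt : ∀ z, e z * e z = (d.b (r - 1) z * d.b (r - 1) z + d.b (r + 1) z * d.b (r + 1) z +
        2 * (d.b (r - 1) z * d.b (r + 1) z)) + 4 * (k.free r z * k.free r z) := by
      intro z
      have hq := k.M_q_eq h1 h2 z
      have hp : d.M z (k.p r) = k.prevP r z + k.nextP r z + k.free r z := by
        simp only [free]; ring
      rw [k.prev_eq h1 h2, k.next_eq h1 h2]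
      simp only [he, hp, hq]
      rcases k.free_adj h1 h2 z with ⟨e1, e2⟩ | ⟨e1, e3, e2⟩
      · linear_combination (k.prevP r z + k.prevQ r z + k.nextP r z + k.nextQ r z +
          4 * k.free r z) * e1 - (k.prevP r z - k.prevQ r z + k.nextP r z - k.nextQ r z) * e2
      · rw [e3]
        rcases e2 with e2 | e2
        · linear_combination (k.prevP r z + k.prevQ r z + k.nextP r z + k.nextQ r z + 1) * e1 -
            (k.prevP r z - k.prevQ r z + k.nextP r z - k.nextQ r z + 1) * e2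
        · linear_combination (k.prevP r z + k.prevQ r z + k.nextP r z + k.nextQ r z + 1) * e1 -
            (k.prevP r z - k.prevQ r z + k.nextP r z - k.nextQ r z - 1) * e2
    rw [dot, Finset.sum_congr rfl fun z _ => hpt z]
    simp only [Finset.sum_add_distrib, ← Finset.mul_sum]
    rw [show ∑ z, d.b (r - 1) z * d.b (r + 1) z = 0 from horth, mul_zero, add_zero]
    rfl
  have hττ : dot τ τ = 2 := by
    have hne := k.pq_ne r h1 h2
    simp only [dot, hτ, mul_add, Finset.sum_add_distrib, sum_mul_dlt]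
    rw [dlt_self, dlt_self, dlt_ne hne, dlt_ne hne.symm]
    norm_num
  have hle := d.le_four τ
  rw [happ, hττ, hee] at hle
  refine ⟨by linarith, fun h8 x => ?_⟩
  have h := d.eq_four τ (by rw [happ, hττ, hee, h8]; norm_num) x
  rwa [happ] at h

theorem free_eq_zero_of_sum {r : ℕ} (h : ∑ z, k.free r z * k.free r z ≤ 0) (z : ι) :
    k.free r z = 0 :=
  mul_self_eq_zero.1 ((Finset.sum_eq_zero_iff_of_nonneg fun y _ => mul_self_nonneg _).1
    (le_antisymm h (Finset.sum_nonneg fun y _ => mul_self_nonneg _)) z (Finset.mem_univ z))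

/-- Below the last level the rows have no free entries. -/
theorem free_eq_zero {r : ℕ} (h1 : 1 ≤ r) (h2 : r + 1 < m) (z : ι) : k.free r z = 0 := by
  obtain ⟨hb, heq⟩ := k.free_bound h1 (by omega)
  refine k.free_eq_zero_of_sum ?_ z
  by_contra hc
  rw [d.norm (r + 1) (by omega) h2] at hb heq
  rcases eq_or_lt_of_le h1 with rfl | hr
  · rw [Nat.sub_self, d.norm_zero] at hb
    omega
  · rw [d.norm (r - 1) (by omega) (by omega)] at hb heq
    have hsum : ∑ z, k.free r z * k.free r z = 1 := by omega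
    have h0 := heq (by rw [hsum]; norm_num)
    -- a vertex two levels below
    obtain ⟨z₀, hz0, hbr, hbr2⟩ : ∃ z₀, (d.b (r - 2) z₀ = 1 ∨ d.b (r - 2) z₀ = -1) ∧
        d.b r z₀ = 0 ∧ d.b (r + 2) z₀ = 0 := by
      rcases eq_or_lt_of_le (show 2 ≤ r by omega) with rfl | hr2
      · have hh := (k.ht_iff k.s₁).2 (Or.inl rfl)
        refine ⟨k.s₁, Or.inl k.b0_one.1, d.b_eq_zero_of_ht hh (by omega) (by omega), ?_⟩
        rcases eq_or_lt_of_le (show 2 + 2 ≤ m by omega) with h' | h'
        · rw [h', d.b_top]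
        · exact d.b_eq_zero_of_ht hh (by omega) h'
      · have hp := k.p_mem (r - 2) (by omega) (by omega)
        exact ⟨k.p (r - 2), Or.inl (k.b_p _ (by omega) (by omega)),
          d.b_off (by omega) (by omega) hp (by omega) (by omega),
          d.b_off (by omega) (by omega) hp (by omega) (by omega)⟩
    have hne : dlt z₀ (k.p r) = 0 ∧ dlt z₀ (k.q r) = 0 :=
      ⟨dlt_ne fun e => k.p_mem r h1 (by omega) (e ▸ hbr),
        dlt_ne fun e => k.q_mem r h1 (by omega) (e ▸ hbr)⟩
    have h3 := h0 z₀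
    rw [hne.1, hne.2] at h3
    have hM : app d.M (fun z => d.M z (k.p r) + d.M z (k.q r)) z₀ =
        app d.M (d.b (r - 1)) z₀ + app d.M (d.b (r + 1)) z₀ +
          2 * app d.M (fun z => d.M z (k.q r)) z₀ := by
      rw [← app_add, ← app_smul, ← app_add]
      refine Finset.sum_congr rfl fun y _ => ?_
      have h' := d.M_b r h1 (by omega) y
      rw [app, k.sum_b h1 (by omega) (fun x => d.M y x)] at h'
      beta_reduce
      linear_combination (d.M z₀ y) * h'
    rw [hM, d.M_b (r - 1) (by omega) (by omega), d.M_b (r + 1) (by omega) h2] at h3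
    rw [show r - 1 - 1 = r - 2 by omega, show r - 1 + 1 = r by omega, Nat.add_sub_cancel,
      show r + 1 + 1 = r + 2 by omega, hbr, hbr2] at h3
    rcases hz0 with e | e <;> rw [e] at h3 <;> omega

theorem M_p_eq {r : ℕ} (h1 : 1 ≤ r) (h2 : r + 1 < m) (z : ι) :
    d.M z (k.p r) = k.prevP r z + dlt z (k.p (r + 1)) := by
  have h := k.free_eq_zero h1 h2 z
  simp only [free, nextP] at h
  rw [if_neg (by omega : ¬r + 1 = m)] at h
  linarith

theorem M_q_eq' {r : ℕ} (h1 : 1 ≤ r) (h2 : r + 1 < m) (z : ι) :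
    d.M z (k.q r) = k.prevQ r z + dlt z (k.q (r + 1)) := by
  rw [k.M_q_eq h1 (by omega), k.free_eq_zero h1 h2 z, nextQ, if_neg (by omega : ¬r + 1 = m)]
  ring

end Chain

end QData

end CfsgLib.QuatBlocks.Comb
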