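import Cfsg.Agent.Lib.QuatBlocks.CombSupport

/-!
# The case of the quaternion group of order eight
-/

set_option autoImplicit false

open Finset
open scoped Classical

namespace CfsgLib.QuatBlocks.Comb

universe u

variable {ι : Type u} [Fintype ι]

/-- The integral data for the quaternion group of order eight give all the invariants. -/
theorem invariants_eight (A : ι → ι → ℤ) (ht : ι → ℕ) (c : ι → ℤ) (l : ℕ)
    (card : Fintype.card ι = l + 4) (l_pos : 1 ≤ l) (hzero : ∃ s, ht s = 0)
    (AA : ∀ s, ∑ y, A s y * A s y = 16 / 2 * A s s)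
    (dvd : ∀ x y, (2 : ℤ) ^ ht x ∣ A x y)
    (not_dvd : ∀ x y, ht y = 0 → ¬ (2 : ℤ) ^ (ht x + 1) ∣ A x y)
    (sym : ∀ x y, A x y = A y x)
    (hc : ∑ x, c x * c x ≤ 4) (hodd : ∀ s, ht s = 0 → Odd (c s)) :
    l ≤ 3 ∧ (univ.filter fun x => ht x = 0).card = 4 ∧ ∀ x, ht x = 0 ∨ ht x = 1 := by
  obtain ⟨s, hs⟩ := hzero
  set S := univ.filter fun x => ht x = 0 with hS
  have hmemS : ∀ x, x ∈ S ↔ ht x = 0 := fun x => by simp [hS]
  have hodA : ∀ y, ht y = 0 → Odd (A s y) := by
    intro y hy
    have h := not_dvd s y hy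
    rw [hs, zero_add, pow_one] at h
    rwa [← Int.not_even_iff_odd, even_iff_two_dvd]
  have hevA : ∀ y, ht y ≠ 0 → (2 : ℤ) ∣ A s y ∧ A s y ≠ 0 := by
    intro y hy
    refine ⟨by rw [sym]; exact (dvd_pow_self (2 : ℤ) hy).trans (dvd y s), fun h => ?_⟩
    have := not_dvd y s hs
    rw [sym, h] at this
    exact this (dvd_zero _)
  have hle : (S.card : ℤ) ≤ 4 := by
    refine le_trans ?_ hc
    rw [Finset.card_eq_sum_ones, Nat.cast_sum]
    refine le_trans (Finset.sum_le_sum fun x hx => ?_) (Finset.sum_le_sum_of_subset_of_nonneg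
      (Finset.subset_univ _) fun x _ _ => mul_self_nonneg _)
    refine int_sq_ge_one fun h0 => ?_
    have := hodd x ((hmemS x).1 hx)
    rw [h0] at this
    exact absurd this (by decide)
  have h8 : ∑ y, A s y * A s y = 8 * A s s := by rw [AA s]; norm_num
  have hsplit : ∑ y ∈ S, A s y * A s y + ∑ y ∈ univ.filter (fun y => ¬ ht y = 0), A s y * A s y =
      8 * A s s := by
    rw [← h8, hS]
    exact Finset.sum_filter_add_sum_filter_not _ _ _
  have hpos : 0 < S.card := Finset.card_pos.2 ⟨s, (hmemS s).2 hs⟩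
  have hmod : (S.card : ℤ) % 4 = 0 := by
    have h1 : (∑ y, A s y * A s y) % 4 = 0 := by omega
    rw [Finset.sum_int_mod, Finset.sum_congr rfl (fun y _ =>
      show A s y * A s y % 4 = if ht y = 0 then 1 else 0 from ?_)] at h1
    · rwa [← Finset.sum_filter, Finset.sum_const, nsmul_one] at h1
    · split_ifs with hy
      · exact odd_sq_emod_four (hodA y hy)
      · exact even_sq_emod_four (even_iff_two_dvd.2 (hevA y hy).1)
  have h4 : S.card = 4 := by omega
  have hsplitS : A s s * A s s + 3 ≤ ∑ y ∈ S, A s y * A s y := by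
    rw [← Finset.add_sum_erase S _ ((hmemS s).2 hs)]
    refine add_le_add le_rfl ?_
    have h3 : (S.erase s).card = 3 := by rw [Finset.card_erase_of_mem ((hmemS s).2 hs), h4]
    calc (3 : ℤ) = ∑ _y ∈ S.erase s, (1 : ℤ) := by rw [Finset.sum_const, h3]; norm_num
      _ ≤ _ := Finset.sum_le_sum fun y hy => int_sq_ge_one fun h0 => by
          have := hodA y ((hmemS y).1 (Finset.mem_of_mem_erase hy))
          rw [h0] at this
          exact absurd this (by decide)
  have hrest : ∀ y ∈ univ.filter (fun y => ¬ ht y = 0), 4 ≤ A s y * A s y := by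
    intro y hy
    obtain ⟨⟨j, hj⟩, hne⟩ := hevA y (Finset.mem_filter.1 hy).2
    have hj0 : j ≠ 0 := fun h => hne (by rw [hj, h, mul_zero])
    rw [hj]
    nlinarith [int_sq_ge_one hj0]
  have hbound : ∑ y ∈ univ.filter (fun y => ¬ ht y = 0), A s y * A s y ≤ 13 := by
    nlinarith [sq_nonneg (A s s - 4)]
  have hcount : (univ.filter fun y => ¬ ht y = 0).card = l := by
    have h := Finset.card_filter_add_card_filter_not (s := (univ : Finset ι)) (fun y => ht y = 0)
    rw [Finset.card_univ, card] at h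
    rw [hS] at h4
    omega
  refine ⟨?_, h4, fun x => ?_⟩
  · have h := (Finset.sum_le_sum hrest).trans hbound
    rw [Finset.sum_const, hcount, nsmul_eq_mul] at h
    omega
  · by_cases hx : ht x = 0
    · exact Or.inl hx
    right
    by_contra hne
    have hx' : x ∈ univ.filter (fun y => ¬ ht y = 0) := by simp [hx]
    have h1 := (Finset.single_le_sum (f := fun y => A s y * A s y)
      (fun y _ => mul_self_nonneg _) hx').trans hbound
    obtain ⟨-, hA0⟩ := hevA x hx
    obtain ⟨j, hj⟩ : (4 : ℤ) ∣ A s x := by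
      rw [sym]
      refine dvd_trans ?_ (dvd x s)
      rw [show (4 : ℤ) = 2 ^ 2 by norm_num]
      exact pow_dvd_pow _ (by omega)
    have hj0 : j ≠ 0 := fun h => hA0 (by rw [hj, h, mul_zero])
    simp only [hj] at h1
    nlinarith [int_sq_ge_one hj0]

end CfsgLib.QuatBlocks.Comb
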