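import Cfsg.Agent.Lib.QuatBlocks.CombBasic

/-!
# The supports of the coefficient vectors
-/

set_option autoImplicit false
set_option maxHeartbeats 800000

open Finset
open scoped Classical

namespace CfsgLib.QuatBlocks.Comb

universe u

variable {ι : Type u} [Fintype ι]

theorem int_sq_ge_one {a : ℤ} (h : a ≠ 0) : 1 ≤ a * a := by
  rcases lt_or_gt_of_ne h with h1 | h1 <;> nlinarith

theorem int_le_one_of_sq {a : ℤ} (h : a * a ≤ 3) : a = 0 ∨ a = 1 ∨ a = -1 := by
  have h1 : a ≤ 1 := by nlinarith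
  have h2 : -1 ≤ a := by nlinarith
  omega

theorem odd_sq_emod_four {a : ℤ} (h : Odd a) : a * a % 4 = 1 := by
  obtain ⟨k, rfl⟩ := h
  rw [show (2 * k + 1) * (2 * k + 1) = 1 + 4 * (k * k + k) by ring, Int.add_mul_emod_self_left]
  rfl

theorem even_sq_emod_four {a : ℤ} (h : Even a) : a * a % 4 = 0 := by
  obtain ⟨k, rfl⟩ := h
  rw [show (k + k) * (k + k) = 4 * (k * k) by ring, Int.mul_emod_right]

/-- An integral vector of norm two has two entries of absolute value one. -/
theorem exists_pair_of_norm_two {f : ι → ℤ} (h : dot f f = 2) :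
    ∃ p q, p ≠ q ∧ f p * f p = 1 ∧ f q * f q = 1 ∧ ∀ z, z ≠ p → z ≠ q → f z = 0 := by
  set F := univ.filter fun x => f x ≠ 0
  have hF : ∀ x, x ∈ F ↔ f x ≠ 0 := fun x => by simp [F]
  have hsum : ∑ x ∈ F, f x * f x = 2 := by
    rw [← h, dot]
    refine Finset.sum_subset (Finset.subset_univ _) fun x _ hx => ?_
    rw [not_not.1 (mt (hF x).2 hx), mul_zero]
  have hone : ∀ x ∈ F, f x * f x = 1 := by
    intro x hx
    have h1 : f x * f x ≤ 2 := hsum ▸ Finset.single_le_sum
      (fun y _ => mul_self_nonneg (f y)) hx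
    rcases int_le_one_of_sq (a := f x) (by omega) with h2 | h2 | h2 <;>
      simp_all
  have hcard : F.card = 2 := by
    rw [Finset.sum_congr rfl hone, Finset.sum_const, nsmul_one] at hsum
    exact_mod_cast hsum
  obtain ⟨p, q, hpq, hFeq⟩ := Finset.card_eq_two.1 hcard
  refine ⟨p, q, hpq, hone p (by simp [hFeq]), hone q (by simp [hFeq]), fun z hzp hzq => ?_⟩
  by_contra hz
  have := (hF z).2 hz
  rw [hFeq] at this
  simp [hzp, hzq] at this

namespace QData

variable {m : ℕ} (d : QData ι m)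

/-- The characters of height zero. -/
noncomputable def S : Finset ι := univ.filter fun s => d.ht s = 0

theorem mem_S {s : ι} : s ∈ d.S ↔ d.ht s = 0 := by simp [S]

theorem odd_A {x y : ι} (hx : d.ht x = 0) (hy : d.ht y = 0) : Odd (d.A x y) := by
  have h := d.not_dvd_A x y hy
  rw [hx, zero_add, pow_one] at h
  rwa [← Int.not_even_iff_odd, even_iff_two_dvd]

theorem even_A {x y : ι} (hx : d.ht x ≠ 0) : Even (d.A x y) := by
  rw [even_iff_two_dvd]
  exact (dvd_pow_self (2 : ℤ) hx).trans (d.dvd_A x y)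

theorem A_ne_zero {x y : ι} (hy : d.ht y = 0) : d.A x y ≠ 0 := fun h => by
  have := d.not_dvd_A x y hy
  rw [h] at this
  exact this (dvd_zero _)

theorem row_sq (s : ι) : ∑ y, d.A s y * d.A s y = 8 * (m : ℤ) * d.A s s := by
  rw [← d.AA s s, app]
  exact Finset.sum_congr rfl fun y _ => by rw [d.A_symm s y]

theorem card_S : d.S.card = 4 := by
  obtain ⟨s, hs⟩ := d.exists_zero
  have hle : (d.S.card : ℤ) ≤ 4 := by
    rw [← d.norm_zero, Finset.card_eq_sum_ones, Nat.cast_sum, dot]
    refine le_trans (Finset.sum_le_sum fun x hx => ?_) (Finset.sum_le_sum_of_subset_of_nonneg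
      (Finset.subset_univ _) fun x _ _ => mul_self_nonneg _)
    refine int_sq_ge_one fun h0 => ?_
    have := d.b_odd x (d.mem_S.1 hx)
    rw [h0] at this
    exact absurd this (by decide)
  have hpos : 0 < d.S.card := Finset.card_pos.2 ⟨s, d.mem_S.2 hs⟩
  have hmod : (d.S.card : ℤ) % 4 = 0 := by
    have h1 : (∑ y, d.A s y * d.A s y) % 4 = 0 := by
      rw [d.row_sq s, show 8 * (m : ℤ) * d.A s s = 4 * (2 * (m : ℤ) * d.A s s) by ring,
        Int.mul_emod_right]
    rw [Finset.sum_int_mod, Finset.sum_congr rfl (fun y _ =>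
      show d.A s y * d.A s y % 4 = if d.ht y = 0 then 1 else 0 from ?_)] at h1
    · rwa [← Finset.sum_filter, Finset.sum_const, nsmul_one] at h1
    · split_ifs with hy
      · exact odd_sq_emod_four (d.odd_A hs hy)
      · rw [d.A_symm s y]
        exact even_sq_emod_four (d.even_A hy)
  omega

theorem b0_sq (x : ι) : d.b 0 x * d.b 0 x = if d.ht x = 0 then 1 else 0 := by
  have h4 : ∑ y, (d.b 0 y * d.b 0 y - if d.ht y = 0 then 1 else 0) = 0 := by
    rw [Finset.sum_sub_distrib, ← Finset.sum_filter, Finset.sum_const, nsmul_one,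
      show (univ.filter fun y => d.ht y = 0) = d.S from rfl, d.card_S]
    have := d.norm_zero
    rw [dot] at this
    rw [this]
    norm_num
  have hnn : ∀ y ∈ (univ : Finset ι),
      0 ≤ d.b 0 y * d.b 0 y - if d.ht y = 0 then 1 else 0 := by
    intro y _
    split_ifs with hy
    · have := int_sq_ge_one (a := d.b 0 y) fun h0 => by
        have h1 := d.b_odd y hy
        rw [h0] at h1
        exact absurd h1 (by decide)
      linarith
    · simpa using mul_self_nonneg (d.b 0 y)
  have := (Finset.sum_eq_zero_iff_of_nonneg hnn).1 h4 x (Finset.mem_univ x)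
  linarith

theorem b0_eq_zero {x : ι} (hx : d.ht x ≠ 0) : d.b 0 x = 0 := by
  have h := d.b0_sq x
  rw [if_neg hx] at h
  exact mul_self_eq_zero.1 h

theorem b0_cases {x : ι} (hx : d.ht x = 0) : d.b 0 x = 1 ∨ d.b 0 x = -1 := by
  have h := d.b0_sq x
  rw [if_pos hx] at h
  exact Int.eq_one_or_neg_one_of_mul_eq_one h

theorem ht_zero_of_b0 {x : ι} (h : d.b 0 x ≠ 0) : d.ht x = 0 := by
  by_contra hx
  exact h (d.b0_eq_zero hx)

theorem single_le_level {j : ℕ} (hj : 1 ≤ j) (hjm : j < m) (x : ι) :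
    d.b j x ^ 2 ≤ ∑ i ∈ Ico 1 m, d.b i x ^ 2 :=
  Finset.single_le_sum (f := fun i => d.b i x ^ 2) (fun i _ => sq_nonneg _)
    (Finset.mem_Ico.2 ⟨hj, hjm⟩)

include d in
theorem m_pos : 0 < (m : ℤ) := by
  have := d.two_le
  omega

theorem level_sq_le (x : ι) : ∑ j ∈ Ico 1 m, d.b j x ^ 2 ≤ 1 := by
  have h := d.diag_le x
  have hp := d.diag_pos x
  have hm := d.m_pos
  have h0 := sq_nonneg (d.b 0 x)
  simp only [topSum] at h
  by_contra hc
  nlinarith

theorem sq_sum_A {s : ι} (hs : d.ht s = 0) (hA : d.A s s = 1) {y : ι} (hy : d.ht y = 0) :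
    d.A s y * d.A s y = 1 := by
  let f : ι → ℤ := fun z => if d.ht z = 0 then 1 else 4
  have hle : ∀ z ∈ (univ : Finset ι), 0 ≤ d.A s z * d.A s z - f z := by
    intro z _
    simp only [f]
    split_ifs with hz
    · linarith [int_sq_ge_one (d.A_ne_zero (x := s) hz)]
    · have hne : d.A z s ≠ 0 := d.A_ne_zero hs
      obtain ⟨k, hk⟩ := d.even_A (y := s) hz
      rw [d.A_symm s z, hk]
      have hk0 : k ≠ 0 := fun h0 => hne (by rw [hk, h0, add_zero])
      nlinarith [int_sq_ge_one hk0]
  have hf : (8 : ℤ) * m ≤ ∑ z, f z := by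
    have h1 : ∑ z, f z = ∑ z, ((4 : ℤ) - if d.ht z = 0 then 3 else 0) :=
      Finset.sum_congr rfl fun z _ => by simp only [f]; split_ifs <;> norm_num
    rw [h1, Finset.sum_sub_distrib, ← Finset.sum_filter, Finset.sum_const, Finset.sum_const,
      show (univ.filter fun z => d.ht z = 0) = d.S from rfl, d.card_S, Finset.card_univ, d.card]
    have := d.l_pos
    simp only [nsmul_eq_mul]
    push_cast
    omega
  have hrow := d.row_sq s
  rw [hA, mul_one] at hrow
  have hzero : ∑ z, (d.A s z * d.A s z - f z) = 0 := by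
    refine le_antisymm ?_ (Finset.sum_nonneg hle)
    rw [Finset.sum_sub_distrib, hrow]
    linarith
  have := (Finset.sum_eq_zero_iff_of_nonneg hle).1 hzero y (Finset.mem_univ y)
  simp only [f, if_pos hy] at this
  linarith

/-- The higher coefficient vectors vanish at the characters of height zero. -/
theorem b_eq_zero_of_ht {s : ι} (hs : d.ht s = 0) {j : ℕ} (hj : 1 ≤ j) (hjm : j < m) :
    d.b j s = 0 := by
  by_contra hne
  have hm := d.m_pos
  -- every character of height zero with such an entry has scaled diagonal one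
  have key : ∀ t, d.ht t = 0 → d.b j t ≠ 0 → topSum m d.b t = 3 ∧ d.A t t = 1 ∧
      d.b j t * d.b j t = 1 := by
    intro t ht hb
    have h1 := d.diag_zero t ht
    have h2 := d.diag_pos t
    have hj' := d.single_le_level hj hjm t
    have hb1 : 1 ≤ d.b j t ^ 2 := by rw [sq]; exact int_sq_ge_one hb
    have hl := d.level_sq_le t
    have h0 : d.b 0 t ^ 2 = 1 := by rw [sq, d.b0_sq, if_pos ht]
    simp only [topSum, h0] at h1 ⊢
    have hsum : ∑ i ∈ Ico 1 m, d.b i t ^ 2 = 1 := le_antisymm hl (hb1.trans hj')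
    rw [hsum] at h1 hj' ⊢
    refine ⟨by norm_num, by linarith, ?_⟩
    rw [← sq]
    omega
  -- the support of the vector
  obtain ⟨p, q, hpq, hp, hq, hz⟩ := exists_pair_of_norm_two (d.norm j hj hjm)
  have horth : d.b 0 p * d.b j p + d.b 0 q * d.b j q = 0 := by
    have := d.orth 0 j (by omega) hjm (by omega)
    rw [dot, Fintype.sum_eq_add p q hpq fun z hz' => by rw [hz z hz'.1 hz'.2, mul_zero]] at this
    exact this
  -- both members have height zero; pick the one with negative product
  have hb0 : ∀ x, d.b j x * d.b j x = 1 → d.b 0 x ≠ 0 →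
      d.b 0 x * d.b j x = 1 ∨ d.b 0 x * d.b j x = -1 := by
    intro x h1 h0
    refine Int.eq_one_or_neg_one_of_mul_eq_one (?_ : _ * (d.b 0 x * d.b j x) = 1)
    have h2 := d.b0_sq x
    rw [if_pos (d.ht_zero_of_b0 h0)] at h2
    linear_combination (d.b j x * d.b j x) * h2 + h1
  have hsq : s = p ∨ s = q := by
    by_contra hc
    push Not at hc
    exact hne (hz s hc.1 hc.2)
  have hs0 : d.b 0 s ≠ 0 := by rcases d.b0_cases hs with h | h <;> rw [h] <;> norm_num
  have hp0 : d.b 0 p ≠ 0 := by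
    rcases hsq with rfl | rfl
    · exact hs0
    · intro h0
      rw [h0, zero_mul, zero_add] at horth
      exact (mul_ne_zero hs0 (fun h => by simp [h] at hq)) horth
  have hq0 : d.b 0 q ≠ 0 := by
    rcases hsq with rfl | rfl
    · intro h0
      rw [h0, zero_mul, add_zero] at horth
      exact (mul_ne_zero hs0 (fun h => by simp [h] at hp)) horth
    · exact hs0
  obtain ⟨t, t', ht, ht0, ht', ht'0, hneg, hzt⟩ : ∃ t t', d.b j t * d.b j t = 1 ∧ d.b 0 t ≠ 0 ∧
      d.b j t' * d.b j t' = 1 ∧ d.b 0 t' ≠ 0 ∧ d.b 0 t * d.b j t = -1 ∧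
      (∀ z, z ≠ t → z ≠ t' → d.b j z = 0) := by
    rcases hb0 p hp hp0 with h | h
    · exact ⟨q, p, hq, hq0, hp, hp0, by linarith, fun z a b => hz z b a⟩
    · exact ⟨p, q, hp, hp0, hq, hq0, h, hz⟩
  have htt := d.ht_zero_of_b0 ht0
  obtain ⟨htop, hA, -⟩ := key t htt (fun h => by simp [h] at ht)
  obtain ⟨v, hv1, hv2, hv3, hv4⟩ := d.translate t j hj hjm htt htop hneg
  have hbt : d.b j t = -d.b 0 t := by
    have h2 := d.b0_sq t
    rw [if_pos htt] at h2
    linear_combination (d.b 0 t) * hneg - (d.b j t) * h2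
  -- the entries of the translate on the characters of height zero
  have hvS : ∀ z, d.ht z = 0 → v z * d.b 0 z = 0 ∨ v z * d.b 0 z = -d.b 0 t := by
    have hsum : ∑ z, v z * d.b 0 z = -2 * d.b 0 t := by
      rw [← dot, hv2, hbt]; ring
    have hnn : ∀ z ∈ (univ : Finset ι),
        0 ≤ v z * v z + d.b 0 t * (v z * d.b 0 z) := by
      intro z _
      by_cases hz0 : d.ht z = 0
      · rcases d.b0_cases hz0 with h1 | h1 <;> rcases d.b0_cases htt with h2 | h2 <;>
          rw [h1, h2] <;> rcases lt_trichotomy (v z) 0 with h3 | h3 | h3 <;> nlinarith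
      · rw [d.b0_eq_zero hz0, mul_zero, mul_zero, add_zero]
        exact mul_self_nonneg _
    have hle : ∑ z, (v z * v z + d.b 0 t * (v z * d.b 0 z)) ≤ 0 := by
      rw [Finset.sum_add_distrib, ← Finset.mul_sum, hsum]
      have h2 := d.b0_sq t
      rw [if_pos htt] at h2
      rw [dot] at hv1
      nlinarith
    intro z hz0
    have h0 := (Finset.sum_eq_zero_iff_of_nonneg hnn).1 (le_antisymm hle (Finset.sum_nonneg hnn)) z
      (Finset.mem_univ z)
    rcases d.b0_cases hz0 with h1 | h1 <;> rcases d.b0_cases htt with h2 | h2 <;>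
      rw [h1, h2] at h0 <;> rw [h1, h2] <;>
      first
        | (have : v z * (v z + 1) = 0 := by linarith
           rcases mul_eq_zero.1 this with h | h <;> [left; right] <;> linarith)
        | (have : v z * (v z - 1) = 0 := by linarith
           rcases mul_eq_zero.1 this with h | h <;> [left; right] <;> linarith)
  -- the translate is `e - e_t`
  have hbt' : d.b j t' = d.b 0 t' := by
    have h2 := d.b0_sq t'
    rw [if_pos (d.ht_zero_of_b0 ht'0)] at h2
    have horth' : d.b 0 t * d.b j t + d.b 0 t' * d.b j t' = 0 := by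
      by_cases htt' : t = t'
      · exfalso
        subst htt'
        have h1 := d.norm j hj hjm
        rw [dot, Fintype.sum_eq_single t fun z hz' => by rw [hzt z hz' hz', mul_zero], ht] at h1
        omega
      have := d.orth 0 j (by omega) hjm (by omega)
      rwa [dot, Fintype.sum_eq_add t t' htt' fun z hz' => by
        rw [hzt z hz'.1 hz'.2, mul_zero]] at this
    linear_combination (d.b 0 t') * horth' - (d.b 0 t') * hneg - (d.b j t') * h2
  have htne : t ≠ t' := by
    rintro rfl
    rw [hbt] at hbt'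
    omega
  have hvj : v t * d.b j t + v t' * d.b j t' = d.b 0 t := by
    rw [← hv3, dot, Fintype.sum_eq_add t t' htne fun z hz' => by
      rw [hzt z hz'.1 hz'.2, mul_zero]]
  have hvt : v t * d.b 0 t = -d.b 0 t ∧ v t' * d.b 0 t' = 0 := by
    rw [hbt, hbt'] at hvj
    rcases hvS t htt with h1 | h1 <;> rcases hvS t' (d.ht_zero_of_b0 ht'0) with h2 | h2
    · exfalso; exact ht0 (by linarith)
    · exfalso; exact ht0 (by linarith)
    · exact ⟨h1, h2⟩
    · exfalso; exact ht0 (by linarith)
  have hv_t : v t = -1 := by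
    have h2 := d.b0_sq t
    rw [if_pos htt] at h2
    linear_combination (d.b 0 t) * hvt.1 - (v t + 1) * h2
  -- a second entry
  obtain ⟨β, hβt, hβ⟩ : ∃ β, β ≠ t ∧ v β * d.b 0 β ≠ 0 := by
    by_contra hc
    push Not at hc
    have h := hv2
    rw [dot, Fintype.sum_eq_single t fun z hz' => hc z hz', hvt.1, hbt] at h
    exact ht0 (by linarith)
  have hβ0 : d.ht β = 0 := d.ht_zero_of_b0 fun h => hβ (by rw [h, mul_zero])
  have hvβ : v β * v β = 1 := by
    have h1 : v β ≠ 0 := fun h => hβ (by rw [h, zero_mul])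
    have h2 := int_sq_ge_one h1
    have h3 : v β * v β + v t * v t ≤ dot v v := by
      rw [dot, ← Finset.sum_pair (f := fun x => v x * v x) hβt]
      exact Finset.sum_le_sum_of_subset_of_nonneg (Finset.subset_univ _)
        fun x _ _ => mul_self_nonneg _
    rw [hv_t] at h3
    linarith
  have hrest : ∀ z, z ≠ β → z ≠ t → v z = 0 := by
    intro z hzβ hzt'
    by_contra h
    have h2 := int_sq_ge_one h
    have h3 : v z * v z + (v β * v β + v t * v t) ≤ dot v v := by
      rw [dot, ← Finset.sum_pair (f := fun x => v x * v x) hβt,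
        ← Finset.sum_insert (f := fun x => v x * v x) (by simp [hzβ, hzt'])]
      exact Finset.sum_le_sum_of_subset_of_nonneg (Finset.subset_univ _)
        fun x _ _ => mul_self_nonneg _
    rw [hvβ, hv_t] at h3
    linarith
  have h4 := hv4 t
  rw [Fintype.sum_eq_add β t hβt fun z hz' => by rw [hrest z hz'.1 hz'.2, zero_mul], hv_t, hA,
    d.A_symm β t] at h4
  have h5 := d.sq_sum_A htt hA hβ0
  have : (v β * d.A t β) * (v β * d.A t β) = 1 := by
    linear_combination (d.A t β * d.A t β) * hvβ + h5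
  rcases Int.eq_one_or_neg_one_of_mul_eq_one this with h | h <;> rw [h] at h4 <;> omega

theorem level_ht {x : ι} {j : ℕ} (hj : 1 ≤ j) (hjm : j < m) (h : d.b j x ≠ 0) : d.ht x ≠ 0 :=
  fun hx => h (d.b_eq_zero_of_ht hx hj hjm)

theorem level_unique {x : ι} {i j : ℕ} (hi : 1 ≤ i) (him : i < m) (hj : 1 ≤ j) (hjm : j < m)
    (h1 : d.b i x ≠ 0) (h2 : d.b j x ≠ 0) : i = j := by
  by_contra hne
  have h := d.level_sq_le x
  have h3 : d.b i x ^ 2 + d.b j x ^ 2 ≤ ∑ k ∈ Ico 1 m, d.b k x ^ 2 := by
    rw [← Finset.sum_pair (f := fun k => d.b k x ^ 2) hne]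
    refine Finset.sum_le_sum_of_subset_of_nonneg ?_ fun k _ _ => sq_nonneg _
    intro k hk
    rcases Finset.mem_insert.1 hk with rfl | hk
    · exact Finset.mem_Ico.2 ⟨hi, him⟩
    · rw [Finset.mem_singleton.1 hk]; exact Finset.mem_Ico.2 ⟨hj, hjm⟩
  have := int_sq_ge_one h1
  have := int_sq_ge_one h2
  nlinarith

end QData

end CfsgLib.QuatBlocks.Comb
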