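import Cfsg.Agent.Lib.QuatBlocks.SecColumn
import Cfsg.Agent.Lib.BlockRank.SectionOrth

/-!
# The subsections by the index, and the contributions at central elements
-/

set_option autoImplicit false
set_option maxHeartbeats 1600000
set_option synthInstance.maxHeartbeats 400000

open scoped ComplexConjugate Classical
open Cfsg CfsgLib.Blocks CfsgLib.Blocks.Pairs CfsgLib.BlockRank CfsgLib.DihBlocks

namespace CfsgLib.QuatBlocks

universe u

variable {G : Type u} [Group G] [Fintype G] {M : Ideal AlgInt} [M.IsMaximal]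
  [CharP (ResField M) 2] {D : Subgroup G} {x y : G} {h : ℕ} {e : MonoidAlgebra (ResField M) G}
  {B : Set (IrrCharacter G)} {T : Finset (Sec G)} {φ : Sec G → G}

namespace Quat

theorem exists_sec (hQ : Quat D x y h) (hM : IsPModular 2 M) {hB : IsPBlock M B}
    (hP : PairOf 2 (ebar hB) D e) (hno : NoExt 2 D e) (hT : SecData 2 M B D e T φ) {i : ℕ}
    (hi : i ≤ h) : ∃ s ∈ T, idx x h (φ s) = i := by
  obtain ⟨s, hs, hf⟩ := hT.surj (x ^ i) (pow_mem hQ.mem_x i)
  exact ⟨s, hs, (hQ.idx_fus hM hP hno hf).trans (hQ.idx_pow hi (Or.inl rfl))⟩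

theorem sec_unique (hQ : Quat D x y h) {hB : IsPBlock M B}
    (hP : PairOf 2 (ebar hB) D e) (hT : SecData 2 M B D e T φ) {s t : Sec G}
    (hs : s ∈ T) (ht : t ∈ T) (hi : idx x h (φ s) = idx x h (φ t))
    (hne : idx x h (φ s) ≠ h / 2) : s = t := by
  have hsx := hQ.mem_zpowers_of_idx hne
  have htx := hQ.mem_zpowers_of_idx (hi ▸ hne)
  have hD := hT.mem s hs
  refine hT.inj s hs t ht ?_
  have key : φ t = φ s ∨ φ t = y * φ s * y⁻¹ := by
    have hy : y * φ s * y⁻¹ = (φ s)⁻¹ := by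
      obtain ⟨k, hk⟩ := Subgroup.mem_zpowers_iff.1 hsx
      rw [← hk, ← conj_zpow, hQ.inv, inv_zpow]
    rw [hy]
    rcases hQ.idx_spec hsx with h1 | h1 <;> rcases hQ.idx_spec htx with h2 | h2 <;>
      rw [h1, h2, hi] <;> simp
  rcases key with h1 | h1 <;> rw [h1]
  · simpa using fus_conj_of_mem hP.pair hD (one_mem D)
  · exact fus_conj_of_mem hP.pair hD hQ.mem_y

theorem two_lt_orderOf (hQ : Quat D x y h) {v : G} (hv : v ∈ D) (h0 : idx x h v ≠ 0)
    (hh : idx x h v ≠ h) : 2 < orderOf v := by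
  by_contra hcon
  have := orderOf_pos v
  rcases Nat.lt_or_ge (orderOf v) 2 with h1 | h1
  · have h2 : v = 1 := orderOf_eq_one_iff.1 (by omega)
    exact h0 (hQ.idx_pow (Nat.zero_le _) (Or.inl (by rw [h2, pow_zero])))
  · have h2 := hQ.eq_z_of_orderOf_two hv (by omega)
    exact hh (hQ.idx_pow le_rfl (Or.inl h2))

theorem four_le_card_sections (hQ : Quat D x y h) {hB : IsPBlock M B}
    (hP : PairOf 2 (ebar hB) D e) (hT : SecData 2 M B D e T φ) :
    (T.filter fun s => idx x h (φ s) = h / 2).card ≤ 3 := by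
  have hh := hQ.two_le
  let S := T.filter fun s => idx x h (φ s) = h / 2
  have hrep : ∀ s ∈ S, ∃ v ∈ ({x ^ (h / 2), y, y * x} : Finset G), Fus 2 D e (φ s) v := by
    intro s hs
    obtain ⟨hsT, hsi⟩ := Finset.mem_filter.1 hs
    have hD := hT.mem s hsT
    obtain ⟨d, hd, hdv⟩ := hQ.exists_rep hD
    refine ⟨d * φ s * d⁻¹, ?_, fus_conj_of_mem hP.pair hD hd⟩
    rw [hsi] at hdv
    rcases hdv with h1 | ⟨-, h1 | h1⟩ <;> rw [h1] <;> simp
  choose! v hv hvf using hrep
  refine (Finset.card_le_card_of_injOn v (fun s hs => hv s hs) fun s hs t ht hst => ?_).trans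
    Finset.card_le_three
  have hs' := Finset.mem_coe.1 hs
  have ht' := Finset.mem_coe.1 ht
  exact hT.inj s (Finset.mem_filter.1 hs').1 t (Finset.mem_filter.1 ht').1
    ((hvf s hs').trans hP.pair (hst ▸ (hvf t ht').symm))

/-- The number of irreducible characters of the block through the subsections. -/
theorem card_eq (hQ : Quat D x y h) (hM : IsPModular 2 M) {hB : IsPBlock M B}
    (hP : PairOf 2 (ebar hB) D e) (hno : NoExt 2 D e) (hT : SecData 2 M B D e T φ) {z : Sec G}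
    (hz : z ∈ T) (hzi : idx x h (φ z) = h) :
    Nat.card B = blockRank 2 B + blockRank 2 z.2 +
      (T.filter fun s => idx x h (φ s) = h / 2).card + (h - 2) := by
  have hh := hQ.two_le
  obtain ⟨o, ho, hoi⟩ := hQ.exists_sec hM hP hno hT (Nat.zero_le h)
  rw [hT.card, ← Finset.sum_fiberwise_of_maps_to (g := fun s => idx x h (φ s))
    (t := Finset.range (h + 1)) fun s _ => Finset.mem_range.2 (Nat.lt_succ_of_le (hQ.idx_le _))]
  let F : ℕ → ℕ := fun i => ∑ s ∈ T.filter (fun s => idx x h (φ s) = i), blockRank 2 s.2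
  have hsingle : ∀ i ≤ h, i ≠ h / 2 → ∀ s ∈ T, idx x h (φ s) = i →
      F i = blockRank 2 s.2 := by
    intro i hi hne s hs hsi
    refine Finset.sum_eq_single_of_mem s (Finset.mem_filter.2 ⟨hs, hsi⟩) fun t ht hts => ?_
    obtain ⟨htT, hti⟩ := Finset.mem_filter.1 ht
    exact absurd (hQ.sec_unique hP hT htT hs (hti.trans hsi.symm) (hti ▸ hne)) hts
  have h0 : F 0 = blockRank 2 B := by
    rw [hsingle 0 (by omega) (by omega) o ho hoi]
    exact hT.rank_one ho (hQ.idx_eq_zero (hT.mem o ho) hoi)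
  have hh' : F h = blockRank 2 z.2 := hsingle h le_rfl (by omega) z hz hzi
  have hm : F (h / 2) = (T.filter fun s => idx x h (φ s) = h / 2).card := by
    rw [Finset.card_eq_sum_ones]
    refine Finset.sum_congr rfl fun s hs => ?_
    obtain ⟨hsT, hsi⟩ := Finset.mem_filter.1 hs
    exact hQ.sec_rank_one hM hP hno hT hsT
      (hQ.two_lt_orderOf (hT.mem s hsT) (by omega) (by omega))
  have hone : ∀ i, 1 ≤ i → i < h → i ≠ h / 2 → F i = 1 := by
    intro i hi1 hi hne
    obtain ⟨s, hs, hsi⟩ := hQ.exists_sec hM hP hno hT hi.le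
    rw [hsingle i hi.le hne s hs hsi]
    exact hQ.sec_rank_one hM hP hno hT hs
      (hQ.two_lt_orderOf (hT.mem s hs) (by omega) (by omega))
  show ∑ i ∈ Finset.range (h + 1), F i = _
  rw [Finset.sum_range_succ, Finset.range_eq_Ico, Finset.sum_eq_sum_Ico_succ_bot (by omega : 0 < h),
    ← Finset.add_sum_erase _ _ (Finset.mem_Ico.2 ⟨by omega, by omega⟩ : h / 2 ∈ Finset.Ico (0 + 1) h),
    Finset.sum_eq_card_nsmul fun i hi => hone i
      (Finset.mem_Ico.1 (Finset.mem_erase.1 hi).2).1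
      (Finset.mem_Ico.1 (Finset.mem_erase.1 hi).2).2 (Finset.mem_erase.1 hi).1,
    Finset.card_erase_of_mem (Finset.mem_Ico.2 ⟨by omega, by omega⟩), Nat.card_Ico, h0, hh', hm,
    smul_eq_mul, mul_one]
  omega

end Quat

section Central

theorem apply_center_mul {H : Type u} [Group H] [Finite H] {w : H} (hw : w ∈ Subgroup.center H)
    (θ : IrrCharacter H) (g : H) :
    (θ : H → ℂ) (w * g) = (θ : H → ℂ) w / (θ : H → ℂ) 1 * (θ : H → ℂ) g := by
  obtain ⟨ζ, hζ⟩ : ∃ ζ : ℂ, IsPrimitiveRoot ζ (orderOf w) :=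
    ⟨_, Complex.isPrimitiveRoot_exp _ (orderOf_pos w).ne'⟩
  obtain ⟨i, hi⟩ := exists_central_root (orderOf_pos w) hζ hw (pow_orderOf_eq_one w) θ
  have h1 := hi 1
  rw [mul_one] at h1
  rw [hi g, h1, mul_div_cancel_right₀ _ (CfsgLib.Char.IsIrrCharacter.apply_one_ne_zero θ.2)]

/-- The block part of a member is the member. -/
theorem blockPart_mem {H : Type u} [Group H] [Finite H] {b : Set (IrrCharacter H)}
    {χ : IrrCharacter H} (hχ : χ ∈ b) (c : ℂ) (g : H) :
    blockPart b (fun t => c * (χ : H → ℂ) t) g = c * (χ : H → ℂ) g := by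
  letI := Fintype.ofFinite H
  haveI := Fintype.ofFinite b
  have hsmul : (fun t => c * (χ : H → ℂ) t) = c • (χ : H → ℂ) := funext fun t => rfl
  rw [blockPart, finsum_mem_eq_toFinset_sum, hsmul,
    Finset.sum_eq_single_of_mem χ (Set.mem_toFinset.2 hχ) fun ψ _ hne => by
      rw [CfsgLib.Char.classInner_smul_left, CfsgLib.Char.classInner_irrCharacter,
        if_neg (Ne.symm hne), mul_zero, zero_mul],
    CfsgLib.Char.classInner_smul_left, CfsgLib.Char.classInner_irrCharacter, if_pos rfl, mul_one]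

/-- The contributions at a central element. -/
theorem contrib_central {p : ℕ} [Fact p.Prime] [CharP (ResField M) p] (hM : IsPModular p M)
    (hB : IsPBlock M B) {w : G} (hw : w ∈ Subgroup.center G) (hwp : ∃ k, orderOf w = p ^ k)
    {b : Set (IrrCharacter (Subgroup.centralizer ({w} : Set G)))}
    (hb : IsInducedBlock M (Subgroup.centralizer ({w} : Set G)) b B) (d : ℕ)
    {χ ψ : IrrCharacter G} (hχ : χ ∈ B) (hψ : ψ ∈ B) :
    contrib p d w b χ ψ = ((χ : G → ℂ) w / (χ : G → ℂ) 1) *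
      conj ((ψ : G → ℂ) w / (ψ : G → ℂ) 1) *
      (((p ^ d : ℕ) : ℂ) * ((Nat.card G : ℂ)⁻¹ * regPair p (χ : G → ℂ) (ψ : G → ℂ))) := by
  have htop : Subgroup.centralizer ({w} : Set G) = ⊤ :=
    (Subgroup.eq_top_iff' _).2 fun g =>
      Subgroup.mem_centralizer_singleton_iff.2 (Subgroup.mem_center_iff.1 hw g)
  let π := (MulEquiv.subgroupCongr htop).trans Subgroup.topEquiv
  rw [eq_pullSet_of_central hM hB (isPGroup_zpowers hwp) π (fun _ => rfl) hb]
  have key : ∀ (θ : IrrCharacter G) (_ : θ ∈ B) (s : Subgroup.centralizer ({w} : Set G)),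
      blockPart (pullSet π B) (fun c : Subgroup.centralizer ({w} : Set G) =>
        (θ : G → ℂ) (w * c)) s = (θ : G → ℂ) w / (θ : G → ℂ) 1 * (θ : G → ℂ) s := by
    intro θ hθ s
    have hfun : (fun c : Subgroup.centralizer ({w} : Set G) => (θ : G → ℂ) (w * c)) =
        fun c => (θ : G → ℂ) w / (θ : G → ℂ) 1 * (pull π θ : _ → ℂ) c := by
      funext c
      rw [pull_apply]
      show (θ : G → ℂ) (w * (c : G)) = _ * (θ : G → ℂ) (c : G)
      rw [apply_center_mul hw θ (c : G)]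
    rw [hfun, blockPart_mem (χ := pull π θ) (show pull π θ ∈ pullSet π B from ⟨θ, hθ, rfl⟩), pull_apply]
    rfl
  simp only [contrib, regPair, key χ hχ, key ψ hψ, map_mul]
  rw [Nat.card_congr π.toEquiv]
  have hsum : ∀ F : G → ℂ, ∑ s ∈ regSet (G := Subgroup.centralizer ({w} : Set G)) p, F s =
        ∑ g ∈ regSet (G := G) p, F g := by
    intro F
    refine Finset.sum_equiv π.toEquiv (fun s => ?_) fun s _ => rfl
    simp only [regSet, Finset.mem_filter, Finset.mem_univ, true_and]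
    show IsPRegular p s ↔ IsPRegular p (π s)
    unfold IsPRegular
    rw [MulEquiv.orderOf_eq]
  simp only [Finset.mul_sum]
  rw [hsum fun g => ((p ^ d : ℕ) : ℂ) * ((Nat.card G : ℂ)⁻¹ *
    ((χ : G → ℂ) w / (χ : G → ℂ) 1 * (χ : G → ℂ) g *
      (conj ((ψ : G → ℂ) w / (ψ : G → ℂ) 1) * conj ((ψ : G → ℂ) g))))]
  exact Finset.sum_congr rfl fun g _ => by ring

end Central

end CfsgLib.QuatBlocks
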