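import Cfsg.Agent.Lib.QuatBlocks.TopFacts
import Cfsg.Agent.Lib.QuatBlocks.CombMain
import Cfsg.Agent.Lib.QuatBlocks.CombSmall

/-!
# The integral data of a block with quaternion defect group
-/

set_option autoImplicit false
set_option maxHeartbeats 1600000
set_option synthInstance.maxHeartbeats 400000

open scoped ComplexConjugate Classical
open Cfsg CfsgLib.Blocks CfsgLib.Blocks.Pairs CfsgLib.BlockRank CfsgLib.DihBlocks Finset Matrix

namespace CfsgLib.QuatBlocks

universe u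

variable {G : Type u} [Group G] [Fintype G] {M : Ideal AlgInt} [M.IsMaximal]
  [CharP (ResField M) 2] {B : Set (IrrCharacter G)} [Fintype B]

namespace Setup

variable (S : Setup M B)

/-- The matrices with the eigenvalues `eta j`. -/
noncomputable def cheb : ℕ → B → B → ℤ
  | 0 => fun χ ψ => if χ = ψ then 2 else 0
  | 1 => S.mat
  | j + 2 => fun χ ψ => Comb.app S.mat (fun η => cheb (j + 1) η ψ) χ - cheb j χ ψ

theorem cheb_cast (j : ℕ) :
    ∀ χ ψ : B, (S.cheb j χ ψ : ℂ) = S.pr.F (fun s => eta S.ζ j (S.ix s)) χ ψ := by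
  induction j using Nat.twoStepInduction with
  | zero =>
    intro χ ψ
    rw [S.pr.F_apply, cheb]
    simp only [eta_zero, ← Finset.mul_sum, S.pr.sum_one]
    split_ifs <;> simp
  | one =>
    intro χ ψ
    rw [cheb, S.eigen.cast]
    congr
    funext s
    exact S.cast_c s
  | more j ih0 ih1 =>
    intro χ ψ
    rw [cheb, Int.cast_sub, ih0]
    simp only [Comb.app, Int.cast_sum, Int.cast_mul, ih1, S.eigen.cast]
    rw [← Matrix.mul_apply, S.pr.F_mul, S.pr.F_apply, S.pr.F_apply, S.pr.F_apply,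
      ← Finset.sum_sub_distrib]
    refine Finset.sum_congr rfl fun s _ => ?_
    have h := eta_mul S.one_le_h S.hζ (show 1 ≤ j + 1 by omega) (S.ix s)
    rw [Nat.add_sub_cancel] at h
    rw [Pi.mul_apply, S.cast_c]
    linear_combination (S.pr.P s χ ψ) * h

theorem cheb_symm (j : ℕ) (χ ψ : B) : S.cheb j χ ψ = S.cheb j ψ χ := by
  have h : ((S.cheb j χ ψ : ℤ) : ℂ) = ((S.cheb j ψ χ : ℤ) : ℂ) := by
    have h1 := congrArg conj (S.cheb_cast j χ ψ)
    rw [map_intCast, S.pr.F_apply, map_sum] at h1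
    rw [h1, S.cheb_cast, S.pr.F_apply]
    exact Finset.sum_congr rfl fun s _ => by rw [map_mul, conj_eta, S.pr.herm]
  exact_mod_cast h

/-- The scaled first projection. -/
noncomputable def A : B → B → ℤ := S.exists_A.choose

theorem A_cast (χ ψ : B) : (S.A χ ψ : ℂ) = ((4 * S.h : ℕ) : ℤ) * S.pr.P S.o χ ψ :=
  (S.exists_A.choose_spec χ ψ).1

theorem A_diag (χ : B) : (S.A χ χ : ℝ) = 4 * S.h * S.pd 0 χ := by
  rw [S.pd_single S.ix_o (by have := S.one_le_m; omega)]
  refine Complex.ofReal_injective ?_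
  rw [Complex.ofReal_intCast, S.A_cast, Complex.ofReal_mul, S.pr.P_diag_re]
  push_cast
  ring

theorem diag_le (hev : Even S.m) (χ : B) :
    2 * (S.m : ℤ) * Comb.topSum S.m S.b χ + S.A χ χ ≤ 8 * S.m := by
  have h := S.sum_split hev χ
  have hz := S.pd_nonneg S.h χ
  have h0 : S.pd (2 * 0) χ ≤ ∑ t ∈ Finset.range S.m, S.pd (2 * t) χ :=
    Finset.single_le_sum (f := fun t => S.pd (2 * t) χ) (fun t _ => S.pd_nonneg _ χ)
      (Finset.mem_range.2 S.one_le_m)
  rw [mul_zero] at h0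
  have hA := S.A_diag χ
  have hh : (S.h : ℝ) = 2 * S.m := by exact_mod_cast S.hm
  rw [hh] at hA
  suffices hr : ((2 * (S.m : ℤ) * Comb.topSum S.m S.b χ + S.A χ χ : ℤ) : ℝ) ≤
      ((8 * (S.m : ℤ) : ℤ) : ℝ) by exact_mod_cast hr
  push_cast
  rw [hA]
  nlinarith [mul_le_mul_of_nonneg_left
    (show (Comb.topSum S.m S.b χ : ℝ) / 4 + S.pd 0 χ ≤ 1 by linarith)
    (show (0 : ℝ) ≤ 8 * S.m by positivity)]

theorem exists_pow_half (hev : Even S.m) : ∃ k, S.m = 2 * 2 ^ k := by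
  obtain ⟨t, ht⟩ := S.hQ.isPow
  obtain ⟨c, hc⟩ := hev
  have := S.hm
  have := S.one_le_m
  rcases t with _ | _ | k
  · omega
  · rw [pow_one] at ht; omega
  · refine ⟨k, ?_⟩
    rw [pow_succ', pow_succ'] at ht
    omega

theorem diag_zero (hev : Even S.m) {χ : B}
    (hz0 : blockHeight 2 B ((χ : IrrCharacter G) : G → ℂ) = 0) :
    2 * (S.m : ℤ) * Comb.topSum S.m S.b χ + S.A χ χ ≤ 6 * S.m + 1 := by
  obtain ⟨k, hk⟩ := S.exists_pow_half hev
  have hh2 : (S.h : ℝ) = 2 * S.m := by exact_mod_cast S.hm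
  have hlow := S.lower hz0 k 2 (by have := S.hm; omega)
  rw [← hk] at hlow
  have hpk : 0 < 2 ^ k := pow_pos two_pos k
  have hdec : ∑ t ∈ Finset.range S.m, S.pd (2 * t) χ =
      (∑ t ∈ Finset.range S.m, if t = 0 ∨ t = 2 ^ k then 0 else S.pd (2 * t) χ) +
        (S.pd 0 χ + S.pd S.m χ) := by
    have h1 : ∀ t, S.pd (2 * t) χ = (if t = 0 ∨ t = 2 ^ k then 0 else S.pd (2 * t) χ) +
        ((if t = 0 then S.pd (2 * t) χ else 0) + (if t = 2 ^ k then S.pd (2 * t) χ else 0)) := by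
      intro t
      by_cases ht0 : t = 0
      · subst ht0; simp [hpk.ne]
      · by_cases htk : t = 2 ^ k
        · simp [htk, hpk.ne']
        · simp [ht0, htk]
    rw [Finset.sum_congr rfl fun t _ => h1 t, Finset.sum_add_distrib, Finset.sum_add_distrib,
      Finset.sum_ite_eq', Finset.sum_ite_eq', if_pos (Finset.mem_range.2 S.one_le_m),
      if_pos (Finset.mem_range.2 (by omega)), mul_zero, ← hk]
  have hsplit := S.sum_split hev χ
  rw [hdec] at hsplit
  have hzge := S.pd_z_ge hz0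
  have hmge := S.pd_m_ge hz0
  have hA := S.A_diag χ
  rw [hh2] at hA hlow hmge
  have hm0 : (0 : ℝ) < S.m := Nat.cast_pos.2 S.one_le_m
  rw [div_le_iff₀ (by positivity)] at hlow hzge hmge
  suffices hr : ((2 * (S.m : ℤ) * Comb.topSum S.m S.b χ + S.A χ χ : ℤ) : ℝ) ≤
      ((6 * (S.m : ℤ) + 1 : ℤ) : ℝ) by exact_mod_cast hr
  push_cast
  rw [hA]
  nlinarith [congrArg (fun r : ℝ => 8 * (S.m : ℝ) * r) hsplit]

theorem translate (hev : Even S.m) (χ : B) (j : ℕ) (hj1 : 1 ≤ j) (hj : j < S.m)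
    (hz0 : blockHeight 2 B ((χ : IrrCharacter G) : G → ℂ) = 0)
    (htop : Comb.topSum S.m S.b χ = 3) (hneg : S.b 0 χ * S.b j χ = -1) :
    ∃ v : B → ℤ, Comb.dot v v ≤ 2 ∧ Comb.dot v (S.b 0) = 2 * S.b j χ ∧
      Comb.dot v (S.b j) = S.b 0 χ ∧ ∀ ψ, ∑ η, v η * S.A η ψ = 2 * S.A χ ψ := by
  have hh := S.one_le_h
  have hhm := S.hm
  have hsq : S.b 0 χ * S.b 0 χ = 1 ∧ S.b j χ = - S.b 0 χ := by
    rcases Int.eq_one_or_neg_one_of_mul_eq_neg_one hneg with h | h
    · rw [h] at hneg ⊢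
      exact ⟨by ring, by omega⟩
    · rw [h] at hneg ⊢
      exact ⟨by ring, by omega⟩
  have hother : ∀ i, 1 ≤ i → i < S.m → i ≠ j → S.b i χ = 0 := by
    intro i hi1 hi hij
    simp only [Comb.topSum] at htop
    rw [← Finset.add_sum_erase _ _ (Finset.mem_Ico.2 ⟨hj1, hj⟩)] at htop
    have h1 := Finset.single_le_sum (f := fun i => S.b i χ ^ 2) (fun i _ => sq_nonneg _)
      (Finset.mem_erase.2 ⟨hij, Finset.mem_Ico.2 ⟨hi1, hi⟩⟩)
    rw [hsq.2, neg_sq, sq, hsq.1] at htop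
    have h2 : S.b i χ ^ 2 = 0 := le_antisymm (by linarith) (sq_nonneg _)
    exact pow_eq_zero_iff two_ne_zero |>.1 h2
  have htv : ∀ t, S.tv t χ = (S.b 0 χ : ℂ) * (1 - eta S.ζ j (2 * t + 1)) := by
    intro t
    simp only [tv]
    rw [Finset.sum_eq_single j (fun i hi hij => by
        rw [hother i (Finset.mem_Ico.1 hi).1 (Finset.mem_Ico.1 hi).2 hij, Int.cast_zero, zero_mul])
      (fun h => absurd (Finset.mem_Ico.2 ⟨hj1, hj⟩) h), hsq.2]
    push_cast
    ring
  refine ⟨fun η => S.cheb j η χ, ?_, ?_, ?_, fun ψ => ?_⟩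
  · -- the length
    have hnorm : ((Comb.dot (fun η => S.cheb j η χ) (fun η => S.cheb j η χ) : ℤ) : ℝ) =
        ∑ i ∈ Finset.range (S.h + 1), (eta S.ζ j i).re ^ 2 * S.pd i χ := by
      refine Eq.trans ?_ (S.sum_ix (fun i => (eta S.ζ j i).re ^ 2) χ)
      refine Complex.ofReal_injective ?_
      rw [Complex.ofReal_intCast, Complex.ofReal_sum]
      simp only [Comb.dot, Int.cast_sum, Int.cast_mul]
      rw [Finset.sum_congr rfl (g := fun η => S.pr.F (fun s => eta S.ζ j (S.ix s)) χ η *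
          S.pr.F (fun s => eta S.ζ j (S.ix s)) η χ) fun η _ => by
        rw [← S.cheb_cast, ← S.cheb_cast, S.cheb_symm j χ η],
        ← Matrix.mul_apply, S.pr.F_mul, S.pr.F_apply]
      refine Finset.sum_congr rfl fun s _ => ?_
      rw [Complex.ofReal_mul, Complex.ofReal_pow, eta_re, S.pr.P_diag_re, Pi.mul_apply, sq]
    have hodd : ∑ t ∈ Finset.range S.m, (eta S.ζ j (2 * t + 1)).re ^ 2 * S.pd (2 * t + 1) χ ≤ 2 := by
      have hterm : ∀ t ∈ Finset.range S.m, (eta S.ζ j (2 * t + 1)).re ^ 2 * S.pd (2 * t + 1) χ =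
          (eta S.ζ j (2 * t + 1) * eta S.ζ j (2 * t + 1) -
            2 * (eta S.ζ j (2 * t + 1) * eta S.ζ j (2 * t + 1) * eta S.ζ j (2 * t + 1)) +
            eta S.ζ j (2 * t + 1) ^ 4).re / (4 * S.m) := by
        intro t ht
        rw [S.pd_odd hev (Finset.mem_range.1 ht), htv, ← mul_div_assoc]
        congr 1
        have h1 : ((S.b 0 χ : ℂ)) * (S.b 0 χ : ℂ) = 1 := by exact_mod_cast hsq.1
        rw [← Complex.re_ofReal_mul, Complex.ofReal_pow, eta_re]
        congr 1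
        linear_combination (eta S.ζ j (2 * t + 1)) ^ 2 * (1 - eta S.ζ j (2 * t + 1)) ^ 2 * h1
      have h3 := sum_fourth_le S.one_le_m S.hζ hhm hj1 hj
      have h2 : (∑ t ∈ Finset.range S.m, eta S.ζ j (2 * t + 1) * eta S.ζ j (2 * t + 1)).re =
          2 * S.m := by
        rw [sum_sq_half S.hζ hhm hj1 hj, Complex.natCast_re]
        exact_mod_cast hhm
      rw [Finset.sum_congr rfl hterm, ← Finset.sum_div, ← Complex.re_sum, Finset.sum_add_distrib,
        Finset.sum_sub_distrib, ← Finset.mul_sum, sum_cube_half S.hζ hhm S.hQ.isPow hj1 hj,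
        mul_zero, sub_zero, Complex.add_re, h2,
        div_le_iff₀ (by have := S.one_le_m; positivity)]
      linarith
    obtain ⟨a, c, hc, hac⟩ := Nat.exists_eq_two_pow_mul_odd (n := j) (by omega)
    obtain ⟨k, hk⟩ := S.exists_pow_half hev
    have hcpos := hc.pos
    have ha : a ≤ k := by
      by_contra hlt
      have h1 : 2 ^ (k + 1) ≤ j := hac ▸ le_trans (Nat.pow_le_pow_right two_pos (by omega))
        (Nat.le_mul_of_pos_right _ hcpos)
      rw [pow_succ'] at h1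
      omega
    obtain ⟨b', hb'⟩ : ∃ b', k = a + b' := Nat.exists_eq_add_of_le ha
    have hbpos : 0 < 2 ^ b' := pow_pos two_pos b'
    have hmi : S.m = 2 ^ a * (2 * 2 ^ b') := by rw [hk, hb', pow_add]; ring
    have hile : 2 * 2 ^ b' ≤ S.m := by
      rw [hmi]; exact Nat.le_mul_of_pos_left _ (pow_pos two_pos a)
    have heta : eta S.ζ j (2 * 2 ^ b') = 0 :=
      eta_eq_zero hh hhm S.hζ ⟨c, hc, by rw [hmi, hac]; ring⟩
    have hpos : 0 < S.pd (2 * 2 ^ b') χ := by
      rcases Nat.eq_zero_or_pos a with rfl | ha1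
      · rw [pow_zero, one_mul] at hmi
        rw [← hmi]
        refine lt_of_lt_of_le ?_ (S.pd_m_ge hz0)
        have : (0 : ℝ) < S.h := Nat.cast_pos.2 hh
        positivity
      · refine S.pd_pos (j := a + 1) ?_ (by omega) hz0
        rw [hhm, hmi, pow_succ]; ring
    have hi0 : 2 ^ b' ∈ Finset.range S.m := Finset.mem_range.2 (by omega)
    have hb4 : ∀ i, (eta S.ζ j i).re ^ 2 ≤ 4 := by
      intro i
      have h0 : S.ζ ≠ 0 := S.hζ.ne_zero (by omega)
      have h1 : ‖S.ζ ^ (j * i)‖ = 1 := by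
        rw [norm_pow, Complex.norm_eq_one_of_pow_eq_one S.hζ.pow_eq_one (by omega), one_pow]
      have h2 := Complex.abs_re_le_norm (S.ζ ^ (j * i))
      rw [h1] at h2
      have h3 : (eta S.ζ j i).re = 2 * (S.ζ ^ (j * i)).re := by
        rw [CfsgLib.DihBlocks.eta, Complex.add_re, Complex.conj_re]; ring
      rw [h3]
      nlinarith [abs_le.1 h2]
    have hevsum : ∑ t ∈ Finset.range S.m, (eta S.ζ j (2 * t)).re ^ 2 * S.pd (2 * t) χ ≤
        4 * ∑ t ∈ Finset.range S.m, S.pd (2 * t) χ - 4 * S.pd (2 * 2 ^ b') χ := by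
      rw [← Finset.sum_erase_add _ _ hi0, ← Finset.sum_erase_add _ (fun t => S.pd (2 * t) χ)
        hi0, heta, Complex.zero_re, mul_add, Finset.mul_sum]
      have : ∑ t ∈ (Finset.range S.m).erase (2 ^ b'), (eta S.ζ j (2 * t)).re ^ 2 * S.pd (2 * t) χ ≤
          ∑ t ∈ (Finset.range S.m).erase (2 ^ b'), 4 * S.pd (2 * t) χ :=
        Finset.sum_le_sum fun t _ => mul_le_mul_of_nonneg_right (hb4 _) (S.pd_nonneg _ χ)
      linarith
    have hz4 : (eta S.ζ j S.h).re ^ 2 * S.pd S.h χ ≤ 4 * S.pd S.h χ :=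
      mul_le_mul_of_nonneg_right (hb4 _) (S.pd_nonneg _ χ)
    have hsplit := S.sum_split hev χ
    rw [htop] at hsplit
    push_cast at hsplit
    have hlt : ((Comb.dot (fun η => S.cheb j η χ) (fun η => S.cheb j η χ) : ℤ) : ℝ) <
        ((3 : ℤ) : ℝ) := by
      rw [hnorm, Finset.sum_range_succ]
      conv_lhs => arg 1; rw [hhm, sum_range_two_mul, Finset.sum_add_distrib]
      push_cast
      linarith
    have := Int.cast_lt.1 hlt
    omega
  all_goals
    have hR : ∀ t < S.m, (S.pr.F (fun s => eta S.ζ j (S.ix s)) *ᵥ Proj.cv (S.b 0)) χ +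
        ∑ i ∈ Finset.Ico 1 S.m, (S.pr.F (fun s => eta S.ζ j (S.ix s)) *ᵥ Proj.cv (S.b i)) χ *
          eta S.ζ i (2 * t + 1) =
        (S.b 0 χ : ℂ) * (eta S.ζ j (2 * t + 1) -
          eta S.ζ j (2 * t + 1) * eta S.ζ j (2 * t + 1)) := by
      intro t ht
      rw [S.F_tv_apply hev (fun s => eta S.ζ j (S.ix s)) (fun i => eta S.ζ j i) (fun s => rfl) χ ht,
        htv]
      ring
    have hdot : ∀ i, ((Comb.dot (fun η => S.cheb j η χ) (S.b i) : ℤ) : ℂ) =
        (S.pr.F (fun s => eta S.ζ j (S.ix s)) *ᵥ Proj.cv (S.b i)) χ := by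
      intro i
      simp only [Comb.dot, Int.cast_sum, Int.cast_mul, Matrix.mulVec, dotProduct, Proj.cv]
      exact Finset.sum_congr rfl fun η _ => by rw [← S.cheb_cast, S.cheb_symm j η χ]
  · have h := S.extract_zero (fun i => (S.pr.F (fun s => eta S.ζ j (S.ix s)) *ᵥ Proj.cv (S.b i)) χ)
      _ hR
    rw [← hdot, ← Finset.mul_sum, Finset.sum_sub_distrib, sum_one_half S.hζ hhm hj1 (by omega),
      sum_sq_half S.hζ hhm hj1 hj, hhm] at h
    have h' : (S.m : ℂ) * ((Comb.dot (fun η => S.cheb j η χ) (S.b 0) : ℤ) : ℂ) =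
        (S.m : ℂ) * ((2 * S.b j χ : ℤ) : ℂ) := by
      rw [h, hsq.2]
      push_cast
      ring
    exact_mod_cast mul_left_cancel₀ (Nat.cast_ne_zero.2 (by omega)) h'
  · have h := S.extract_pos (fun i => (S.pr.F (fun s => eta S.ζ j (S.ix s)) *ᵥ Proj.cv (S.b i)) χ)
      _ hj1 hj hR
    rw [← hdot, Finset.sum_congr rfl (g := fun t => (S.b 0 χ : ℂ) *
        (eta S.ζ j (2 * t + 1) * eta S.ζ j (2 * t + 1) -
          eta S.ζ j (2 * t + 1) * eta S.ζ j (2 * t + 1) * eta S.ζ j (2 * t + 1)))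
        fun t _ => by ring,
      ← Finset.mul_sum, Finset.sum_sub_distrib, sum_sq_half S.hζ hhm hj1 hj,
      sum_cube_half S.hζ hhm S.hQ.isPow hj1 hj, sub_zero, mul_comm ((S.b 0 χ : ℂ))] at h
    exact_mod_cast mul_left_cancel₀ (Nat.cast_ne_zero.2 (by omega)) h
  · have h1 := congrFun (congrFun (S.pr.F_mul_P (fun s => eta S.ζ j (S.ix s)) S.o) χ) ψ
    simp only [Matrix.mul_apply, Matrix.smul_apply, smul_eq_mul, S.ix_o] at h1
    rw [eta_comm, eta_zero] at h1
    have h : ((∑ η, S.cheb j η χ * S.A η ψ : ℤ) : ℂ) = ((2 * S.A χ ψ : ℤ) : ℂ) := by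
      push_cast
      simp only [S.A_cast]
      rw [mul_left_comm, ← h1, Finset.mul_sum]
      refine Finset.sum_congr rfl fun η _ => ?_
      rw [← S.cheb_cast j χ η, S.cheb_symm j χ η]
      push_cast
      ring
    exact_mod_cast h

include S in
theorem exists_zero : ∃ χ : B, blockHeight 2 B ((χ : IrrCharacter G) : G → ℂ) = 0 := by
  obtain ⟨χ, hχ, h⟩ := CfsgLib.BlockReg.exists_minExp (p := 2)
    (CfsgLib.BlockReg.block_nonempty S.hM S.hB)
  exact ⟨⟨χ, hχ⟩, by rw [CfsgLib.BlockReg.blockHeight_eq, h, Nat.sub_self]⟩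

/-- The data for the combinatorial part. -/
noncomputable def data (hev : Even S.m) : Comb.QData B S.m where
  M := S.mat
  A := S.A
  b := S.b
  ht χ := blockHeight 2 B ((χ : IrrCharacter G) : G → ℂ)
  l := blockRank 2 B
  two_le := by obtain ⟨k, hk⟩ := S.exists_pow_half hev; have := pow_pos (two_pos (α := ℕ)) k; omega
  even_m := hev
  M_symm := S.eigen.M_symm
  A_symm := Proj.Eigen.A_symm S.A_cast
  MA := S.eigen.MA S.A_cast
  AA z x := by
    rw [Proj.Eigen.AA S.A_cast z x, S.hm]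
    push_cast
    ring
  fixed v h x := by
    rw [S.eigen.fixed S.A_cast v h x, S.hm]
    push_cast
    ring
  le_two := S.eigen.le_two
  ge_two := S.eigen.ge_two
  eq_two := S.eigen.eq_two
  le_four := S.eigen.le_four
  eq_four := S.eigen.eq_four
  b_top := S.b_top
  norm_zero := S.b_norm_zero
  norm := S.b_norm
  orth := S.b_orth
  M_b0 x := (S.mat_b hev x).1
  M_b j h1 h2 x := (S.mat_b hev x).2 j h1 h2
  finrank_ker := S.finrank_ker
  card := S.card
  l_pos := S.one_le_rank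
  exists_zero := S.exists_zero
  dvd_A x y := (S.exists_A.choose_spec x y).2.1
  dvd_A_succ x y := (S.exists_A.choose_spec x y).2.2.1
  not_dvd_A x y := (S.exists_A.choose_spec x y).2.2.2.1
  b_odd _ := S.b_odd
  diag_pos x := (S.exists_A.choose_spec x x).2.2.2.2 rfl
  diag_le := S.diag_le hev
  diag_zero _ := S.diag_zero hev
  translate := S.translate hev

/-- The invariants for the group of order at least sixteen. -/
theorem invariants_large {n : ℕ} (hn : 4 ≤ n) (hh : S.h = 2 ^ (n - 2)) :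
    blockRank 2 B ≤ 3 ∧
      (univ.filter fun χ : B => blockHeight 2 B ((χ : IrrCharacter G) : G → ℂ) = 0).card = 4 ∧
      (∀ χ : B, blockHeight 2 B ((χ : IrrCharacter G) : G → ℂ) = 0 ∨
        blockHeight 2 B ((χ : IrrCharacter G) : G → ℂ) = 1 ∨
        blockHeight 2 B ((χ : IrrCharacter G) : G → ℂ) = n - 2) ∧
      (univ.filter fun χ : B => blockHeight 2 B ((χ : IrrCharacter G) : G → ℂ) = 1).card =
        2 ^ (n - 2) - 1 := by
  obtain ⟨a, rfl⟩ : ∃ a, n = a + 4 := ⟨n - 4, by omega⟩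
  rw [show a + 4 - 2 = a + 1 + 1 by omega] at hh ⊢
  have hm : S.m = 2 ^ (a + 1) := by have := S.hm; rw [pow_succ'] at hh; omega
  have hev : Even S.m := ⟨2 ^ a, by rw [hm, pow_succ']; ring⟩
  have h := (S.data hev).invariants (n := a + 4) (by omega)
    (by rw [← S.hm, hh, show a + 4 - 2 = a + 1 + 1 by omega])
  rwa [show a + 4 - 2 = a + 1 + 1 by omega] at h

/-- The invariants for the group of order eight. -/
theorem invariants_small (hh : S.h = 2) :
    blockRank 2 B ≤ 3 ∧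
      (univ.filter fun χ : B => blockHeight 2 B ((χ : IrrCharacter G) : G → ℂ) = 0).card = 4 ∧
      ∀ χ : B, blockHeight 2 B ((χ : IrrCharacter G) : G → ℂ) = 0 ∨
        blockHeight 2 B ((χ : IrrCharacter G) : G → ℂ) = 1 := by
  have hm : S.m = 1 := by have := S.hm; omega
  refine Comb.invariants_eight S.A (fun χ => blockHeight 2 B ((χ : IrrCharacter G) : G → ℂ))
    (S.b 0) (blockRank 2 B) (by rw [S.card, hm]) S.one_le_rank S.exists_zero (fun s => ?_)
    (fun x y => (S.exists_A.choose_spec x y).2.1) (fun x y => (S.exists_A.choose_spec x y).2.2.2.1)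
    (Proj.Eigen.A_symm S.A_cast) (le_of_eq S.b_norm_zero) (fun s => S.b_odd)
  have h := Proj.Eigen.AA S.A_cast s s
  simp only [Comb.app] at h
  rw [hh] at h
  rw [Finset.sum_congr rfl (g := fun y => S.A s y * S.A y s) fun y _ => by
    rw [Proj.Eigen.A_symm S.A_cast y s], h]
  norm_num

end Setup

end CfsgLib.QuatBlocks
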