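import Cfsg.Agent.Lib.DihedralBlocks.CycloReal
import Cfsg.Agent.Lib.QuatBlocks.CombBasic

/-!
# Sums of the real cyclotomic numbers
-/

set_option autoImplicit false
set_option maxHeartbeats 800000

open scoped ComplexConjugate
open Finset CfsgLib.DihBlocks

namespace CfsgLib.QuatBlocks

variable {h m : ℕ} {ζ : ℂ}

theorem conj_eta (ζ : ℂ) (i k : ℕ) : conj (eta ζ i k) = eta ζ i k := by
  simp only [CfsgLib.DihBlocks.eta, map_add, Complex.conj_conj, add_comm]

theorem eta_re (ζ : ℂ) (i k : ℕ) : ((eta ζ i k).re : ℂ) = eta ζ i k :=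
  Complex.conj_eq_iff_re.1 (conj_eta ζ i k)

theorem eta_comm (ζ : ℂ) (i k : ℕ) : eta ζ i k = eta ζ k i := by
  simp only [CfsgLib.DihBlocks.eta, mul_comm]

theorem eta_zero (ζ : ℂ) (k : ℕ) : eta ζ 0 k = 2 := by
  simp only [CfsgLib.DihBlocks.eta, zero_mul, pow_zero, map_one]; norm_num

theorem eta_mul (hh : 1 ≤ h) (hζ : IsPrimitiveRoot ζ (2 * h)) {a b : ℕ} (hab : b ≤ a) (k : ℕ) :
    eta ζ a k * eta ζ b k = eta ζ (a + b) k + eta ζ (a - b) k := by
  obtain ⟨c, rfl⟩ := Nat.exists_eq_add_of_le hab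
  have h0 : ζ ≠ 0 := hζ.ne_zero (by omega)
  simp only [CfsgLib.DihBlocks.eta, conj_root_pow hh hζ, Nat.add_sub_cancel_left]
  simp only [add_mul, pow_add, mul_inv]
  have h1 := pow_ne_zero (b * k) h0
  have h2 := pow_ne_zero (c * k) h0
  field_simp
  ring

theorem eta_sq' (hh : 1 ≤ h) (hζ : IsPrimitiveRoot ζ (2 * h)) (a k : ℕ) :
    eta ζ a k * eta ζ a k = eta ζ (2 * a) k + 2 := by
  rw [eta_mul hh hζ le_rfl, Nat.sub_self, eta_zero, two_mul]

theorem eta_eq_zero (hh : 1 ≤ h) (hhm : h = 2 * m) (hζ : IsPrimitiveRoot ζ (2 * h)) {i k : ℕ}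
    (hik : ∃ c, Odd c ∧ i * k = m * c) : eta ζ i k = 0 := by
  obtain ⟨c, hc, hik⟩ := hik
  have hI : (ζ ^ (m * c)) ^ 2 = -1 := by
    rw [← pow_mul, show m * c * 2 = h * c by rw [hhm]; ring, pow_mul, root_pow_half hh hζ,
      hc.neg_one_pow]
  have h0 : ζ ^ (m * c) ≠ 0 := pow_ne_zero _ (hζ.ne_zero (by omega))
  rw [CfsgLib.DihBlocks.eta, hik, conj_root_pow hh hζ]
  field_simp
  linear_combination hI

theorem eta_h (hh : 1 ≤ h) (hζ : IsPrimitiveRoot ζ (2 * h)) {k : ℕ} (hk : Odd k) :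
    eta ζ h k = -2 := by
  rw [CfsgLib.DihBlocks.eta, pow_mul, root_pow_half hh hζ, hk.neg_one_pow]
  norm_num

theorem eta_re_lt (hζ : IsPrimitiveRoot ζ (2 * h)) {i : ℕ} (hi0 : 0 < i) (hih : i < h) :
    -2 < (eta ζ 1 i).re ∧ (eta ζ 1 i).re < 2 := by
  have hh : 1 ≤ h := by omega
  have hn : ‖ζ ^ i‖ = 1 := by
    rw [norm_pow, Complex.norm_eq_one_of_pow_eq_one hζ.pow_eq_one (by omega), one_pow]
  have h1 : Complex.normSq (ζ ^ i) = 1 := by rw [Complex.normSq_eq_norm_sq, hn, one_pow]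
  rw [Complex.normSq_apply] at h1
  have hne1 : ζ ^ i ≠ 1 := hζ.pow_ne_one_of_pos_of_lt (by omega) (by omega)
  have hne2 : ζ ^ i ≠ -1 := by
    intro he
    rw [← root_pow_half hh hζ] at he
    have := hζ.pow_inj (by omega) (by omega) he
    omega
  have hre : (eta ζ 1 i).re = 2 * (ζ ^ i).re := by
    rw [CfsgLib.DihBlocks.eta, one_mul, Complex.add_re, Complex.conj_re]; ring
  set a := (ζ ^ i).re
  set b := (ζ ^ i).im
  have hb : b ≠ 0 := by
    intro hb
    rw [hb, mul_zero, add_zero] at h1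
    rcases mul_self_eq_one_iff.1 h1 with ha | ha
    · exact hne1 (Complex.ext ha hb)
    · exact hne2 (Complex.ext (by rw [Complex.neg_re, Complex.one_re]; exact ha)
        (by rw [Complex.neg_im, Complex.one_im, neg_zero]; exact hb))
  have hb2 : 0 < b * b := mul_self_pos.2 hb
  rw [hre]
  constructor <;> nlinarith

/-- The recurrence of the coefficients under multiplication by the first number. -/
theorem eta_one_mul_sum (hh : 1 ≤ h) (hζ : IsPrimitiveRoot ζ (2 * h)) (b : ℕ → ℂ) (k : ℕ) :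
    ∀ n : ℕ, eta ζ 1 k * (b 0 + ∑ i ∈ Ico 1 (n + 1), b i * eta ζ i k) +
        b (n + 1) * eta ζ n k =
      2 * b 1 + ∑ i ∈ Ico 1 (n + 1), (b (i - 1) + b (i + 1)) * eta ζ i k +
        b n * eta ζ (n + 1) k := by
  intro n
  induction n with
  | zero => simp [eta_zero]; ring
  | succ n ih =>
    rw [Finset.sum_Ico_succ_top (by omega : 1 ≤ n + 1), Finset.sum_Ico_succ_top (by omega : 1 ≤ n + 1)]
    have hm := eta_mul hh hζ (show 1 ≤ n + 1 by omega) k
    rw [Nat.add_sub_cancel] at hm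
    simp only [Nat.add_sub_cancel]
    linear_combination ih + b (n + 1) * hm

variable (hhm : h = 2 * m)

/-- The half sum of the fourth powers. -/
theorem sum_fourth_le (hm : 1 ≤ m) (hζ : IsPrimitiveRoot ζ (2 * h)) (hhm : h = 2 * m) {j : ℕ}
    (hj1 : 1 ≤ j) (hj : j < m) :
    (∑ t ∈ range m, eta ζ j (2 * t + 1) ^ 4).re ≤ 6 * m := by
  have hh : 1 ≤ h := by omega
  have h2 : ∀ t, eta ζ j (2 * t + 1) ^ 4 =
      4 + 4 * eta ζ (2 * j) (2 * t + 1) + eta ζ (2 * j) (2 * t + 1) * eta ζ (2 * j) (2 * t + 1) := by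
    intro t
    have := eta_sq' hh hζ j (2 * t + 1)
    linear_combination (eta ζ j (2 * t + 1) * eta ζ j (2 * t + 1) + eta ζ (2 * j) (2 * t + 1) + 2) * this
  have hs1 : ∑ t ∈ range m, eta ζ (2 * j) (2 * t + 1) = 0 := by
    have := sum_half_eta (q := h) ⟨m, hhm⟩ hζ (show 1 ≤ 2 * j by omega) (by omega)
    rwa [show h / 2 = m by omega] at this
  simp only [h2, Finset.sum_add_distrib, ← Finset.mul_sum, hs1, mul_zero, add_zero,
    Finset.sum_const, Finset.card_range, nsmul_eq_mul, Complex.add_re]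
  rw [show ((m : ℂ) * 4).re = (m : ℝ) * 4 by simp]
  suffices hsq : (∑ t ∈ range m, eta ζ (2 * j) (2 * t + 1) * eta ζ (2 * j) (2 * t + 1)).re ≤
      2 * m by linarith
  simp only [eta_sq' hh hζ (2 * j), Finset.sum_add_distrib, Finset.sum_const, Finset.card_range,
    nsmul_eq_mul, Complex.add_re]
  rw [show ((m : ℂ) * 2).re = (m : ℝ) * 2 by simp]
  suffices hsum : (∑ t ∈ range m, eta ζ (2 * (2 * j)) (2 * t + 1)).re ≤ 0 by linarith
  rcases lt_trichotomy (2 * (2 * j)) h with h3 | h3 | h3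
  · have := sum_half_eta (q := h) ⟨m, hhm⟩ hζ (show 1 ≤ 2 * (2 * j) by omega) h3
    rw [show h / 2 = m by omega] at this
    simp [this]
  · rw [h3, Finset.sum_congr rfl fun t _ => eta_h hh hζ (odd_two_mul_add_one t)]
    simp
  · -- fold the index into the range
    have hfold : ∀ t, eta ζ (2 * (2 * j)) (2 * t + 1) = - eta ζ (2 * (2 * j) - h) (2 * t + 1) := by
      intro t
      rw [CfsgLib.DihBlocks.eta, CfsgLib.DihBlocks.eta, show 2 * (2 * j) = (2 * (2 * j) - h) + h by omega,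
        Nat.add_mul, pow_add, pow_mul ζ h, root_pow_half hh hζ,
        (odd_two_mul_add_one t).neg_one_pow, map_mul, map_neg, map_one,
        show 2 * (2 * j) - h + h - h = 2 * (2 * j) - h by omega]
      ring
    have := sum_half_eta (q := h) ⟨m, hhm⟩ hζ (show 1 ≤ 2 * (2 * j) - h by omega) (by omega)
    rw [show h / 2 = m by omega] at this
    simp [hfold, this]

theorem sum_sq_half (hζ : IsPrimitiveRoot ζ (2 * h)) (hhm : h = 2 * m) {j : ℕ} (hj1 : 1 ≤ j)
    (hj : j < m) : ∑ t ∈ range m, eta ζ j (2 * t + 1) * eta ζ j (2 * t + 1) = (h : ℂ) := by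
  have := sum_half_eta_mul (q := h) ⟨m, hhm⟩ hζ hj1 (by omega) hj1 (by omega)
  rwa [show h / 2 = m by omega, if_pos rfl] at this

theorem sum_one_half (hζ : IsPrimitiveRoot ζ (2 * h)) (hhm : h = 2 * m) {j : ℕ} (hj1 : 1 ≤ j)
    (hj : j < h) : ∑ t ∈ range m, eta ζ j (2 * t + 1) = 0 := by
  have := sum_half_eta (q := h) ⟨m, hhm⟩ hζ hj1 hj
  rwa [show h / 2 = m by omega] at this

theorem sum_mul_half (hζ : IsPrimitiveRoot ζ (2 * h)) (hhm : h = 2 * m) {i j : ℕ} (hi1 : 1 ≤ i)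
    (hi : i < m) (hj1 : 1 ≤ j) (hj : j < m) :
    ∑ t ∈ range m, eta ζ i (2 * t + 1) * eta ζ j (2 * t + 1) = if i = j then (h : ℂ) else 0 := by
  have := sum_half_eta_mul (q := h) ⟨m, hhm⟩ hζ hi1 (by omega) hj1 (by omega)
  rwa [show h / 2 = m by omega] at this

theorem sum_cube_half (hζ : IsPrimitiveRoot ζ (2 * h)) (hhm : h = 2 * m) {j : ℕ}
    (hp : ∃ k, h = 2 ^ k) (hj1 : 1 ≤ j) (hj : j < m) :
    ∑ t ∈ range m, eta ζ j (2 * t + 1) * eta ζ j (2 * t + 1) * eta ζ j (2 * t + 1) = 0 := by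
  have hh : 1 ≤ h := by omega
  obtain ⟨k, hk⟩ := hp
  have hterm : ∀ t, eta ζ j (2 * t + 1) * eta ζ j (2 * t + 1) * eta ζ j (2 * t + 1) =
      eta ζ (3 * j) (2 * t + 1) + 3 * eta ζ j (2 * t + 1) := by
    intro t
    rw [eta_sq' hh hζ, add_mul, eta_mul hh hζ (by omega : j ≤ 2 * j),
      show 2 * j + j = 3 * j by ring, show 2 * j - j = j by omega]
    ring
  simp only [hterm, Finset.sum_add_distrib, ← Finset.mul_sum,
    sum_one_half hζ hhm hj1 (by omega), mul_zero, add_zero]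
  have hne : 3 * j ≠ h := fun h3 => by
    have : 3 ∣ 2 ^ k := ⟨j, by rw [← hk, h3]⟩
    have := Nat.Prime.dvd_of_dvd_pow Nat.prime_three this
    omega
  rcases lt_or_gt_of_ne hne with h3 | h3
  · exact sum_one_half hζ hhm (by omega) h3
  · have hfold : ∀ t, eta ζ (3 * j) (2 * t + 1) = - eta ζ (3 * j - h) (2 * t + 1) := by
      intro t
      rw [CfsgLib.DihBlocks.eta, CfsgLib.DihBlocks.eta, show 3 * j = (3 * j - h) + h by omega,
        Nat.add_mul, pow_add, pow_mul ζ h, root_pow_half hh hζ,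
        (odd_two_mul_add_one t).neg_one_pow, map_mul, map_neg, map_one,
        show 3 * j - h + h - h = 3 * j - h by omega]
      ring
    simp only [hfold, Finset.sum_neg_distrib, sum_one_half hζ hhm (by omega : 1 ≤ 3 * j - h)
      (by omega), neg_zero]

end CfsgLib.QuatBlocks
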