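import Cfsg.Agent.Lib.QuatBlocks.Sections
import Cfsg.Agent.Lib.DihedralBlocks.Group
import Cfsg.Agent.Lib.DihedralBlocks.CycloReal
import Cfsg.Agent.Lib.Char.Induced
import Cfsg.Agent.Lib.CharDeep.LinearExt
import Mathlib.GroupTheory.SpecificGroups.Quaternion

/-!
# Quaternion subgroups and the fusion of their elements in a block
-/

set_option autoImplicit false
set_option maxHeartbeats 1600000
set_option synthInstance.maxHeartbeats 400000

open Cfsg CfsgLib.Blocks CfsgLib.Blocks.Pairs CfsgLib.DihBlocks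
open scoped Classical ComplexConjugate

namespace CfsgLib.QuatBlocks

universe u

variable {G : Type u} [Group G]

/-- `D` is quaternion of order `4 * h` with cyclic part generated by `x`. -/
structure Quat (D : Subgroup G) (x y : G) (h : ℕ) : Prop where
  mem_x : x ∈ D
  mem_y : y ∈ D
  two_le : 2 ≤ h
  isPow : ∃ t, h = 2 ^ t
  order : orderOf x = 2 * h
  y_sq : y * y = x ^ h
  inv : y * x * y⁻¹ = x⁻¹
  cases : ∀ d ∈ D, (∃ i : ℕ, d = x ^ i) ∨ ∃ i : ℕ, d = y * x ^ i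
  y_out : y ∉ Subgroup.zpowers x
  card : Nat.card D = 4 * h

/-- A quaternion group of order `2 ^ n` gives the data. -/
theorem exists_quat {D : Subgroup G} {n : ℕ} (hn : 3 ≤ n)
    (hq : Nonempty (D ≃* QuaternionGroup (2 ^ (n - 2)))) :
    ∃ x y : G, Quat D x y (2 ^ (n - 2)) := by
  obtain ⟨φ⟩ := hq
  set N := 2 ^ (n - 2) with hN
  haveI : NeZero N := ⟨pow_ne_zero _ two_ne_zero⟩
  haveI : NeZero (2 * N) := ⟨mul_ne_zero two_ne_zero (pow_ne_zero _ two_ne_zero)⟩
  refine ⟨(φ.symm (QuaternionGroup.a 1) : D), (φ.symm (QuaternionGroup.xa 0) : D),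
    (φ.symm _).2, (φ.symm _).2, ?_, ⟨_, rfl⟩, ?_, ?_, ?_, fun d hd => ?_, ?_, ?_⟩
  · calc 2 = 2 ^ 1 := rfl
      _ ≤ 2 ^ (n - 2) := Nat.pow_le_pow_right (by norm_num) (by omega)
  · rw [Subgroup.orderOf_coe, MulEquiv.orderOf_eq, QuaternionGroup.orderOf_a_one]
  · rw [← Subgroup.coe_mul, ← map_mul, ← SubgroupClass.coe_pow, ← map_pow]
    congr 2
    rw [QuaternionGroup.a_one_pow, QuaternionGroup.xa_mul_xa]
    simp
  · rw [← InvMemClass.coe_inv, ← Subgroup.coe_mul, ← Subgroup.coe_mul, ← map_inv, ← map_mul,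
      ← map_mul, ← InvMemClass.coe_inv, ← map_inv]
    congr 2
    rw [mul_inv_eq_iff_eq_mul]
    simp only [QuaternionGroup.xa_mul_a, zero_add]
    rw [show (QuaternionGroup.a (1 : ZMod (2 * N)))⁻¹ = QuaternionGroup.a (-1) from rfl,
      QuaternionGroup.a_mul_xa]
    simp
  · obtain ⟨a, ha⟩ : ∃ a, φ ⟨d, hd⟩ = a := ⟨_, rfl⟩
    have hd' : (⟨d, hd⟩ : D) = φ.symm a := by rw [← ha, MulEquiv.symm_apply_apply]
    cases a with
    | a i =>
      refine Or.inl ⟨i.val, ?_⟩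
      rw [← SubgroupClass.coe_pow, ← map_pow, QuaternionGroup.a_one_pow, ZMod.natCast_zmod_val]
      exact congrArg Subtype.val hd'
    | xa i =>
      refine Or.inr ⟨i.val, ?_⟩
      rw [← SubgroupClass.coe_pow, ← map_pow, ← Subgroup.coe_mul, ← map_mul,
        QuaternionGroup.a_one_pow, ZMod.natCast_zmod_val, QuaternionGroup.xa_mul_a, zero_add]
      exact congrArg Subtype.val hd'
  · intro hmem
    obtain ⟨k, hk⟩ := Subgroup.mem_zpowers_iff.1 hmem
    rw [← SubgroupClass.coe_zpow, ← map_zpow] at hk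
    have h1 := φ.symm.injective (Subtype.ext hk)
    have h2 : ∀ m : ℤ, ∃ i, (QuaternionGroup.a (1 : ZMod (2 * N))) ^ m = QuaternionGroup.a i := by
      intro m
      rcases m with m | m
      · exact ⟨_, by rw [Int.ofNat_eq_natCast, zpow_natCast, QuaternionGroup.a_one_pow]⟩
      · exact ⟨-((m + 1 : ℕ) : ZMod (2 * N)),
          by rw [zpow_negSucc, QuaternionGroup.a_one_pow]; rfl⟩
    obtain ⟨i, hi⟩ := h2 k
    rw [hi] at h1
    exact QuaternionGroup.noConfusion rfl (heq_of_eq h1)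
  · rw [Nat.card_congr φ.toEquiv, Nat.card_eq_fintype_card, QuaternionGroup.card]

namespace Quat

variable {D : Subgroup G} {x y : G} {h : ℕ}

theorem zpowers_le (hQ : Quat D x y h) : Subgroup.zpowers x ≤ D := Subgroup.zpowers_le.2 hQ.mem_x

theorem exists_half (hQ : Quat D x y h) : ∃ m, h = 2 * m ∧ 1 ≤ m := by
  obtain ⟨t, ht⟩ := hQ.isPow
  have := hQ.two_le
  rcases t with _ | t
  · omega
  · exact ⟨2 ^ t, by rw [ht, pow_succ'], Nat.one_le_two_pow⟩

theorem inv_pow (hQ : Quat D x y h) (i : ℕ) : y * x ^ i * y⁻¹ = (x ^ i)⁻¹ := by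
  rw [← conj_pow, hQ.inv, _root_.inv_pow]

theorem pow_two_h (hQ : Quat D x y h) : x ^ (2 * h) = 1 := hQ.order ▸ pow_orderOf_eq_one x

theorem pow_inj (hQ : Quat D x y h) [Finite G] {a b : ℕ} (ha : a < 2 * h) (hb : b < 2 * h)
    (hab : x ^ a = x ^ b) : a = b := by
  rw [pow_eq_pow_iff_modEq, hQ.order] at hab
  exact Nat.ModEq.eq_of_lt_of_lt hab ha hb

theorem z_inv (hQ : Quat D x y h) : (x ^ h)⁻¹ = x ^ h := by
  refine inv_eq_of_mul_eq_one_right ?_
  rw [← pow_add, ← two_mul, hQ.pow_two_h]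

theorem z_sq (hQ : Quat D x y h) : x ^ h * x ^ h = 1 := by
  rw [← pow_add, ← two_mul, hQ.pow_two_h]

theorem orderOf_pow_eq (hQ : Quat D x y h) {i : ℕ} (hi : i ∣ 2 * h) :
    orderOf (x ^ i) = 2 * h / i := by
  have h2 := hQ.two_le
  rcases Nat.eq_zero_or_pos i with rfl | h0
  · rw [zero_dvd_iff] at hi; omega
  · rw [orderOf_pow_of_dvd (by omega) (hQ.order ▸ hi), hQ.order]

theorem orderOf_z (hQ : Quat D x y h) : orderOf (x ^ h) = 2 := by
  rw [hQ.orderOf_pow_eq (Dvd.intro_left 2 rfl), Nat.mul_div_cancel _ (by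
    have := hQ.two_le; omega)]

theorem sq_out (hQ : Quat D x y h) {d : G} (hd : d ∈ D) (hout : d ∉ Subgroup.zpowers x) :
    d * d = x ^ h := by
  rcases hQ.cases d hd with ⟨i, rfl⟩ | ⟨i, rfl⟩
  · exact absurd (Subgroup.npow_mem_zpowers x i) hout
  · calc y * x ^ i * (y * x ^ i) = y * x ^ i * y⁻¹ * (y * y) * x ^ i := by group
      _ = (x ^ i)⁻¹ * x ^ h * x ^ i := by rw [hQ.inv_pow, hQ.y_sq]
      _ = x ^ h := by group

theorem orderOf_out (hQ : Quat D x y h) {d : G} (hd : d ∈ D) (hout : d ∉ Subgroup.zpowers x) :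
    orderOf d = 4 := by
  haveI : Fact (Nat.Prime 2) := ⟨Nat.prime_two⟩
  have h1 : orderOf d = 2 ^ (1 + 1) := by
    refine orderOf_eq_prime_pow ?_ ?_
    · rw [pow_one, sq, hQ.sq_out hd hout]
      intro h0
      have := hQ.orderOf_z
      rw [h0, orderOf_one] at this
      omega
    · rw [show 2 ^ (1 + 1) = 2 * 2 from rfl, pow_mul, sq d, hQ.sq_out hd hout, sq, hQ.z_sq]
  simpa using h1

theorem mem_zpowers_of_order (hQ : Quat D x y h) {d : G} (hd : d ∈ D) (ho : orderOf d ≠ 4) :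
    d ∈ Subgroup.zpowers x := by
  by_contra hout
  exact ho (hQ.orderOf_out hd hout)

theorem z_comm (hQ : Quat D x y h) {d : G} (hd : d ∈ D) : d * x ^ h * d⁻¹ = x ^ h := by
  rcases hQ.cases d hd with ⟨i, rfl⟩ | ⟨i, rfl⟩
  · group
  · calc y * x ^ i * x ^ h * (y * x ^ i)⁻¹ = y * x ^ h * y⁻¹ := by group
      _ = x ^ h := by rw [hQ.inv_pow, hQ.z_inv]

theorem conj_eq (hQ : Quat D x y h) {d : G} (hd : d ∈ D) {u : G} (hu : u ∈ Subgroup.zpowers x) :
    d * u * d⁻¹ = u ∨ d * u * d⁻¹ = u⁻¹ := by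
  obtain ⟨k, rfl⟩ := Subgroup.mem_zpowers_iff.1 hu
  rcases hQ.cases d hd with ⟨i, rfl⟩ | ⟨i, rfl⟩
  · exact Or.inl (by group)
  · refine Or.inr ?_
    calc y * x ^ i * x ^ k * (y * x ^ i)⁻¹ = (y * x * y⁻¹) ^ k := by rw [conj_zpow]; group
      _ = _ := by rw [hQ.inv, inv_zpow]

variable [Finite G]

theorem zpowers_eq_of_orderOf {a b : G}
    (ha : a ∈ Subgroup.zpowers x) (hb : b ∈ Subgroup.zpowers x) (hab : orderOf a = orderOf b) :
    Subgroup.zpowers a = Subgroup.zpowers b := by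
  haveI : Fintype (Subgroup.zpowers x) := Fintype.ofFinite _
  let A : Finset (Subgroup.zpowers x) := Finset.univ.filter fun w => w ^ orderOf b = 1
  have hcard : A.card ≤ orderOf b := IsCyclic.card_pow_eq_one_le (orderOf_pos b)
  have key : ∀ c : G, orderOf c = orderOf b → c ∈ Subgroup.zpowers x →
      ∀ w : G, w ∈ Subgroup.zpowers c ↔ ∃ t ∈ A, (t : G) = w := by
    intro c hc hcx w
    haveI : Fintype (Subgroup.zpowers c) := Fintype.ofFinite _
    let T : Finset G := Finset.univ.image fun t : Subgroup.zpowers c => (t : G)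
    have hTS : T = A.image fun t : Subgroup.zpowers x => (t : G) := by
      refine Finset.eq_of_subset_of_card_le (fun v hv => ?_) ?_
      · obtain ⟨t, -, rfl⟩ := Finset.mem_image.1 hv
        refine Finset.mem_image.2 ⟨⟨t, Subgroup.zpowers_le.2 hcx t.2⟩,
          Finset.mem_filter.2 ⟨Finset.mem_univ _, Subtype.ext ?_⟩, rfl⟩
        obtain ⟨k, hk⟩ := Subgroup.mem_zpowers_iff.1 t.2
        show (t : G) ^ orderOf b = 1
        rw [← hk, ← hc, ← zpow_natCast, ← zpow_mul, mul_comm, zpow_mul, zpow_natCast,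
          pow_orderOf_eq_one, one_zpow]
      · rw [Finset.card_image_of_injective _ Subtype.val_injective,
          Finset.card_image_of_injective _ Subtype.val_injective, Finset.card_univ,
          ← Nat.card_eq_fintype_card, Nat.card_zpowers, hc]
        exact hcard
    rw [show w ∈ Subgroup.zpowers c ↔ w ∈ T by simp [T, Subgroup.mem_zpowers_iff], hTS]
    simp
  ext w
  rw [key a hab ha w, key b rfl hb w]

theorem eq_z_of_orderOf_two (hQ : Quat D x y h) {d : G} (hd : d ∈ D) (ho : orderOf d = 2) :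
    d = x ^ h := by
  have hdx := hQ.mem_zpowers_of_order hd (by omega)
  have h1 := zpowers_eq_of_orderOf hdx (Subgroup.npow_mem_zpowers x h)
    (ho.trans hQ.orderOf_z.symm)
  obtain ⟨k, hk⟩ := Subgroup.mem_zpowers_iff.1 (h1 ▸ Subgroup.mem_zpowers d)
  have h2 : (x ^ h) ^ (2 : ℤ) = 1 := by
    rw [show (2 : ℤ) = ((2 : ℕ) : ℤ) from rfl, zpow_natCast, sq, hQ.z_sq]
  rcases Int.even_or_odd' k with ⟨i, rfl | rfl⟩
  · rw [zpow_mul, h2, one_zpow] at hk
    rw [← hk, orderOf_one] at ho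
    omega
  · rw [zpow_add, zpow_mul, h2, one_zpow, one_mul, zpow_one] at hk
    exact hk.symm

/-- The cyclic subgroups of order at least eight of `D` lie in the cyclic part. -/
theorem conjSub_zpowers_eq (hQ : Quat D x y h) {u t : G} (hu : u ∈ Subgroup.zpowers x)
    (ho : orderOf u ≠ 4) (ht : t * u * t⁻¹ ∈ D) :
    conjSub t (Subgroup.zpowers u) = Subgroup.zpowers u := by
  have hord : orderOf (t * u * t⁻¹) = orderOf u := by
    rw [show t * u * t⁻¹ = MulAut.conj t u from rfl, MulEquiv.orderOf_eq]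
  rw [CfsgLib.BlockRank.conjSub_zpowers]
  exact zpowers_eq_of_orderOf (hQ.mem_zpowers_of_order ht (by omega)) hu hord

theorem normalizer_zpowers (hQ : Quat D x y h) {u : G}
    (hu : u ∈ Subgroup.zpowers x) : D ≤ Subgroup.normalizer (Subgroup.zpowers u : Set G) := by
  intro d hd
  refine mem_normalizer_of_conjSub_eq ?_
  rcases hQ.conj_eq hd hu with h2 | h2 <;> rw [CfsgLib.BlockRank.conjSub_zpowers, h2]
  exact Subgroup.zpowers_inv

theorem isPGroup (hQ : Quat D x y h) : IsPGroup 2 (Subgroup.zpowers x) := by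
  obtain ⟨t, ht⟩ := hQ.isPow
  exact IsPGroup.of_card (n := t + 1) (by rw [Nat.card_zpowers, hQ.order, ht, pow_succ'])

variable {M : Ideal AlgInt} [M.IsMaximal] [CharP (ResField M) 2]
  {E e f : MonoidAlgebra (ResField M) G}

/-- The stabilizer of a pair on a cyclic subgroup of order at least eight induces at most
inversion. -/
theorem stab_cyclic (hM : IsPModular 2 M) (hQ : Quat D x y h) (hP : PairOf 2 E D e)
    (hno : NoExt 2 D e) {u : G} (hu : u ∈ Subgroup.zpowers x) (ho : orderOf u ≠ 4)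
    (hle : SLE 2 (Subgroup.zpowers u) f D e) {t : G}
    (ht : t ∈ pairStab (Subgroup.zpowers u) f) : t * u * t⁻¹ = u ∨ t * u * t⁻¹ = u⁻¹ := by
  set Z := Subgroup.zpowers u with hZ
  have hQp := hle.pair_left hP.pair
  have hTN : pairStab Z f ≤ Subgroup.normalizer (Z : Set G) := fun w hw => hw.1
  have hfix : ConjFixed (pairStab Z f) f := conjFixed_iff.mpr fun w hw => hw.2
  have hDN : D ⊓ Subgroup.normalizer (Z : Set G) = D :=
    inf_eq_left.2 (hQ.normalizer_zpowers hu)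
  have hDT : D ≤ pairStab Z f := hDN ▸ inf_normalizer_le_pairStab hP.pair hle
  obtain ⟨D₀, hD₀⟩ := exists_maxIn_of_isBlockIdem hM
    (isBlockIdem_of_stable hQp (le_pairStab hQp) hTN (centralizer_le_pairStab hQp) hfix)
  obtain ⟨w, hw, hmw⟩ := exists_conj_maxIn hP hno hle hTN (centralizer_le_pairStab hQp) hfix hD₀
  have hwZ : conjSub w Z = Z := hQ.conjSub_zpowers_eq hu ho
    (hw.le (Subgroup.mem_map_of_mem _ (Subgroup.mem_zpowers u)))
  rw [conjSub_pairStab, hwZ] at hmw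
  rw [hwZ] at hw
  rw [SLE.unique hP.pair hw hle, inf_eq_left.2 hDT] at hmw
  obtain ⟨-, R, hR⟩ := isFullyAutomized_of_maxIn hM hP.pair hle (by rwa [hDN])
  have hZp : IsPGroup 2 Z := hQ.isPGroup.to_le (Subgroup.zpowers_le.2 hu)
  haveI : Finite (MulAut Z) := CfsgLib.Fusion.finite_mulAut
  have htop : (R : Subgroup ((pairFusion 2 D e hP.pair).autGroup Z)) = ⊤ :=
    (R.3 (Q := ⊤) (((Dih.isPGroup_mulAut (C := Z) hZp).to_subgroup _).to_subgroup _) le_top).symm
  have hmem : Z.normalizerMonoidHom ⟨t, ht.1⟩ ∈ (pairFusion 2 D e hP.pair).autGroup Z := by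
    rw [autGroup_pairFusion hP.pair hle, CfsgLib.Fusion.mem_autInducedBy_iff]
    exact ⟨t, ht, fun _ => rfl⟩
  have h2 : (⟨_, hmem⟩ : (pairFusion 2 D e hP.pair).autGroup Z) ∈
      (R : Subgroup ((pairFusion 2 D e hP.pair).autGroup Z)) := htop ▸ Subgroup.mem_top _
  rw [hR, Subgroup.mem_subgroupOf, CfsgLib.Fusion.mem_autInducedBy_iff] at h2
  obtain ⟨d, hd, hdu⟩ := h2
  have h3 : t * u * t⁻¹ = d * u * d⁻¹ := hdu ⟨u, Subgroup.mem_zpowers u⟩
  rw [h3]
  exact hQ.conj_eq hd hu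

end Quat

namespace Quat

variable [Fintype G] {D : Subgroup G} {x y : G} {h : ℕ} {M : Ideal AlgInt} [M.IsMaximal]
  [CharP (ResField M) 2] {E e : MonoidAlgebra (ResField M) G}

/-- Elements of order different from four are fused only to their inverses. -/
theorem fus_eq (hM : IsPModular 2 M) (hQ : Quat D x y h) (hP : PairOf 2 E D e)
    (hno : NoExt 2 D e) {u v : G} (hf : Fus 2 D e u v) (ho : orderOf u ≠ 4) :
    v = u ∨ v = u⁻¹ := by
  have hord := hf.orderOf_eq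
  have hvD := hf.mem_right
  obtain ⟨g, f, h1, rfl, h2⟩ := hf
  have hu := hQ.mem_zpowers_of_order (h1.le (Subgroup.mem_zpowers u)) ho
  have hv := hQ.mem_zpowers_of_order hvD (by omega)
  have heq : Subgroup.zpowers (g * u * g⁻¹) = Subgroup.zpowers u :=
    zpowers_eq_of_orderOf hv hu hord
  rw [heq] at h2
  have h3 : conjA g f = f := SLE.unique hP.pair h2 h1
  exact stab_cyclic hM hQ hP hno hu ho h1
    ⟨mem_normalizer_of_conjSub_eq (by rw [CfsgLib.BlockRank.conjSub_zpowers, heq]), h3⟩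

end Quat

/-! ### The index of an element of a quaternion group -/

/-- The index of an element: `i` for `x ^ i` and its inverse, `h / 2` off the cyclic part. -/
noncomputable def idx (x : G) (h : ℕ) (v : G) : ℕ :=
  if hv : ∃ i, i ≤ h ∧ (v = x ^ i ∨ v = (x ^ i)⁻¹) then Nat.find hv else h / 2

namespace Quat

variable [Finite G] {D : Subgroup G} {x y : G} {h : ℕ}

theorem idx_pow (hQ : Quat D x y h) {i : ℕ} (hi : i ≤ h) {v : G}
    (hv : v = x ^ i ∨ v = (x ^ i)⁻¹) : idx x h v = i := by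
  have h2 := hQ.two_le
  have hex : ∃ j, j ≤ h ∧ (v = x ^ j ∨ v = (x ^ j)⁻¹) := ⟨i, hi, hv⟩
  rw [idx, dif_pos hex]
  obtain ⟨hj, hjv⟩ := Nat.find_spec hex
  set j := Nat.find hex
  by_contra hne
  have hinv : ∀ a b : ℕ, a ≤ h → b ≤ h → x ^ a = (x ^ b)⁻¹ → a = b := by
    intro a b ha hb hab
    have h1 : x ^ (a + b) = x ^ 0 := by rw [pow_add, hab, inv_mul_cancel, pow_zero]
    rcases Nat.lt_or_ge (a + b) (2 * h) with hlt | hge
    · have := hQ.pow_inj hlt (by omega) h1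
      omega
    · omega
  rcases hv with h1 | h1 <;> rcases hjv with h3 | h3 <;> rw [h1] at h3
  · exact hne (hQ.pow_inj (by omega) (by omega) h3).symm
  · exact hne (hinv _ _ hi hj h3).symm
  · exact hne (hinv _ _ hj hi h3.symm)
  · exact hne (hQ.pow_inj (by omega) (by omega) (inv_injective h3)).symm

theorem exists_idx (hQ : Quat D x y h) {v : G} (hv : v ∈ Subgroup.zpowers x) :
    ∃ i, i ≤ h ∧ (v = x ^ i ∨ v = (x ^ i)⁻¹) := by
  have hv' : v ∈ Submonoid.powers x := mem_powers_iff_mem_zpowers.2 hv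
  rw [mem_powers_iff_mem_range_orderOf] at hv'
  obtain ⟨k, hk, rfl⟩ := Finset.mem_image.1 hv'
  rw [Finset.mem_range, hQ.order] at hk
  rcases le_or_gt k h with h1 | h1
  · exact ⟨k, h1, Or.inl rfl⟩
  · refine ⟨2 * h - k, by omega, Or.inr ?_⟩
    refine eq_inv_of_mul_eq_one_left ?_
    rw [← pow_add, show k + (2 * h - k) = 2 * h by omega, hQ.pow_two_h]

theorem idx_le (hQ : Quat D x y h) (v : G) : idx x h v ≤ h := by
  unfold idx
  split_ifs with hv
  · exact (Nat.find_spec hv).1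
  · exact Nat.div_le_self h 2

theorem idx_spec (hQ : Quat D x y h) {v : G} (hv : v ∈ Subgroup.zpowers x) :
    v = x ^ idx x h v ∨ v = (x ^ idx x h v)⁻¹ := by
  obtain ⟨i, hi, h1⟩ := hQ.exists_idx hv
  rw [hQ.idx_pow hi h1]
  exact h1

theorem idx_inv (hQ : Quat D x y h) {v : G} (hv : v ∈ Subgroup.zpowers x) :
    idx x h v⁻¹ = idx x h v := by
  refine hQ.idx_pow (hQ.idx_le v) ?_
  rcases hQ.idx_spec hv with h1 | h1
  · exact Or.inr (inv_inj.2 h1)
  · exact Or.inl (inv_eq_iff_eq_inv.2 h1)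

theorem idx_out {v : G} (hv : v ∉ Subgroup.zpowers x) : idx x h v = h / 2 := by
  rw [idx, dif_neg]
  rintro ⟨i, -, rfl | rfl⟩
  · exact hv (Subgroup.npow_mem_zpowers x i)
  · exact hv (inv_mem (Subgroup.npow_mem_zpowers x i))

theorem idx_of_orderOf_four (hQ : Quat D x y h) {v : G}
    (ho : orderOf v = 4) : idx x h v = h / 2 := by
  obtain ⟨m, hm, hm1⟩ := hQ.exists_half
  by_cases hvx : v ∈ Subgroup.zpowers x
  swap
  · exact idx_out hvx
  have hom : orderOf (x ^ m) = 4 := by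
    rw [hQ.orderOf_pow_eq ⟨4, by omega⟩, hm]
    exact Nat.div_eq_of_eq_mul_left hm1 (by ring)
  have h1 := zpowers_eq_of_orderOf hvx (Subgroup.npow_mem_zpowers x m) (ho.trans hom.symm)
  have h2 : v ∈ Subgroup.zpowers (x ^ m) := h1 ▸ Subgroup.mem_zpowers v
  rw [← mem_powers_iff_mem_zpowers, mem_powers_iff_mem_range_orderOf] at h2
  obtain ⟨k, hk, rfl⟩ := Finset.mem_image.1 h2
  rw [Finset.mem_range, hom] at hk
  have hm2 : h / 2 = m := by omega
  rw [hm2]
  interval_cases k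
  · simp at ho
  · exact hQ.idx_pow (by omega) (Or.inl (pow_one _))
  · rw [← pow_mul, mul_comm, ← hm, hQ.orderOf_z] at ho
    omega
  · refine hQ.idx_pow (by omega) (Or.inr (eq_inv_of_mul_eq_one_left ?_))
    rw [← pow_succ, show 3 + 1 = orderOf (x ^ m) by omega, pow_orderOf_eq_one]

theorem idx_eq_zero (hQ : Quat D x y h) {v : G} (hv : v ∈ D) (h0 : idx x h v = 0) : v = 1 := by
  have h2 := hQ.two_le
  by_cases hvx : v ∈ Subgroup.zpowers x
  · rcases hQ.idx_spec hvx with h1 | h1 <;> rw [h1, h0] <;> simp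
  · rw [idx_out hvx] at h0; omega

theorem idx_eq_h (hQ : Quat D x y h) {v : G} (hv : v ∈ D) (h0 : idx x h v = h) : v = x ^ h := by
  have h2 := hQ.two_le
  by_cases hvx : v ∈ Subgroup.zpowers x
  · rcases hQ.idx_spec hvx with h1 | h1
    · rw [h1, h0]
    · rw [h1, h0, hQ.z_inv]
  · rw [idx_out hvx] at h0; omega

theorem orderOf_eq_four_of_idx (hQ : Quat D x y h) {v : G} (hv : v ∈ D)
    (h0 : idx x h v = h / 2) : orderOf v = 4 := by
  obtain ⟨m, hm, hm1⟩ := hQ.exists_half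
  by_cases hvx : v ∈ Subgroup.zpowers x
  · have hom : orderOf (x ^ m) = 4 := by
      rw [hQ.orderOf_pow_eq ⟨4, by omega⟩, hm]
      exact Nat.div_eq_of_eq_mul_left hm1 (by ring)
    rcases hQ.idx_spec hvx with h1 | h1 <;> rw [h1, h0, show h / 2 = m by omega]
    · exact hom
    · rw [orderOf_inv, hom]
  · exact hQ.orderOf_out hv hvx

theorem mem_zpowers_of_idx (hQ : Quat D x y h) {v : G} (h0 : idx x h v ≠ h / 2) :
    v ∈ Subgroup.zpowers x := by
  by_contra hvx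
  exact h0 (idx_out hvx)

end Quat

namespace Quat

variable [Fintype G] {D : Subgroup G} {x y : G} {h : ℕ} {M : Ideal AlgInt} [M.IsMaximal]
  [CharP (ResField M) 2] {E e : MonoidAlgebra (ResField M) G}

/-- Fusion preserves the index. -/
theorem idx_fus (hM : IsPModular 2 M) (hQ : Quat D x y h) (hP : PairOf 2 E D e)
    (hno : NoExt 2 D e) {u v : G} (hf : Fus 2 D e u v) : idx x h v = idx x h u := by
  by_cases ho : orderOf u = 4
  · rw [hQ.idx_of_orderOf_four ho, hQ.idx_of_orderOf_four (hf.orderOf_eq.trans ho)]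
  · have h3 := fus_eq hM hQ hP hno hf ho
    obtain ⟨g, f, h1, hg, -⟩ := hf
    rcases h3 with h2 | h2 <;> rw [h2]
    exact hQ.idx_inv (hQ.mem_zpowers_of_order (h1.le (Subgroup.mem_zpowers u)) ho)

omit [CharP (ResField M) 2] in
/-- Every element is conjugate in `D` to a power of `x` with exponent at most `h`, to `y` or to
`y * x`. -/
theorem exists_rep (hQ : Quat D x y h) {v : G} (hv : v ∈ D) :
    ∃ d ∈ D, d * v * d⁻¹ = x ^ idx x h v ∨
      orderOf v = 4 ∧ (d * v * d⁻¹ = y ∨ d * v * d⁻¹ = y * x) := by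
  by_cases hvx : v ∈ Subgroup.zpowers x
  · rcases hQ.idx_spec hvx with h1 | h1
    · exact ⟨1, one_mem _, Or.inl (by rw [one_mul, inv_one, mul_one]; exact h1)⟩
    · refine ⟨y, hQ.mem_y, Or.inl ?_⟩
      conv_lhs => rw [h1, ← conj_inv, hQ.inv_pow, inv_inv]
  · rcases hQ.cases v hv with ⟨i, rfl⟩ | ⟨i, rfl⟩
    · exact absurd (Subgroup.npow_mem_zpowers x i) hvx
    have hkey : ∀ k : ℕ, x ^ k * y = y * (x ^ k)⁻¹ := fun k => by
      calc x ^ k * y = y * (x ^ k)⁻¹ * y⁻¹ * y := by rw [← conj_inv, hQ.inv_pow, inv_inv]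
        _ = y * (x ^ k)⁻¹ := by group
    refine ⟨x ^ (i / 2), pow_mem hQ.mem_x _, Or.inr ⟨hQ.orderOf_out hv hvx, ?_⟩⟩
    have h2 : x ^ (i / 2) * (y * x ^ i) * (x ^ (i / 2))⁻¹ = y * x ^ (i % 2) := by
      rw [← mul_assoc, hkey]
      conv_lhs => rw [show i = i / 2 + (i % 2 + i / 2) by omega, pow_add, pow_add]
      rw [show (i / 2 + (i % 2 + i / 2)) / 2 = i / 2 by omega]
      group
    rcases Nat.mod_two_eq_zero_or_one i with h0 | h0
    · exact Or.inl (by rw [h2, h0, pow_zero, mul_one])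
    · exact Or.inr (by rw [h2, h0, pow_one])

end Quat

/-- The natural two-dimensional character, as a function of the index. -/
noncomputable def natChar (x : G) (h : ℕ) (ζ : ℂ) (v : G) : ℂ := eta ζ 1 (idx x h v)

namespace Quat

variable [Fintype G] {D : Subgroup G} {x y : G} {h : ℕ} {ζ : ℂ}

theorem natChar_eq_zero (hQ : Quat D x y h) (hζ : IsPrimitiveRoot ζ (2 * h)) {v : G}
    (hv : idx x h v = h / 2) : natChar x h ζ v = 0 := by
  obtain ⟨m, hm, hm1⟩ := hQ.exists_half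
  have h2 := hQ.two_le
  have hI : (ζ ^ m) ^ 2 = -1 := by
    rw [← pow_mul, mul_comm, ← hm, root_pow_half (by omega) hζ]
  rw [natChar, hv, eta, one_mul, show h / 2 = m by omega, conj_root_pow (by omega) hζ]
  have h0 : ζ ^ m ≠ 0 := pow_ne_zero _ (hζ.ne_zero (by omega))
  field_simp
  linear_combination hI

theorem natChar_isGeneralized (hQ : Quat D x y h) (hζ : IsPrimitiveRoot ζ (2 * h)) :
    IsGeneralizedCharacter D fun v : D => natChar x h ζ (v : G) := by
  have h2 := hQ.two_le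
  let C : Subgroup D := (Subgroup.zpowers x).subgroupOf D
  set g : C := ⟨⟨x, hQ.mem_x⟩, Subgroup.mem_zpowers x⟩ with hgdef
  have hg : ∀ c : C, c ∈ Subgroup.zpowers g := by
    intro c
    obtain ⟨k, hk⟩ := Subgroup.mem_zpowers_iff.1 (c.2 : ((c : D) : G) ∈ Subgroup.zpowers x)
    refine Subgroup.mem_zpowers_iff.2 ⟨k, ?_⟩
    apply Subtype.ext; apply Subtype.ext
    simp only [hgdef, Subgroup.coe_zpow]
    exact hk
  have hord : orderOf g = 2 * h := by
    rw [← Subgroup.orderOf_coe g, ← Subgroup.orderOf_coe (g : D)]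
    exact hQ.order
  let w : ℂˣ := (hζ.isUnit (by omega)).unit
  have hw : orderOf w ∣ orderOf g := by
    rw [hord]
    refine orderOf_dvd_of_pow_eq_one (Units.ext ?_)
    simp only [Units.val_pow_eq_pow_val, Units.val_one, w, IsUnit.unit_spec]
    exact hζ.pow_eq_one
  let f : C →* ℂˣ := monoidHomOfForallMemZpowers hg hw
  have hfg : f g = w := monoidHomOfForallMemZpowers_apply_gen hg hw
  have hfpow : ∀ i : ℕ, (f (g ^ i) : ℂ) = ζ ^ i := fun i => by
    rw [map_pow, hfg, Units.val_pow_eq_pow_val, IsUnit.unit_spec]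
  have hF := CfsgLib.Char.IsCharacter.indFun C (CfsgLib.CharDeep.Lin.isCharacter_hom f).1
  refine ⟨_, _, hF, ⟨0, Representation.trivial ℂ D (Fin 0 → ℂ), rfl⟩, funext fun v => ?_⟩
  have htriv : (Representation.trivial ℂ D (Fin 0 → ℂ)).character = 0 := by
    funext a
    simp [Representation.character]
  rw [htriv, sub_zero]
  by_cases hv : (v : G) ∈ Subgroup.zpowers x
  swap
  · rw [hQ.natChar_eq_zero hζ (idx_out hv)]
    refine (CfsgLib.Char.indFun_eq_zero_of_forall_notMem C _ v fun a hmem => hv ?_).symm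
    have h1 : ((a⁻¹ * v * a : D) : G) ∈ Subgroup.zpowers x := hmem
    push_cast at h1
    have h3 : (v : G) = (a : G) * ((a : G)⁻¹ * (v : G) * a) * (a : G)⁻¹ := by group
    rw [h3]
    rcases hQ.conj_eq a.2 h1 with h4 | h4 <;> rw [h4]
    exacts [h1, inv_mem h1]
  obtain ⟨i, hi, hiv⟩ : ∃ i, i = idx x h (v : G) ∧ ((v : G) = x ^ i ∨ (v : G) = (x ^ i)⁻¹) :=
    ⟨_, rfl, hQ.idx_spec hv⟩
  have hgc : ∀ w' : D, ∀ hw' : w' ∈ C, (w' : G) = x ^ i → (f ⟨w', hw'⟩ : ℂ) = ζ ^ i := by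
    intro w' hw' he
    rw [show (⟨w', hw'⟩ : C) = g ^ i from Subtype.ext (Subtype.ext (by simp [hgdef, he])), hfpow]
  have hgi : ∀ w' : D, ∀ hw' : w' ∈ C, (w' : G) = (x ^ i)⁻¹ → (f ⟨w', hw'⟩ : ℂ) = (ζ ^ i)⁻¹ := by
    intro w' hw' he
    rw [show (⟨w', hw'⟩ : C) = (g ^ i)⁻¹ from Subtype.ext (Subtype.ext (by simp [hgdef, he])),
      map_inv, Units.val_inv_eq_inv_val, hfpow]
  have hmem : ∀ a : D, (a⁻¹ * v * a : D) ∈ C ∧
      (((a⁻¹ * v * a : D) : G) = x ^ i ∨ ((a⁻¹ * v * a : D) : G) = (x ^ i)⁻¹) := by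
    intro a
    have h1 : ((a⁻¹ * v * a : D) : G) = (a : G)⁻¹ * v * ((a : G)⁻¹)⁻¹ := by simp
    have h5 : ((a⁻¹ * v * a : D) : G) = x ^ i ∨ ((a⁻¹ * v * a : D) : G) = (x ^ i)⁻¹ := by
      rw [h1]
      rcases hQ.conj_eq (inv_mem a.2) hv with h4 | h4 <;> rw [h4]
      · exact hiv
      · rcases hiv with h5 | h5 <;> rw [h5]
        · exact Or.inr rfl
        · exact Or.inl (inv_inv _)
    refine ⟨?_, h5⟩
    show ((a⁻¹ * v * a : D) : G) ∈ Subgroup.zpowers x
    rcases h5 with h4 | h4 <;> rw [h4]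
    exacts [Subgroup.npow_mem_zpowers x i, inv_mem (Subgroup.npow_mem_zpowers x i)]
  have hpair : ∀ a : D, extendByZero C (fun c => (f c : ℂ)) (a⁻¹ * v * a) +
      extendByZero C (fun c => (f c : ℂ)) ((a * ⟨y, hQ.mem_y⟩)⁻¹ * v * (a * ⟨y, hQ.mem_y⟩)) =
        ζ ^ i + (ζ ^ i)⁻¹ := by
    intro a
    have hca := (hmem a).1
    have hinv : ((a * ⟨y, hQ.mem_y⟩)⁻¹ * v * (a * ⟨y, hQ.mem_y⟩) : D) = (a⁻¹ * v * a)⁻¹ := by
      apply Subtype.ext
      have h1 : ((a⁻¹ * v * a : D) : G) ∈ Subgroup.zpowers x := hca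
      push_cast at h1 ⊢
      obtain ⟨k, hk⟩ := Subgroup.mem_zpowers_iff.1 h1
      have h4 : y⁻¹ * x ^ k * y = (x ^ k)⁻¹ := by
        rw [show y⁻¹ * x ^ k * y = y⁻¹ * x ^ k * (y⁻¹)⁻¹ by group, ← conj_zpow,
          show y⁻¹ * x * (y⁻¹)⁻¹ = x⁻¹ by
            rw [inv_inv, ← inv_inj, inv_inv, show (y⁻¹ * x * y)⁻¹ = y⁻¹ * x⁻¹ * y by group,
              ← hQ.inv]
            group,
          inv_zpow]
      calc ((a : G) * y)⁻¹ * (v : G) * ((a : G) * y) = y⁻¹ * ((a : G)⁻¹ * v * a) * y := by group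
        _ = _ := by rw [← hk, h4]
    rw [hinv, CfsgLib.Char.extendByZero_apply_mem C _ hca,
      CfsgLib.Char.extendByZero_apply_mem C _ (inv_mem hca)]
    rw [show (⟨(a⁻¹ * v * a)⁻¹, inv_mem hca⟩ : C) = (⟨_, hca⟩ : C)⁻¹ from rfl, map_inv,
      Units.val_inv_eq_inv_val]
    rcases (hmem a).2 with h4 | h4
    · rw [hgc _ hca h4]
    · rw [hgi _ hca h4, inv_inv, add_comm]
  set S := ∑ a : D, extendByZero C (fun c => (f c : ℂ)) (a⁻¹ * v * a) with hS
  have h2S : 2 * S = (Nat.card D : ℂ) * (ζ ^ i + (ζ ^ i)⁻¹) := by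
    have h1 : S = ∑ a : D, extendByZero C (fun c => (f c : ℂ))
        ((a * ⟨y, hQ.mem_y⟩)⁻¹ * v * (a * ⟨y, hQ.mem_y⟩)) :=
      (Fintype.sum_equiv (Equiv.mulRight (⟨y, hQ.mem_y⟩ : D)) _ _ fun a => rfl).symm
    rw [two_mul]
    nth_rewrite 2 [h1]
    rw [hS, ← Finset.sum_add_distrib, Finset.sum_congr rfl fun a _ => hpair a, Finset.sum_const,
      Finset.card_univ, nsmul_eq_mul, ← Nat.card_eq_fintype_card]
  have hC : (Nat.card C : ℂ) = 2 * (h : ℂ) := by
    rw [Nat.card_congr (Subgroup.subgroupOfEquivOfLe hQ.zpowers_le).toEquiv, Nat.card_zpowers,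
      hQ.order]
    push_cast
    ring
  rw [CfsgLib.Char.indFun_apply, ← hS, hC]
  rw [hQ.card] at h2S
  push_cast at h2S
  have h0 : (h : ℂ) ≠ 0 := Nat.cast_ne_zero.2 (by omega)
  simp only [natChar, ← hi, eta, one_mul, conj_root_pow (by omega : 1 ≤ h) hζ]
  rw [show S = 2 * (h : ℂ) * (ζ ^ i + (ζ ^ i)⁻¹) by linear_combination h2S / 2,
    ← mul_assoc, inv_mul_cancel₀ (mul_ne_zero two_ne_zero h0), one_mul]

end Quat

end CfsgLib.QuatBlocks
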