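import Cfsg.Agent.Lib.QuatBlocks.Central
import Cfsg.Agent.Lib.CharTools.Basic
import Cfsg.Agent.Lib.BlockReg.Regular

/-!
# The number of characters of a block with quaternion defect group

At the central involution the characters with kernel containing it are those of a block with
dihedral defect group.
-/

set_option autoImplicit false
set_option maxHeartbeats 1600000
set_option synthInstance.maxHeartbeats 400000

open scoped ComplexConjugate Classical
open Cfsg CfsgLib.Blocks CfsgLib.Blocks.Pairs CfsgLib.BlockRank CfsgLib.DihBlocks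

namespace CfsgLib.QuatBlocks

universe u

variable {G : Type u} [Group G] [Fintype G] {M : Ideal AlgInt} [M.IsMaximal]
  [CharP (ResField M) 2] {D : Subgroup G} {x y : G} {h : ℕ} {e : MonoidAlgebra (ResField M) G}
  {B : Set (IrrCharacter G)} {T : Finset (Sec G)} {φ : Sec G → G}

/-- The central character at a central involution is a sign. -/
theorem ratio_sq {w : G} (hw : w ∈ Subgroup.center G) (hw2 : w * w = 1) (χ : IrrCharacter G) :
    (χ : G → ℂ) w / (χ : G → ℂ) 1 = 1 ∨ (χ : G → ℂ) w / (χ : G → ℂ) 1 = -1 := by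
  have h1 := apply_center_mul hw χ w
  rw [hw2] at h1
  have h0 : (χ : G → ℂ) 1 ≠ 0 := CfsgLib.Char.IsIrrCharacter.apply_one_ne_zero χ.2
  refine mul_self_eq_one_iff.1 ?_
  field_simp at h1 ⊢
  linear_combination -h1

theorem colOf_mul_central {u w : G} (hw : w ∈ Subgroup.center G) {f : MonoidAlgebra (ResField M) G}
    (hf : IsBlockIdem (Subgroup.centralizer ({u} : Set G)) f) (χ : IrrCharacter G) :
    colOf M (u * w) f χ = (χ : G → ℂ) w / (χ : G → ℂ) 1 * colOf M u f χ := by
  have hC : Subgroup.centralizer ({u} : Set G) = Subgroup.centralizer ({u * w} : Set G) := by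
    ext c
    rw [Subgroup.mem_centralizer_singleton_iff, Subgroup.mem_centralizer_singleton_iff]
    have hwc := Subgroup.mem_center_iff.1 hw c
    constructor
    · intro hc
      rw [← mul_assoc, hc, mul_assoc, hwc, ← mul_assoc]
    · intro hc
      rw [← mul_assoc, mul_assoc u w c, ← hwc, ← mul_assoc] at hc
      exact mul_right_cancel hc
  obtain ⟨b, hb, rfl⟩ := exists_eIn_eq hf
  rw [colOf_eq_colVal hC hb χ, colOf_eq_colVal rfl hb χ, colVal, colVal, Finset.mul_sum]
  refine Finset.sum_congr rfl fun g _ => ?_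
  rw [show u * w * g = w * (u * g) by
    rw [Subgroup.mem_center_iff.1 hw u, mul_assoc], apply_center_mul hw χ (u * g)]
  ring

namespace Quat

/-- The sum of the central characters at the involution over the block. -/
theorem sum_ratio (hQ : Quat D x y h) (hM : IsPModular 2 M) [Fintype B] {hB : IsPBlock M B}
    (hP : PairOf 2 (ebar hB) D e) (hno : NoExt 2 D e) (hT : SecData 2 M B D e T φ)
    (hc : x ^ h ∈ Subgroup.center G) :
    ∑ χ ∈ B.toFinset, (χ : G → ℂ) (x ^ h) / (χ : G → ℂ) 1 =
      ((T.filter fun s => idx x h (φ s) = h / 2).card : ℂ) := by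
  have hh := hQ.two_le
  have hh2 : h / 2 ≠ 0 ∧ h / 2 ≠ h := ⟨by omega, by omega⟩
  set w := x ^ h with hw
  let ω : IrrCharacter G → ℂ := fun χ => (χ : G → ℂ) w / (χ : G → ℂ) 1
  obtain ⟨n, hn⟩ : ∃ n : ℕ, n = blockDefect 2 B := ⟨_, rfl⟩
  have h2n : ((2 ^ n : ℕ) : ℂ) ≠ 0 := Nat.cast_ne_zero.2 (pow_ne_zero _ two_ne_zero)
  -- the contributions of the subsections at the central elements
  have hzero : ∀ s ∈ T, idx x h (φ s) = 0 ∨ idx x h (φ s) = h →
      ∑ χ ∈ B.toFinset, ω χ * contrib 2 n s.1 s.2 χ χ = 0 := by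
    intro s hs hi
    have hcen : s.1 ∈ Subgroup.center G := by
      obtain ⟨g, -, hg, -⟩ := hT.link s hs
      have hv : φ s ∈ Subgroup.center G := by
        rcases hi with hi | hi
        · rw [hQ.idx_eq_zero (hT.mem s hs) hi]; exact one_mem _
        · rw [hQ.idx_eq_h (hT.mem s hs) hi]; exact hc
      rw [← hg] at hv
      have h1 : s.1 = g * s.1 * g⁻¹ := by
        calc s.1 = g⁻¹ * (g * s.1 * g⁻¹ * g) := by group
          _ = g⁻¹ * (g * (g * s.1 * g⁻¹)) := by rw [Subgroup.mem_center_iff.1 hv g]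
          _ = _ := by group
      exact h1 ▸ hv
    have hsgn : ∀ χ : IrrCharacter G,
        (χ : G → ℂ) s.1 / (χ : G → ℂ) 1 * conj ((χ : G → ℂ) s.1 / (χ : G → ℂ) 1) = 1 := by
      intro χ
      have h2 : s.1 * s.1 = 1 := by
        obtain ⟨g, -, hg, -⟩ := hT.link s hs
        have : φ s * φ s = 1 := by
          rcases hi with hi | hi
          · rw [hQ.idx_eq_zero (hT.mem s hs) hi, mul_one]
          · rw [hQ.idx_eq_h (hT.mem s hs) hi, hQ.z_sq]
        calc s.1 * s.1 = g⁻¹ * (g * s.1 * g⁻¹ * (g * s.1 * g⁻¹)) * g := by group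
          _ = 1 := by rw [hg, this]; group
      rcases ratio_sq hcen h2 χ with h3 | h3 <;> rw [h3] <;> simp
    have hval : ∀ χ ∈ B.toFinset, ω χ * contrib 2 n s.1 s.2 χ χ =
        ((2 ^ n : ℕ) : ℂ) * ((Nat.card G : ℂ)⁻¹ *
          ∑ g ∈ regSet (G := G) 2, (χ : G → ℂ) (w * g) * conj ((χ : G → ℂ) g)) := by
      intro χ hχ
      rw [contrib_central hM hB hcen (hT.pelem s hs) (hT.induced s hs) n
        (Set.mem_toFinset.1 hχ) (Set.mem_toFinset.1 hχ), hsgn, one_mul, regPair]
      simp only [Finset.mul_sum]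
      refine Finset.sum_congr (by simp [regSet]) fun g _ => ?_
      show (χ : G → ℂ) w / (χ : G → ℂ) 1 * _ = _
      rw [apply_center_mul hc χ g]
      ring
    rw [Finset.sum_congr rfl hval, ← Finset.mul_sum, ← Finset.mul_sum, Finset.sum_comm,
      Finset.sum_eq_zero, mul_zero, mul_zero]
    intro g hg
    have hg' : ¬ 2 ∣ orderOf g := (Finset.mem_filter.1 hg).2
    have horth := CfsgLib.BlockReg.block_orth_swap hM hB g (w * g) hg' (by
      have hcomm : Commute w g := (Subgroup.mem_center_iff.1 hc g).symm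
      rw [hcomm.orderOf_mul_eq_mul_orderOf_of_coprime (by
        rw [hQ.orderOf_z]; exact Nat.prime_two.coprime_iff_not_dvd.2 hg'), hQ.orderOf_z]
      exact dvd_mul_right _ _)
    rwa [finsum_mem_eq_toFinset_sum] at horth
  -- the subsections at the other elements
  have hrest : ∀ s ∈ T, idx x h (φ s) ≠ 0 → idx x h (φ s) ≠ h →
      ∑ χ ∈ B.toFinset, ω χ * contrib 2 n s.1 s.2 χ χ =
        if idx x h (φ s) = h / 2 then ((2 ^ n : ℕ) : ℂ) else 0 := by
    intro s hs hi0 hih
    have hD := hT.mem s hs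
    have ho := hQ.two_lt_orderOf hD hi0 hih
    have hN := colNorm_ne_zero hM hB hP hD
    have hpair := DihBlocks.pairOf_below hP hD
    have hblk := isBlockIdem_of_pairOf hpair
    have hmul : ∀ χ, colOf M (φ s * w) (DihBlocks.below D e (φ s)) χ =
        ω χ * col M D e (φ s) χ := fun χ => colOf_mul_central hc hblk χ
    have hgoal : (∑ χ ∈ B.toFinset, ω χ * contrib 2 n s.1 s.2 χ χ) * colNorm M D e B (φ s) =
        ((2 ^ n : ℕ) : ℂ) * ∑ χ ∈ B.toFinset,
          colOf M (φ s * w) (DihBlocks.below D e (φ s)) χ * conj (col M D e (φ s) χ) := by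
      rw [Finset.sum_mul, Finset.mul_sum]
      refine Finset.sum_congr rfl fun χ _ => ?_
      rw [mul_assoc, hQ.contrib_sec hM hP hno hT hs ho n χ χ, hmul]
      ring
    split_ifs with him
    · have ho4 := hQ.orderOf_eq_four_of_idx hD him
      obtain ⟨d, hd, hdu⟩ := hQ.exists_inverting hD ho4
      have hfix : conjA d (DihBlocks.below D e (φ s)) = DihBlocks.below D e (φ s) := by
        refine (inf_normalizer_le_pairStab hP.pair (DihBlocks.sle_below hP.pair hD)
          ⟨hd, mem_normalizer_of_conjSub_eq ?_⟩).2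
        rw [CfsgLib.BlockRank.conjSub_zpowers, hdu, Subgroup.zpowers_inv]
      have hsame : ∀ χ, colOf M (φ s * w) (DihBlocks.below D e (φ s)) χ = col M D e (φ s) χ := by
        intro χ
        rw [hw, hQ.mul_z_eq_inv hD ho4, ← hdu]
        conv_lhs => rw [← hfix]
        exact colOf_conjA hblk d χ
      simp only [hsame] at hgoal
      exact mul_right_cancel₀ hN hgoal
    · have hx := hQ.mem_zpowers_of_idx him
      have ho4 : orderOf (φ s) ≠ 4 := fun h4 => him (hQ.idx_of_orderOf_four h4)
      have hzp := hQ.zpowers_mul_z hD ho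
      have hpair' : PairOf 2 (ebar hB) (Subgroup.zpowers (φ s * w))
          (DihBlocks.below D e (φ s)) := by rw [hw, hzp]; exact hpair
      have horth := sum_colOf_mul_conj hM hB hpair' hpair fun t ht hfix => by
        have hst : t ∈ pairStab (Subgroup.zpowers (φ s)) (DihBlocks.below D e (φ s)) := by
          refine ⟨mem_normalizer_of_conjSub_eq ?_, hfix⟩
          conv_lhs => rw [← hzp, CfsgLib.BlockRank.conjSub_zpowers, ← hw, ht]
        have hw' : t * w * t⁻¹ = w := by
          rw [Subgroup.mem_center_iff.1 hc t, mul_inv_cancel_right]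
        rcases Quat.stab_cyclic hM hQ hP hno hx ho4 (DihBlocks.sle_below hP.pair hD) hst with
          h1 | h1
        · have h3 : φ s * w = φ s := by
            calc φ s * w = t * φ s * t⁻¹ * (t * w * t⁻¹) := by rw [h1, hw']
              _ = t * (φ s * w) * t⁻¹ := by group
              _ = φ s := ht
          have := hQ.orderOf_z
          rw [← hw, (mul_eq_left.1 h3 : w = 1), orderOf_one] at this
          omega
        · have h3 : (φ s)⁻¹ * w = φ s := by
            calc (φ s)⁻¹ * w = t * φ s * t⁻¹ * (t * w * t⁻¹) := by rw [h1, hw']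
              _ = t * (φ s * w) * t⁻¹ := by group
              _ = φ s := ht
          have h4 : φ s ^ 4 = 1 := by
            have h5 : φ s ^ 2 = w := by rw [sq]; nth_rewrite 2 [← h3]; group
            rw [show 4 = 2 * 2 from rfl, pow_mul, h5, sq, hw, hQ.z_sq]
          have h6 : orderOf (φ s) ∣ 4 := orderOf_dvd_of_pow_eq_one h4
          have := Nat.le_of_dvd four_pos h6
          interval_cases hv : orderOf (φ s) <;> omega
      rw [show ∑ χ ∈ B.toFinset,
          colOf M (φ s * w) (DihBlocks.below D e (φ s)) χ * conj (col M D e (φ s) χ) = 0 from horth,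
        mul_zero] at hgoal
      exact (mul_eq_zero.1 hgoal).resolve_right hN
  have hall : ∀ χ ∈ B.toFinset, ω χ * ((2 ^ n : ℕ) : ℂ) =
      ∑ s ∈ T, ω χ * contrib 2 n s.1 s.2 χ χ := fun χ hχ => by
    rw [← Finset.mul_sum, sum_contrib_eq hM hB hP hno hT (Set.mem_toFinset.1 hχ) χ n, if_pos rfl]
  refine mul_right_cancel₀ h2n ?_
  show (∑ χ ∈ B.toFinset, ω χ) * ((2 ^ n : ℕ) : ℂ) = _
  rw [Finset.sum_mul, Finset.sum_congr rfl hall, Finset.sum_comm,
    Finset.sum_congr rfl (g := fun s =>
      if idx x h (φ s) = h / 2 then ((2 ^ n : ℕ) : ℂ) else 0) fun s hs => ?_,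
    ← Finset.sum_filter, Finset.sum_const, nsmul_eq_mul]
  by_cases h0 : idx x h (φ s) = 0 ∨ idx x h (φ s) = h
  · rw [hzero s hs h0, if_neg (by omega)]
  · push Not at h0
    exact hrest s hs h0.1 h0.2

/-- A block with quaternion defect group centralizing the involution. -/
theorem central_identity (hQ : Quat D x y h) (hM : IsPModular 2 M) {hB : IsPBlock M B}
    (hP : PairOf 2 (ebar hB) D e) (hno : NoExt 2 D e) (hT : SecData 2 M B D e T φ)
    (hiso : Nonempty (D ≃* QuaternionGroup h)) (hc : x ^ h ∈ Subgroup.center G) :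
    blockRank 2 B + (T.filter fun s => idx x h (φ s) = h / 2).card = 4 := by
  haveI := Fintype.ofFinite B
  obtain ⟨m, hm, -⟩ := hQ.exists_half
  set w := x ^ h with hw
  obtain ⟨z, hz, hzi⟩ := hQ.exists_sec hM hP hno hT le_rfl
  have hzr : blockRank 2 z.2 = blockRank 2 B := by
    refine hT.central z hz ?_
    obtain ⟨g, -, hg, -⟩ := hT.link z hz
    rw [hQ.idx_eq_h (hT.mem z hz) hzi] at hg
    rw [show z.1 = g⁻¹ * (x ^ h) * g by rw [← hg]; group,
      mul_assoc, ← Subgroup.mem_center_iff.1 hc g, inv_mul_cancel_left]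
    exact hc
  have hcard := hQ.card_eq hM hP hno hT hz hzi
  rw [hzr] at hcard
  set E := (T.filter fun s => idx x h (φ s) = h / 2).card with hE
  -- the characters with kernel containing the involution
  haveI : (Subgroup.zpowers w).Normal := ⟨fun n hn g => by
    rw [Subgroup.mem_center_iff.1 (Subgroup.zpowers_le.2 hc hn) g, mul_inv_cancel_right]
    exact hn⟩
  have hNp : IsPGroup 2 (Subgroup.zpowers w) :=
    IsPGroup.of_card (n := 1) (by rw [Nat.card_zpowers, hw, hQ.orderOf_z, pow_one])
  have hD : IsDefectGroup 2 M B D := (isDefectGroup_iff_maxR hM hB).2 (maxR_of_noExt hP hno)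
  obtain ⟨Bbar, hBbar, hiff, hDbar, -⟩ := exists_quotient_block_defectGroup hM
    (Subgroup.zpowers w) (Subgroup.zpowers_le.2 hc) hNp hB hD
  have hbar := card_dihedral_block hM hBbar hDbar hQ.two_le hQ.isPow (hQ.map_dihedral hc hiso)
  let S := B.toFinset.filter fun χ : IrrCharacter G => (χ : G → ℂ) w / (χ : G → ℂ) 1 = 1
  have hSimg : infl (Subgroup.zpowers w) '' Bbar = ↑S := by
    ext χ
    simp only [S, Set.mem_image, Finset.coe_filter, Set.mem_toFinset, Set.mem_setOf_eq]
    constructor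
    · rintro ⟨η, hη, rfl⟩
      refine ⟨(hiff η).1 hη, ?_⟩
      rw [coe_infl, Function.comp_apply, Function.comp_apply,
        (QuotientGroup.eq_one_iff w).2 (Subgroup.mem_zpowers w), ← QuotientGroup.mk_one]
      exact div_self (CfsgLib.Char.IsIrrCharacter.apply_one_ne_zero η.2)
    · rintro ⟨hχ, h1⟩
      have hker : ∀ n ∈ Subgroup.zpowers w, (χ : G → ℂ) n = (χ : G → ℂ) 1 := by
        intro n hn
        obtain ⟨k, rfl⟩ := Subgroup.mem_zpowers_iff.1 hn
        have h2 : w ^ (2 : ℤ) = 1 := by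
          rw [show (2 : ℤ) = ((2 : ℕ) : ℤ) from rfl, zpow_natCast, sq, hw, hQ.z_sq]
        rcases Int.even_or_odd' k with ⟨i, rfl | rfl⟩
        · rw [zpow_mul, h2, one_zpow]
        · rw [zpow_add, zpow_mul, h2, one_zpow, one_mul, zpow_one]
          exact (div_eq_one_iff_eq (CfsgLib.Char.IsIrrCharacter.apply_one_ne_zero χ.2)).1 h1
      obtain ⟨ψ, hψ⟩ := CfsgLib.CharTools.exists_descend (Subgroup.zpowers w) χ.2 hker
      have heq : infl (Subgroup.zpowers w) ψ = χ := Subtype.ext (funext hψ)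
      exact ⟨ψ, (hiff ψ).2 (heq.symm ▸ hχ), heq⟩
  have hS : S.card = h / 2 + 3 := by
    rw [← hbar, ← Nat.card_image_of_injective (infl_injective (Subgroup.zpowers w)) Bbar, hSimg,
      Nat.card_coe_set_eq, Set.ncard_coe_finset]
  have hsum := hQ.sum_ratio hM hP hno hT hc
  have hsgn : ∀ χ ∈ B.toFinset, (χ : G → ℂ) w / (χ : G → ℂ) 1 =
      2 * (if (χ : G → ℂ) w / (χ : G → ℂ) 1 = 1 then 1 else 0) - 1 := by
    intro χ _
    rcases ratio_sq hc hQ.z_sq χ with h1 | h1 <;> rw [h1] <;> norm_num
  rw [Finset.sum_congr rfl hsgn, Finset.sum_sub_distrib, ← Finset.mul_sum, Finset.sum_boole,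
    Finset.sum_const, nsmul_eq_mul, mul_one] at hsum
  have h2 : ((2 * S.card : ℕ) : ℂ) = ((E + B.toFinset.card : ℕ) : ℂ) := by
    push_cast
    linear_combination hsum
  rw [Nat.cast_inj, Set.toFinset_card, ← Nat.card_eq_fintype_card, hcard, hS] at h2
  have hh := hQ.two_le
  omega

end Quat

end CfsgLib.QuatBlocks
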