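import Cfsg.Agent.Lib.QuatBlocks.Group
import Cfsg.Agent.Lib.DihedralBlocks.Local
import Cfsg.Agent.Lib.BlockRank.NilpotentAbelian

/-!
# The blocks at the elements of order at least four of a quaternion defect group
-/

set_option autoImplicit false
set_option maxHeartbeats 1600000
set_option synthInstance.maxHeartbeats 400000

open Cfsg CfsgLib.Blocks CfsgLib.Blocks.Pairs CfsgLib.BlockRank CfsgLib.DihBlocks
open scoped Classical

namespace CfsgLib.QuatBlocks

universe u

variable {G : Type u} [Group G] [Finite G] {M : Ideal AlgInt} [M.IsMaximal]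
  [CharP (ResField M) 2]

/-- A `2`-block with cyclic defect group has rank one. -/
theorem blockRank_one_of_cyclic (hM : IsPModular 2 M) {B : Set (IrrCharacter G)}
    (hB : IsPBlock M B) {P : Subgroup G} (hD : IsDefectGroup 2 M B P) [IsCyclic P] :
    blockRank 2 B = 1 := by
  have hmax := (isDefectGroup_iff_maxR hM hB).1 hD
  obtain ⟨e, hP⟩ := exists_pairOf (isBlockIdem_ebar hB) hmax.pgroup hmax.ne_zero
  have hno := hmax.noExt hP
  have hab : ∀ a ∈ P, ∀ b ∈ P, a * b = b * a := fun a ha b hb => by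
    letI := IsCyclic.commGroup (α := P)
    exact congrArg Subtype.val (mul_comm (⟨a, ha⟩ : P) ⟨b, hb⟩)
  refine (rankOne_of_trivial_inertial hM hB hP hno hab fun g hg => ?_).1
  obtain ⟨r, hr, hgr⟩ := exists_pow_mem_centralizer hM hP hno hab hg
  haveI : Finite (MulAut P) := CfsgLib.Fusion.finite_mulAut
  obtain ⟨k, hk⟩ := IsPGroup.iff_card.1 (Dih.isPGroup_mulAut (C := P) hmax.pgroup)
  refine mem_of_pow_mem (k := k) hr hgr ?_
  have h1 : P.normalizerMonoidHom (⟨g, hg.1⟩ ^ 2 ^ k) = 1 := by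
    rw [map_pow, ← hk, pow_card_eq_one']
  rw [← MonoidHom.mem_ker, Subgroup.normalizerMonoidHom_ker, Subgroup.mem_subgroupOf] at h1
  simpa using h1

namespace Quat

variable {D : Subgroup G} {x y : G} {h : ℕ} {E e : MonoidAlgebra (ResField M) G}

omit [M.IsMaximal] [CharP (ResField M) 2] in
/-- The centralizer in `D` of an element of order at least four is cyclic. -/
theorem inf_centralizer_eq (hQ : Quat D x y h) {v : G} (hv : v ∈ D) (ho : 2 < orderOf v) :
    ∃ w, orderOf w ≤ 2 * h ∧ D ⊓ Subgroup.centralizer ({v} : Set G) = Subgroup.zpowers w ∧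
      (v ∈ Subgroup.zpowers x → w = x) := by
  have hh := hQ.two_le
  by_cases hvx : v ∈ Subgroup.zpowers x
  · refine ⟨x, hQ.order.le, le_antisymm (fun d hd => ?_) (le_inf hQ.zpowers_le ?_), fun _ => rfl⟩
    · obtain ⟨hdD, hdK⟩ := hd
      rcases hQ.cases d hdD with ⟨i, rfl⟩ | ⟨i, rfl⟩
      · exact Subgroup.npow_mem_zpowers x i
      exfalso
      obtain ⟨k, rfl⟩ := Subgroup.mem_zpowers_iff.1 hvx
      have h1 : y * x ^ i * x ^ k * (y * x ^ i)⁻¹ = (x ^ k)⁻¹ := by
        calc _ = (y * x * y⁻¹) ^ k := by rw [conj_zpow]; group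
          _ = _ := by rw [hQ.inv, inv_zpow]
      have h2 : y * x ^ i * x ^ k * (y * x ^ i)⁻¹ = x ^ k := by
        rw [Subgroup.mem_centralizer_singleton_iff.1 hdK, mul_inv_cancel_right]
      have h3 : (x ^ k) ^ 2 = 1 := by
        rw [sq]; nth_rewrite 1 [← h2]; rw [h1, inv_mul_cancel]
      have := orderOf_le_of_pow_eq_one two_pos h3
      omega
    · obtain ⟨k, rfl⟩ := Subgroup.mem_zpowers_iff.1 hvx
      exact Subgroup.zpowers_le.2
        (Subgroup.mem_centralizer_singleton_iff.2 (Commute.zpow_right (Commute.refl x) k))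
  · refine ⟨v, ?_, le_antisymm (fun d hd => ?_)
      (le_inf (Subgroup.zpowers_le.2 hv) (Subgroup.zpowers_le.2
        (Subgroup.mem_centralizer_singleton_iff.2 rfl))), fun hh => absurd hh hvx⟩
    · rw [hQ.orderOf_out hv hvx]; omega
    obtain ⟨hdD, hdK⟩ := hd
    have hdc : d * v = v * d := Subgroup.mem_centralizer_singleton_iff.1 hdK
    -- a commuting power of `x` is `1` or the involution
    have hpow : ∀ c ∈ Subgroup.zpowers x, c * v = v * c → c ∈ Subgroup.zpowers v := by
      intro c hc hcv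
      have h1 : v * c * v⁻¹ = c⁻¹ := by
        rcases hQ.cases v hv with ⟨i, hi⟩ | ⟨i, hi⟩
        · exact absurd (hi ▸ Subgroup.npow_mem_zpowers x i) hvx
        · obtain ⟨k, rfl⟩ := Subgroup.mem_zpowers_iff.1 hc
          rw [hi]
          calc _ = (y * x * y⁻¹) ^ k := by rw [conj_zpow]; group
            _ = _ := by rw [hQ.inv, inv_zpow]
      have h2 : c * c = 1 := by
        have h3 : v * c * v⁻¹ = c := by rw [← hcv, mul_inv_cancel_right]
        rw [h3] at h1
        nth_rewrite 2 [h1]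
        rw [mul_inv_cancel]
      rcases Nat.lt_or_ge (orderOf c) 2 with h3 | h3
      · have : orderOf c = 1 := by have := orderOf_pos c; omega
        rw [orderOf_eq_one_iff.1 this]
        exact one_mem _
      · have h4 := orderOf_le_of_pow_eq_one two_pos ((sq c).trans h2)
        rw [hQ.eq_z_of_orderOf_two (hQ.zpowers_le hc) (by omega), ← hQ.sq_out hv hvx]
        exact mul_mem (Subgroup.mem_zpowers v) (Subgroup.mem_zpowers v)
    by_cases hdx : d ∈ Subgroup.zpowers x
    · exact hpow d hdx hdc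
    · have hdv : d * v⁻¹ ∈ Subgroup.zpowers x := by
        rcases hQ.cases d hdD with ⟨i, hi⟩ | ⟨i, hi⟩
        · exact absurd (hi ▸ Subgroup.npow_mem_zpowers x i) hdx
        rcases hQ.cases v hv with ⟨j, hj⟩ | ⟨j, hj⟩
        · exact absurd (hj ▸ Subgroup.npow_mem_zpowers x j) hvx
        rw [hi, hj, show y * x ^ i * (y * x ^ j)⁻¹ = y * (x ^ i * (x ^ j)⁻¹) * y⁻¹ by group]
        have hm : x ^ i * (x ^ j)⁻¹ ∈ Subgroup.zpowers x :=
          mul_mem (Subgroup.npow_mem_zpowers x i) (inv_mem (Subgroup.npow_mem_zpowers x j))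
        rcases hQ.conj_eq hQ.mem_y hm with h4 | h4 <;> rw [h4]
        exacts [hm, inv_mem hm]
      have h5 := hpow _ hdv (by
        rw [mul_assoc, inv_mul_cancel, mul_one, ← mul_assoc, ← hdc, mul_inv_cancel_right])
      have h6 := mul_mem h5 (Subgroup.mem_zpowers v)
      rwa [inv_mul_cancel_right] at h6

/-- The block at an element of order at least four has rank one and small defect. -/
theorem local_block (hM : IsPModular 2 M) (hQ : Quat D x y h) (hP : PairOf 2 E D e)
    (hno : NoExt 2 D e) {u : G} (huD : u ∈ D) (ho : 2 < orderOf u)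
    {b : Set (IrrCharacter (Subgroup.centralizer ({u} : Set G)))} (hb : IsPBlock M b)
    (hbe : eIn hb = DihBlocks.below D e u) :
    blockRank 2 b = 1 ∧ 2 ^ blockDefect 2 b ≤ 2 * h ∧
      (orderOf u = 2 * h → 2 ^ blockDefect 2 b = 2 * h) := by
  set Z := Subgroup.zpowers u with hZ
  have hKC : (Subgroup.centralizer ({u} : Set G)) = Subgroup.centralizer (Z : Set G) := centralizer_zpowers_eq u
  have hle := DihBlocks.sle_below hP.pair huD
  rw [← hbe] at hle
  obtain ⟨E₀, hE₀⟩ := exists_maxIn hM hb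
  obtain ⟨w, hw, hmw⟩ := exists_conj_maxIn hP hno hle
    (hKC ▸ Subgroup.centralizer_le_normalizer _) hKC.ge
    (isBlockIdem_eIn hb).mem.fixed hE₀
  have hvD : w * u * w⁻¹ ∈ D :=
    hw.le (Subgroup.mem_map_of_mem _ (Subgroup.mem_zpowers u))
  have hord : orderOf (w * u * w⁻¹) = orderOf u := by
    rw [show w * u * w⁻¹ = MulAut.conj w u from rfl, MulEquiv.orderOf_eq]
  obtain ⟨c, hc, hceq, hcx⟩ := hQ.inf_centralizer_eq hvD (by omega)
  -- pull the defect group back into the centralizer of `u`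
  have hCw : conjSub w (Subgroup.centralizer ({u} : Set G)) = Subgroup.centralizer ({w * u * w⁻¹} : Set G) :=
    (centralizer_conj_singleton w u).symm
  rw [hCw, hceq] at hmw
  have hm0 := hmw.conj w⁻¹
  rw [← hCw, conjSub_conjSub, inv_mul_cancel, conjSub_one, conjA_inv_conjA,
    CfsgLib.BlockRank.conjSub_zpowers] at hm0
  have hdef := isDefectGroup_subgroupOf hM hb hm0
  haveI : IsCyclic ((Subgroup.zpowers (w⁻¹ * c * (w⁻¹)⁻¹)).subgroupOf (Subgroup.centralizer ({u} : Set G))) :=
    (Subgroup.subgroupOfEquivOfLe hm0.le).isCyclic.2 inferInstance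
  refine ⟨blockRank_one_of_cyclic hM hb hdef, ?_⟩
  have hcard : 2 ^ blockDefect 2 b = orderOf c := by
    haveI := Fintype.ofFinite (Subgroup.centralizer ({u} : Set G))
    rw [← card_defectGroup hM hb hdef,
      Nat.card_congr (Subgroup.subgroupOfEquivOfLe hm0.le).toEquiv, Nat.card_zpowers,
      show w⁻¹ * c * (w⁻¹)⁻¹ = MulAut.conj w⁻¹ c from rfl, MulEquiv.orderOf_eq]
  refine ⟨hcard ▸ hc, fun hu => ?_⟩
  rw [hcard]
  by_cases hvx : w * u * w⁻¹ ∈ Subgroup.zpowers x
  · rw [hcx hvx, hQ.order]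
  · have h4 := hQ.orderOf_out hvD hvx
    have hv : Subgroup.zpowers (w * u * w⁻¹) ≤ Subgroup.zpowers c :=
      hceq ▸ le_inf (Subgroup.zpowers_le.2 hvD)
        (Subgroup.zpowers_le.2 (Subgroup.mem_centralizer_singleton_iff.2 rfl))
    have h5 := Nat.le_of_dvd (Nat.card_pos) (Subgroup.card_dvd_of_le hv)
    rw [Nat.card_zpowers, Nat.card_zpowers] at h5
    omega

end Quat

end CfsgLib.QuatBlocks
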