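import Cfsg.Agent.Lib.QuatBlocks.SecColumn
import Cfsg.Agent.Lib.DihedralBlocks.CycloReal
import Cfsg.Agent.Lib.BlockRank.CycloTwo

/-!
# The values of a column at the generators of its cyclic subgroup
-/

set_option autoImplicit false
set_option maxHeartbeats 1600000
set_option synthInstance.maxHeartbeats 400000

open scoped ComplexConjugate Classical
open Cfsg CfsgLib.Blocks CfsgLib.Blocks.Pairs CfsgLib.BlockRank CfsgLib.DihBlocks Polynomial

namespace CfsgLib.QuatBlocks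

universe u

variable {G : Type u} [Group G] [Fintype G] {M : Ideal AlgInt}

/-- A polynomial at a root of unity of two-power order is congruent to its value at one. -/
theorem aeval_congr_eval (hM : IsPModular 2 M) {k : ℕ} {w : ℂ}
    (hw : IsPrimitiveRoot w (2 ^ (k + 1))) (P : ℤ[X]) :
    MemLocalIdeal M (aeval w P - ((P.eval 1 : ℤ) : ℂ)) := by
  induction P using Polynomial.induction_on' with
  | add P P' hP' hP'' =>
    rw [map_add, Polynomial.eval_add, Int.cast_add, add_sub_add_comm]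
    exact CfsgLib.BlockReg.memIdeal_add hM hP' hP''
  | monomial i a =>
    rw [aeval_monomial, Polynomial.eval_monomial, one_pow, mul_one, eq_intCast, ← mul_sub_one]
    refine CfsgLib.BlockReg.memIdeal_mul_left hM (CfsgLib.BlockReg.memRing_intCast hM a) ?_
    rw [← geom_sum_mul]
    refine CfsgLib.BlockReg.memIdeal_mul_left hM (CfsgLib.BlockReg.memRing_algInt hM
      (IsIntegral.sum _ fun j _ => (hw.isIntegral (pow_pos two_pos _)).pow j)) ?_
    exact CfsgLib.BlockRank.memLocalIdeal_sub_one hM hw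

variable [M.IsMaximal] [CharP (ResField M) 2] {D : Subgroup G} {x y : G} {h : ℕ}
  {e : MonoidAlgebra (ResField M) G} {B : Set (IrrCharacter G)} [Fintype B]

/-- A member of height zero has nonzero values. -/
theorem Orbit.value_ne_zero (hM : IsPModular 2 M) {u : G} {ζ : ℂ} {k : ℕ}
    (hζ : IsPrimitiveRoot ζ (2 ^ (k + 1))) (O : Orbit M B D e u ζ h) {χ : IrrCharacter G}
    (hχ : χ ∈ B) (h0 : (charDegree (χ : G → ℂ)).factorization 2 = CfsgLib.BlockReg.minExp 2 B)
    {t : ℕ} (ht : Odd t) : col M D e (u ^ t) χ ≠ 0 := by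
  rw [O.value χ t ht]
  refine mul_ne_zero (Nat.cast_ne_zero.2 O.deg_pos.ne') fun h1 => O.parity χ hχ h0 ?_
  have h2 := aeval_congr_eval hM (hζ.pow_of_coprime t (Nat.Coprime.pow_right _
    (Nat.coprime_two_right.2 ht))) (O.poly χ)
  rw [h1, zero_sub] at h2
  refine (CfsgLib.BlockReg.memIdeal_intCast_iff hM _).1 ?_
  have h3 := CfsgLib.BlockReg.memIdeal_mul_left hM
    (CfsgLib.BlockReg.memRing_intCast hM (-1)) h2
  simpa using h3

/-- The values at the generators of a cyclic subgroup have square sum at least their number. -/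
theorem Orbit.sum_sq_ge (hM : IsPModular 2 M) {u : G} {ζ : ℂ} {k : ℕ}
    (hζ : IsPrimitiveRoot ζ (2 * 2 ^ k)) (O : Orbit M B D e u ζ h) {χ : IrrCharacter G}
    (hχ : χ ∈ B) (h0 : (charDegree (χ : G → ℂ)).factorization 2 = CfsgLib.BlockReg.minExp 2 B) :
    ((2 ^ k : ℕ) : ℝ) * (O.deg : ℝ) ^ 2 ≤
      ∑ t ∈ Finset.range (2 ^ k), Complex.normSq (col M D e (u ^ (2 * t + 1)) χ) := by
  have hq : 1 ≤ 2 ^ k := Nat.one_le_two_pow
  obtain ⟨R, hRdeg, hR⟩ := CfsgLib.BlockRank.exists_reduced k (O.poly χ)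
  let r : ℕ → ℤ := fun i => R.coeff i
  have hprim : ∀ t, IsPrimitiveRoot (ζ ^ (2 * t + 1)) (2 ^ (k + 1)) := fun t => by
    rw [show (2 : ℕ) ^ (k + 1) = 2 * 2 ^ k from pow_succ' 2 k]
    refine hζ.pow_of_coprime _ ?_
    rw [← pow_succ']
    exact Nat.Coprime.pow_right _ ((Nat.coprime_two_right).2 ⟨t, rfl⟩)
  have hval : ∀ t, col M D e (u ^ (2 * t + 1)) χ =
      (O.deg : ℂ) * ∑ i ∈ Finset.range (2 ^ k), (r i : ℂ) * (ζ ^ (2 * t + 1)) ^ i := by
    intro t
    rw [O.value χ _ ⟨t, rfl⟩, ← hR _ (hprim t), Polynomial.aeval_eq_sum_range' hRdeg]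
    simp [r, zsmul_eq_mul]
  have hsum : ∑ t ∈ Finset.range (2 ^ k),
      col M D e (u ^ (2 * t + 1)) χ * conj (col M D e (u ^ (2 * t + 1)) χ) =
        (((O.deg : ℤ) ^ 2 * (2 ^ k : ℕ) * ∑ i ∈ Finset.range (2 ^ k), r i ^ 2 : ℤ) : ℂ) := by
    simp only [hval, map_mul, map_natCast, map_sum, map_intCast, Finset.mul_sum, Finset.sum_mul,
      Int.cast_sum]
    rw [Finset.sum_comm]
    refine Finset.sum_congr rfl fun i hi => ?_
    rw [Finset.sum_comm, Finset.sum_eq_single i]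
    · rw [Finset.sum_congr rfl (g := fun t => ((O.deg : ℂ) ^ 2 * (r i : ℂ) ^ 2) *
          ((ζ ^ (2 * t + 1)) ^ i * conj ((ζ ^ (2 * t + 1)) ^ i))) fun t _ => by ring,
        ← Finset.mul_sum,
        sum_odd_pow_mul_conj hq hζ (Finset.mem_range.1 hi) (Finset.mem_range.1 hi), if_pos rfl]
      push_cast
      ring
    · intro j hj hji
      rw [Finset.sum_congr rfl (g := fun t => ((O.deg : ℂ) ^ 2 * (r j : ℂ) * (r i : ℂ)) *
          ((ζ ^ (2 * t + 1)) ^ j * conj ((ζ ^ (2 * t + 1)) ^ i))) fun t _ => by ring,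
        ← Finset.mul_sum,
        sum_odd_pow_mul_conj hq hζ (Finset.mem_range.1 hj) (Finset.mem_range.1 hi),
        if_neg hji, mul_zero]
    · exact fun hn => absurd hi hn
  have hne : 1 ≤ ∑ i ∈ Finset.range (2 ^ k), r i ^ 2 := by
    by_contra hlt
    push Not at hlt
    have hz : ∀ i ∈ Finset.range (2 ^ k), r i = 0 := fun i hi =>
      pow_eq_zero_iff two_ne_zero |>.1 ((Finset.sum_eq_zero_iff_of_nonneg
        fun i _ => sq_nonneg _).1 (le_antisymm (by omega)
          (Finset.sum_nonneg fun i _ => sq_nonneg _)) i hi)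
    refine O.value_ne_zero hM (by rwa [pow_succ']) hχ h0 (t := 2 * 0 + 1) odd_one ?_
    rw [hval 0, Finset.sum_eq_zero fun i hi => by rw [hz i hi, Int.cast_zero, zero_mul], mul_zero]
  have hC : ((∑ t ∈ Finset.range (2 ^ k),
      Complex.normSq (col M D e (u ^ (2 * t + 1)) χ) : ℝ) : ℂ) =
        ((((O.deg : ℤ) ^ 2 * (2 ^ k : ℕ) * ∑ i ∈ Finset.range (2 ^ k), r i ^ 2 : ℤ) : ℝ) : ℂ) := by
    rw [Complex.ofReal_intCast, ← hsum, Complex.ofReal_sum]
    exact Finset.sum_congr rfl fun t _ => by rw [Complex.normSq_eq_conj_mul_self, mul_comm]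
  rw [Complex.ofReal_inj.1 hC]
  have h1 : ((O.deg : ℤ) ^ 2 * (2 ^ k : ℕ)) * 1 ≤
      (O.deg : ℤ) ^ 2 * (2 ^ k : ℕ) * ∑ i ∈ Finset.range (2 ^ k), r i ^ 2 :=
    mul_le_mul_of_nonneg_left hne (by positivity)
  calc ((2 ^ k : ℕ) : ℝ) * (O.deg : ℝ) ^ 2
      = ((((O.deg : ℤ) ^ 2 * (2 ^ k : ℕ)) * 1 : ℤ) : ℝ) := by push_cast; ring
    _ ≤ _ := by exact_mod_cast h1

namespace Quat

variable {hB : IsPBlock M B}

theorem pow_odd_inv (hQ : Quat D x y h) {t : ℕ} (ht : t < h) :
    y * x ^ (2 * t + 1) * y⁻¹ = x ^ (2 * (h - 1 - t) + 1) := by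
  rw [hQ.inv_pow, inv_eq_iff_mul_eq_one, ← pow_add,
    show 2 * t + 1 + (2 * (h - 1 - t) + 1) = 2 * h by omega, hQ.pow_two_h]

omit [Fintype B] in
/-- Inverse elements of the cyclic part have the same column. -/
theorem col_conj_y (hQ : Quat D x y h) (hP : PairOf 2 (ebar hB) D e) {u : G}
    (hu : u ∈ Subgroup.zpowers x) (χ : IrrCharacter G) :
    col M D e u⁻¹ χ = col M D e u χ := by
  have hD := hQ.zpowers_le hu
  have hblk := isBlockIdem_of_pairOf (DihBlocks.pairOf_below hP hD)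
  have hfix : conjA y (DihBlocks.below D e u) = DihBlocks.below D e u :=
    (inf_normalizer_le_pairStab hP.pair (DihBlocks.sle_below hP.pair hD)
      ⟨hQ.mem_y, hQ.normalizer_zpowers hu hQ.mem_y⟩).2
  have hconj : y * u * y⁻¹ = u⁻¹ := by
    obtain ⟨k, rfl⟩ := Subgroup.mem_zpowers_iff.1 hu
    rw [← conj_zpow, hQ.inv, inv_zpow]
  have hb : DihBlocks.below D e u⁻¹ = DihBlocks.below D e u := by
    simp only [DihBlocks.below, Subgroup.zpowers_inv]
  rw [col, col, hb]
  conv_lhs => rw [← hconj, ← hfix]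
  exact colOf_conjA hblk y χ

/-- The coordinates of the column at a generator of the cyclic part. -/
structure Coords (M : Ideal AlgInt) [M.IsMaximal] (B : Set (IrrCharacter G)) [Fintype B]
    (D : Subgroup G) (e : MonoidAlgebra (ResField M) G) (x : G) (ζ : ℂ) (m : ℕ) where
  deg : ℕ
  deg_pos : 0 < deg
  coeff : ℕ → IrrCharacter G → ℤ
  coeff_top : ∀ χ, coeff m χ = 0
  value : ∀ χ ∈ B, ∀ t < 2 * m, col M D e (x ^ (2 * t + 1)) χ = (deg : ℂ) *
    ((coeff 0 χ : ℂ) + ∑ i ∈ Finset.Ico 1 m, (coeff i χ : ℂ) * eta ζ i (2 * t + 1))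
  norm : ∀ t < 2 * m, colNorm M D e B (x ^ (2 * t + 1)) = (deg : ℂ) ^ 2 * (4 * m : ℕ)
  norm_zero : ∑ χ ∈ B.toFinset, coeff 0 χ * coeff 0 χ = 4
  norm_pos : ∀ i, 1 ≤ i → i < m → ∑ χ ∈ B.toFinset, coeff i χ * coeff i χ = 2
  orth : ∀ i k, i < m → k < m → i ≠ k → ∑ χ ∈ B.toFinset, coeff i χ * coeff k χ = 0
  odd : ∀ χ ∈ B, (charDegree (χ : G → ℂ)).factorization 2 = CfsgLib.BlockReg.minExp 2 B →
    Odd (coeff 0 χ)

theorem exists_coords (hQ : Quat D x y h) (hM : IsPModular 2 M)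
    (hP : PairOf 2 (ebar hB) D e) (hno : NoExt 2 D e) {m : ℕ} (hm : h = 2 * m) {ζ : ℂ}
    (hζ : IsPrimitiveRoot ζ (2 * h)) : Nonempty (Coords M B D e x ζ m) := by
  have hh := hQ.two_le
  obtain ⟨k, hk⟩ := hQ.isPow
  obtain ⟨O⟩ := exists_orbit hQ hM hB hP hno hQ.mem_x (by rw [hQ.order]; omega)
    (by rwa [hQ.order])
  have hd0 : (O.deg : ℂ) ≠ 0 := Nat.cast_ne_zero.2 O.deg_pos.ne'
  have hdft := O.dft_top hQ.order
  choose R hRdeg hR using fun χ : IrrCharacter G =>
    CfsgLib.BlockRank.exists_reduced k (O.poly χ)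
  let r : IrrCharacter G → ℕ → ℤ := fun χ i => (R χ).coeff i
  let a : IrrCharacter G → ℕ → ℂ := fun χ t => aeval (ζ ^ (2 * t + 1)) (O.poly χ)
  have hprim : ∀ t, IsPrimitiveRoot (ζ ^ (2 * t + 1)) (2 ^ (k + 1)) := fun t => by
    rw [show (2 : ℕ) ^ (k + 1) = 2 * h by rw [hk, pow_succ']]
    refine hζ.pow_of_coprime _ ?_
    rw [hk, ← pow_succ']
    exact Nat.Coprime.pow_right _ ((Nat.coprime_two_right).2 ⟨t, rfl⟩)
  have ha : ∀ χ : IrrCharacter G, ∀ t : ℕ,
      a χ t = ∑ i ∈ Finset.range h, (r χ i : ℂ) * (ζ ^ (2 * t + 1)) ^ i := by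
    intro χ t
    simp only [a]
    rw [← hR χ _ (hprim t), Polynomial.aeval_eq_sum_range' (hk ▸ hRdeg χ)]
    simp [r, zsmul_eq_mul]
  have hcol : ∀ χ t, col M D e (x ^ (2 * t + 1)) χ = (O.deg : ℂ) * a χ t :=
    fun χ t => O.value χ _ ⟨t, rfl⟩
  have hrefl : ∀ χ, ∀ t < h, a χ (h - 1 - t) = a χ t := by
    intro χ t ht
    refine mul_left_cancel₀ hd0 ?_
    rw [← hcol, ← hcol, ← hQ.pow_odd_inv ht, hQ.inv_pow]
    exact hQ.col_conj_y hP (Subgroup.npow_mem_zpowers x _) χ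
  have hreal : ∀ χ, ∀ t < h, conj (a χ t) = a χ t := by
    intro χ t ht
    conv_rhs => rw [← hrefl χ t ht]
    have h1 : conj (ζ ^ (2 * t + 1)) = ζ ^ (2 * (h - 1 - t) + 1) := by
      rw [conj_root_pow (by omega) hζ]
      refine (eq_inv_of_mul_eq_one_left ?_).symm
      rw [← pow_add, show 2 * (h - 1 - t) + 1 + (2 * t + 1) = 2 * h by omega, hζ.pow_eq_one]
    simp only [a]
    rw [← h1]
    exact (Polynomial.aeval_algHom_apply (RingHom.toIntAlgHom (starRingEnd ℂ)) _ _).symm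
  have hnorm : ∀ t, colNorm M D e B (x ^ (2 * t + 1)) = (O.deg : ℂ) ^ 2 * (2 * h : ℕ) := fun t => by
    rw [O.norm _ ⟨t, rfl⟩, hdft]
  have hsame : ∀ t < h, ∑ χ ∈ B.toFinset, a χ t * a χ t = (2 * h : ℂ) := by
    intro t ht
    refine mul_left_cancel₀ (pow_ne_zero 2 hd0) ?_
    rw [show (2 * h : ℂ) = ((2 * h : ℕ) : ℂ) by push_cast; ring, ← hnorm t, colNorm,
      Finset.mul_sum]
    refine Finset.sum_congr rfl fun χ _ => ?_
    rw [hcol, map_mul, map_natCast, hreal χ t ht]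
    ring
  have hgramS : ∀ t < h, ∀ u < h, ∑ χ ∈ B.toFinset, a χ t * a χ u =
      (2 * h : ℂ) * ((if u = t then 1 else 0) + if u = h - 1 - t then 1 else 0) := by
    intro t ht u hu
    have hne : ¬ (t = h - 1 - t) := by omega
    by_cases h1 : u = t
    · subst h1
      rw [hsame u hu, if_pos rfl, if_neg hne]
      ring
    by_cases h2 : u = h - 1 - t
    · subst h2
      rw [if_neg h1, if_pos rfl, Finset.sum_congr rfl fun χ _ => by rw [hrefl χ t ht], hsame t ht]
      ring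
    rw [if_neg h1, if_neg h2, add_zero, mul_zero]
    have hpair : ∀ v, PairOf 2 (ebar hB) (Subgroup.zpowers (x ^ (2 * v + 1)))
        (DihBlocks.below D e (x ^ (2 * v + 1))) :=
      fun v => DihBlocks.pairOf_below hP (pow_mem hQ.mem_x _)
    have hfus : ∀ g : G, g * x ^ (2 * t + 1) * g⁻¹ = x ^ (2 * u + 1) →
        conjA g (DihBlocks.below D e (x ^ (2 * t + 1))) ≠
          DihBlocks.below D e (x ^ (2 * u + 1)) := by
      intro g hg hfix
      have hf : Fus 2 D e (x ^ (2 * t + 1)) (x ^ (2 * u + 1)) :=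
        ⟨g, _, DihBlocks.sle_below hP.pair (pow_mem hQ.mem_x _), hg,
          hfix ▸ DihBlocks.sle_below hP.pair (pow_mem hQ.mem_x _)⟩
      have hord : orderOf (x ^ (2 * t + 1)) = 2 * h := by
        rw [Nat.Coprime.orderOf_pow, hQ.order]
        rw [hQ.order, hk, ← pow_succ']
        exact Nat.Coprime.pow_left _ ((Nat.coprime_two_left).2 ⟨t, rfl⟩)
      rcases fus_eq hM hQ hP hno hf (by omega) with h3 | h3
      · exact h1 (by have := hQ.pow_inj (by omega) (by omega) h3; omega)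
      · rw [← hQ.inv_pow, hQ.pow_odd_inv ht] at h3
        exact h2 (by have := hQ.pow_inj (by omega) (by omega) h3; omega)
    have h3 := sum_colOf_mul_conj hM hB (hpair t) (hpair u) hfus
    refine mul_left_cancel₀ (mul_ne_zero hd0 hd0) ?_
    rw [mul_zero, Finset.mul_sum, ← h3]
    refine Finset.sum_congr rfl fun χ _ => ?_
    rw [show colOf M (x ^ (2 * t + 1)) (DihBlocks.below D e (x ^ (2 * t + 1))) χ = _ from hcol χ t,
      show colOf M (x ^ (2 * u + 1)) (DihBlocks.below D e (x ^ (2 * u + 1))) χ = _ from hcol χ u,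
      map_mul, map_natCast, hreal χ u hu]
    ring
  have hgram : ∀ i < h, ∀ l < h, ∑ χ ∈ B.toFinset, r χ i * r χ l =
      2 * ((if i = l then 1 else 0) +
        ((if i + l = 0 then 1 else 0) - if i + l = h then 1 else 0)) := fun i hi l hl =>
    gram_coeff B.toFinset (by omega) hζ r a (fun χ _ t _ => ha χ t) hgramS hi hl
  have hmid : ∀ χ ∈ B, r χ m = 0 := by
    intro χ hχ
    have h1 := hgram m (by omega) m (by omega)
    rw [if_pos rfl, if_neg (by omega), if_pos (by omega)] at h1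
    exact mul_self_eq_zero.1 ((Finset.sum_eq_zero_iff_of_nonneg
      fun ψ _ => mul_self_nonneg _).1 h1 χ (Set.mem_toFinset.2 hχ))
  have hanti : ∀ χ ∈ B, ∀ i, 1 ≤ i → i < m → r χ (h - i) = - r χ i := by
    intro χ hχ i hi1 hi
    have h1 := hgram i (by omega) i (by omega)
    have h2 := hgram (h - i) (by omega) (h - i) (by omega)
    have h3 := hgram i (by omega) (h - i) (by omega)
    rw [if_pos rfl, if_neg (by omega), if_neg (by omega)] at h1 h2
    rw [if_neg (by omega), if_neg (by omega), if_pos (by omega)] at h3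
    have h4 : ∑ ψ ∈ B.toFinset, (r ψ (h - i) + r ψ i) * (r ψ (h - i) + r ψ i) = 0 := by
      rw [Finset.sum_congr rfl (g := fun ψ => r ψ (h - i) * r ψ (h - i) + r ψ i * r ψ i +
        (r ψ i * r ψ (h - i) + r ψ i * r ψ (h - i))) fun ψ _ => by ring,
        Finset.sum_add_distrib, Finset.sum_add_distrib, Finset.sum_add_distrib, h1, h2, h3]
      ring
    exact eq_neg_of_add_eq_zero_left (mul_self_eq_zero.1 ((Finset.sum_eq_zero_iff_of_nonneg
      fun ψ _ => mul_self_nonneg _).1 h4 χ (Set.mem_toFinset.2 hχ)))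
  let b : ℕ → IrrCharacter G → ℤ := fun i χ => if i = m then 0 else r χ i
  have hb : ∀ i, i ≠ m → ∀ χ, b i χ = r χ i := fun i hi χ => if_neg hi
  have hval : ∀ χ ∈ B, ∀ t, a χ t = (b 0 χ : ℂ) +
      ∑ i ∈ Finset.Ico 1 m, (b i χ : ℂ) * eta ζ i (2 * t + 1) := by
    intro χ hχ t
    rw [hb 0 (by omega), Finset.sum_congr rfl (g := fun i => (r χ i : ℂ) * eta ζ i (2 * t + 1))
        fun i hi => by rw [hb i (by have := Finset.mem_Ico.1 hi; omega)],
      ha, Finset.range_eq_Ico, Finset.sum_eq_sum_Ico_succ_bot (by omega : 0 < h), pow_zero,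
      mul_one, ← Finset.sum_Ico_consecutive _ (by omega : 1 ≤ m) (by omega : m ≤ h),
      Finset.sum_eq_sum_Ico_succ_bot (by omega : m < h), hmid χ hχ, Int.cast_zero, zero_mul,
      zero_add]
    congr 1
    have h2 : ∑ i ∈ Finset.Ico (m + 1) h, (r χ i : ℂ) * (ζ ^ (2 * t + 1)) ^ i =
        ∑ i ∈ Finset.Ico 1 m, (r χ i : ℂ) * conj ((ζ ^ (2 * t + 1)) ^ i) := by
      refine Finset.sum_bij (fun i _ => h - i) (fun i hi => ?_) (fun a ha b hb hab => ?_)
        (fun b hb => ?_) (fun i hi => ?_)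
      · rw [Finset.mem_Ico] at hi ⊢; omega
      · rw [Finset.mem_Ico] at ha hb; omega
      · rw [Finset.mem_Ico] at hb
        exact ⟨h - b, Finset.mem_Ico.2 (by omega), by omega⟩
      · rw [Finset.mem_Ico] at hi
        have h1 := hanti χ hχ (h - i) (by omega) (by omega)
        rw [show h - (h - i) = i by omega] at h1
        rw [h1, Int.cast_neg, map_pow, conj_root_pow (by omega) hζ, neg_mul, ← mul_neg]
        congr 1
        rw [_root_.inv_pow, eq_comm]
        refine inv_eq_of_mul_eq_one_right ?_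
        have hw : (ζ ^ (2 * t + 1)) ^ h = -1 := by
          rw [← pow_mul, mul_comm, pow_mul, root_pow_half (by omega) hζ, Odd.neg_one_pow ⟨t, rfl⟩]
        rw [mul_neg, ← pow_add, show h - i + i = h by omega, hw, neg_neg]
    rw [h2, ← Finset.sum_add_distrib]
    refine Finset.sum_congr rfl fun i _ => ?_
    rw [CfsgLib.DihBlocks.eta, ← mul_add, ← pow_mul, mul_comm i]
  refine ⟨⟨O.deg, O.deg_pos, b, fun χ => if_pos rfl, fun χ hχ t _ => ?_, fun t _ => ?_, ?_,
    fun i hi1 hi => ?_, fun i l hi hl hne => ?_, fun χ hχ h0 => ?_⟩⟩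
  · rw [hcol, hval χ hχ]
  · rw [hnorm, show 2 * h = 4 * m by omega]
  · simp only [hb 0 (by omega)]
    rw [hgram 0 (by omega) 0 (by omega)]
    simp [show ¬ (0 = h) by omega]
  · simp only [hb i (by omega)]
    rw [hgram i (by omega) i (by omega), if_pos rfl, if_neg (by omega), if_neg (by omega)]
    norm_num
  · simp only [hb i (by omega), hb l (by omega)]
    rw [hgram i (by omega) l (by omega), if_neg hne, if_neg (by omega), if_neg (by omega)]
    norm_num
  · rw [Int.odd_iff, ← Int.emod_emod_of_dvd _ (dvd_refl (2 : ℤ))]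
    by_contra hcon
    refine O.parity χ hχ h0 ?_
    have hev : (2 : ℤ) ∣ b 0 χ := by omega
    have hmem : MemLocalIdeal M (a χ 0) := by
      rw [hval χ hχ 0]
      refine CfsgLib.BlockReg.memIdeal_add hM
        ((CfsgLib.BlockReg.memIdeal_intCast_iff hM _).2 hev)
        (CfsgLib.BlockReg.memIdeal_sum hM _ fun i _ => ?_)
      exact CfsgLib.BlockReg.memIdeal_mul_left hM (CfsgLib.BlockReg.memRing_intCast hM _)
        (memLocalIdeal_eta hM hk hζ i _)
    have h4 := CfsgLib.BlockReg.memIdeal_sub hM hmem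
      (aeval_congr_eval hM (hprim 0) (O.poly χ))
    simp only [a, sub_sub_cancel] at h4
    exact_mod_cast (CfsgLib.BlockReg.memIdeal_intCast_iff hM _).1 h4

end Quat

end CfsgLib.QuatBlocks
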