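import Cfsg.Agent.Lib.QuatBlocks.Identity
import Cfsg.Agent.Lib.Blocks.Pairs.Correspondence

/-!
# Passing to the centralizer of the involution
-/

set_option autoImplicit false
set_option maxHeartbeats 1600000
set_option synthInstance.maxHeartbeats 400000

open scoped Classical
open Cfsg CfsgLib.Blocks CfsgLib.Blocks.Pairs CfsgLib.BlockRank CfsgLib.DihBlocks

namespace CfsgLib.QuatBlocks

universe u

variable {G : Type u} [Group G] [Fintype G] {M : Ideal AlgInt} [M.IsMaximal]
  [CharP (ResField M) 2] {D : Subgroup G} {x y : G} {h : ℕ} {e : MonoidAlgebra (ResField M) G}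

/-- The subgroup seen in a larger one. -/
theorem Quat.subgroupOf (hQ : Quat D x y h) {H : Subgroup G} (hDH : D ≤ H) :
    Quat (D.subgroupOf H) ⟨x, hDH hQ.mem_x⟩ ⟨y, hDH hQ.mem_y⟩ h where
  mem_x := hQ.mem_x
  mem_y := hQ.mem_y
  two_le := hQ.two_le
  isPow := hQ.isPow
  order := by rw [Subgroup.orderOf_mk]; exact hQ.order
  y_sq := Subtype.ext (by simpa using hQ.y_sq)
  inv := Subtype.ext (by simpa using hQ.inv)
  cases := fun d hd => by
    rcases hQ.cases d hd with ⟨i, hi⟩ | ⟨i, hi⟩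
    · exact Or.inl ⟨i, Subtype.ext (by simpa using hi)⟩
    · exact Or.inr ⟨i, Subtype.ext (by simpa using hi)⟩
  y_out := fun hmem => hQ.y_out (by
    obtain ⟨k, hk⟩ := Subgroup.mem_zpowers_iff.1 hmem
    exact Subgroup.mem_zpowers_iff.2 ⟨k, by simpa using congrArg Subtype.val hk⟩)
  card := by rw [Nat.card_congr (Subgroup.subgroupOfEquivOfLe hDH).toEquiv]; exact hQ.card

/-- The idempotent below, computed in a subgroup containing the centralizer. -/
theorem up_below (hP : IsPair 2 D e) {H : Subgroup G} (hDH : D ≤ H)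
    (hCD : Subgroup.centralizer (D : Set G) ≤ H) {u : H} (hu : (u : G) ∈ D)
    (hCu : Subgroup.centralizer (Subgroup.zpowers (u : G) : Set G) ≤ H) :
    ∃ f, SLE 2 (Subgroup.zpowers u) f (D.subgroupOf H) (down H e) ∧
      up H f = DihBlocks.below D e (u : G) := by
  have hP' := hP.down_of_le hDH hCD
  obtain ⟨f, hf⟩ := (existsUnique_sle hP' (Subgroup.zpowers_le.2
    (show u ∈ D.subgroupOf H from hu))).1
  refine ⟨f, hf, SLE.unique hP ?_ (DihBlocks.sle_below hP hu)⟩
  have hmap : (Subgroup.zpowers u).map H.subtype = Subgroup.zpowers (u : G) :=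
    MonoidHom.map_zpowers _ u
  have h1 := hf.up_of_le (hmap.symm ▸ hCu)
  rwa [hmap, Subgroup.map_subgroupOf_eq_of_le hDH, up_down (hP.block.mem.supp.mono hCD)] at h1

/-- Fusion of elements with centralizer inside a subgroup. -/
theorem fus_subgroupOf_iff (hP : IsPair 2 D e) {H : Subgroup G} (hDH : D ≤ H)
    (hCD : Subgroup.centralizer (D : Set G) ≤ H) {u v : H} (hu : (u : G) ∈ D) (hv : (v : G) ∈ D)
    (hCu : Subgroup.centralizer (Subgroup.zpowers (u : G) : Set G) ≤ H)
    (hCv : Subgroup.centralizer (Subgroup.zpowers (v : G) : Set G) ≤ H)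
    (hconj : ∀ g : G, g * u * g⁻¹ = v → g ∈ H) :
    Fus 2 D e (u : G) (v : G) ↔ Fus 2 (D.subgroupOf H) (down H e) u v := by
  obtain ⟨f, hf, hfu⟩ := up_below hP hDH hCD hu hCu
  obtain ⟨f', hf', hfv⟩ := up_below hP hDH hCD hv hCv
  have hP' := hP.down_of_le hDH hCD
  constructor
  · rintro ⟨g, a, h1, hgv, h2⟩
    have hg := hconj g hgv
    obtain rfl := SLE.unique hP h1 (DihBlocks.sle_below hP hu)
    have h3 := SLE.unique hP h2 (DihBlocks.sle_below hP hv)
    refine ⟨⟨g, hg⟩, f, hf, Subtype.ext hgv, ?_⟩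
    rw [← hfu, ← hfv, ← up_conjA (L := H) ⟨g, hg⟩ f] at h3
    rw [up_injective H h3]
    exact hf'
  · rintro ⟨g, a, h1, hgv, h2⟩
    obtain rfl := SLE.unique hP' h1 hf
    have h3 := SLE.unique hP' h2 hf'
    refine ⟨g, DihBlocks.below D e (u : G), DihBlocks.sle_below hP hu,
      by rw [← hgv]; rfl, ?_⟩
    rw [← hfu, ← up_conjA, h3, hfv]
    exact DihBlocks.sle_below hP hv

/-- **The number of irreducible characters of a block with quaternion defect group.** -/
theorem Quat.card_eq_rank_add (hQ : Quat D x y h) (hM : IsPModular 2 M)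
    {B : Set (IrrCharacter G)} {hB : IsPBlock M B} (hP : PairOf 2 (ebar hB) D e)
    (hno : NoExt 2 D e) {T : Finset (Sec G)} {φ : Sec G → G} (hT : SecData 2 M B D e T φ)
    (hiso : Nonempty (D ≃* QuaternionGroup h)) : Nat.card B = blockRank 2 B + h + 2 := by
  have hh := hQ.two_le
  obtain ⟨z, hz, hzi⟩ := hQ.exists_sec hM hP hno hT le_rfl
  set H := Subgroup.centralizer ({x ^ h} : Set G) with hH
  have hHC : H = Subgroup.centralizer (Subgroup.zpowers (x ^ h) : Set G) :=
    centralizer_zpowers_eq _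
  have hDH : D ≤ H := fun d hd =>
    Subgroup.mem_centralizer_singleton_iff.2 (mul_inv_eq_iff_eq_mul.1 (hQ.z_comm hd))
  have hzD : x ^ h ∈ D := pow_mem hQ.mem_x h
  have hCD : Subgroup.centralizer (D : Set G) ≤ H := fun c hc =>
    Subgroup.mem_centralizer_singleton_iff.2 (Subgroup.mem_centralizer_iff.1 hc _ hzD).symm
  have hle := DihBlocks.sle_below hP.pair hzD
  obtain ⟨h1, h2⟩ := local_pair_central_eq hHC hP hno hDH hle
  obtain ⟨bz, hbz, hbze⟩ := exists_eIn_eq (isBlockIdem_of_pairOf (DihBlocks.pairOf_below hP hzD))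
  rw [show down H (DihBlocks.below D e (x ^ h)) = ebar hbz by rw [← hbze, eIn, down_up]] at h1
  -- the rank at the involution
  have hzr : blockRank 2 z.2 = blockRank 2 bz := by
    obtain ⟨g, hb, hg, hbelow⟩ := hT.below_eq hP hz
    rw [← Watanabe.rk_eq (p := 2) hb rfl, ← Watanabe.rk_conj g (isBlockIdem_eIn hb),
      ← centralizer_conj_singleton, hbelow,
      Watanabe.rk_congr (show Subgroup.centralizer ({g * z.1 * g⁻¹} : Set G) = H by
        rw [hg, hQ.idx_eq_h (hT.mem z hz) hzi]),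
      hQ.idx_eq_h (hT.mem z hz) hzi, Watanabe.rk_eq hbz hbze]
  -- the local block
  have hQ' := hQ.subgroupOf hDH
  obtain ⟨T', φ', hT'⟩ := exists_secData hM hbz h1 h2
  have hcz : (⟨x, hDH hQ.mem_x⟩ : H) ^ h ∈ Subgroup.center H := by
    rw [Subgroup.mem_center_iff]
    intro c
    exact Subtype.ext (by simpa using Subgroup.mem_centralizer_singleton_iff.1 c.2)
  have hid := hQ'.central_identity hM h1 h2 hT'
    ⟨(Subgroup.subgroupOfEquivOfLe hDH).trans hiso.some⟩ hcz
  -- the elements of order four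
  set E := T.filter fun s => idx x h (φ s) = h / 2 with hE
  set E' := T'.filter fun s => idx (⟨x, hDH hQ.mem_x⟩ : H) h (φ' s) = h / 2 with hE'
  have hfour : ∀ u : H, (u : G) ∈ D → orderOf u = 4 →
      (u : G) ^ 2 = x ^ h ∧
        Subgroup.centralizer (Subgroup.zpowers (u : G) : Set G) ≤ H := by
    intro u hu hu4
    have h4 : (u : G) ^ 2 = x ^ h := hQ.eq_z_of_orderOf_two (pow_mem hu 2) (by
      rw [orderOf_pow_of_dvd two_ne_zero (by rw [Subgroup.orderOf_coe, hu4]; norm_num),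
        Subgroup.orderOf_coe, hu4])
    refine ⟨h4, le_trans ?_ hHC.ge⟩
    exact centralizer_anti (Subgroup.zpowers_le.2 (h4 ▸ Subgroup.npow_mem_zpowers _ 2))
  have hiff : ∀ u v : H, (u : G) ∈ D → (v : G) ∈ D → orderOf u = 4 → orderOf v = 4 →
      (Fus 2 D e (u : G) (v : G) ↔ Fus 2 (D.subgroupOf H) (down H e) u v) := by
    intro u v hu hv hu4 hv4
    refine fus_subgroupOf_iff hP.pair hDH hCD hu hv (hfour u hu hu4).2 (hfour v hv hv4).2
      fun g hg => ?_
    refine Subgroup.mem_centralizer_singleton_iff.2 ?_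
    have h6 : g * x ^ h * g⁻¹ = x ^ h := by
      rw [← (hfour u hu hu4).1, ← conj_pow, hg, (hfour v hv hv4).1, (hfour u hu hu4).1]
    exact mul_inv_eq_iff_eq_mul.1 h6
  have hEE : E.card = E'.card := by
    have hmem : ∀ s ∈ E, φ s ∈ H := fun s hs => hDH (hT.mem s (Finset.mem_filter.1 hs).1)
    have hord : ∀ s (hs : s ∈ E), orderOf (⟨φ s, hmem s hs⟩ : H) = 4 := fun s hs => by
      rw [Subgroup.orderOf_mk]
      exact hQ.orderOf_eq_four_of_idx (hT.mem s (Finset.mem_filter.1 hs).1)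
        (Finset.mem_filter.1 hs).2
    choose i hi hif using fun s (hs : s ∈ E) =>
      hT'.surj ⟨φ s, hmem s hs⟩ (hT.mem s (Finset.mem_filter.1 hs).1)
    have hiord : ∀ s (hs : s ∈ E), orderOf (φ' (i s hs)) = 4 := fun s hs =>
      (hif s hs).orderOf_eq.trans (hord s hs)
    refine Finset.card_bij i (fun s hs => Finset.mem_filter.2
      ⟨hi s hs, hQ'.idx_of_orderOf_four (hiord s hs)⟩) ?_ ?_
    · intro s hs t ht hst
      refine hT.inj s (Finset.mem_filter.1 hs).1 t (Finset.mem_filter.1 ht).1 ?_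
      have h3 := (hif s hs).trans h1.pair (hst.symm ▸ (hif t ht).symm)
      exact (hiff _ _ (hT.mem s (Finset.mem_filter.1 hs).1) (hT.mem t (Finset.mem_filter.1 ht).1)
        (hord s hs) (hord t ht)).2 h3
    · intro s' hs'
      obtain ⟨hs'T, hs'i⟩ := Finset.mem_filter.1 hs'
      have hv : (φ' s' : G) ∈ D := hT'.mem s' hs'T
      have hv4 : orderOf (φ' s') = 4 := hQ'.orderOf_eq_four_of_idx (hT'.mem s' hs'T) hs'i
      obtain ⟨s, hs, hsf⟩ := hT.surj _ hv
      have hsE : s ∈ E := Finset.mem_filter.2 ⟨hs, hQ.idx_of_orderOf_four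
        (hsf.orderOf_eq.trans (by rw [Subgroup.orderOf_coe, hv4]))⟩
      refine ⟨s, hsE, hT'.inj _ (hi s hsE) _ hs'T ?_⟩
      have h4 := (hiff _ _ hv (hT.mem s hs) hv4 (hord s hsE)).1 hsf
      exact (hif s hsE).symm.trans h1.pair h4.symm
  have hcard := hQ.card_eq hM hP hno hT hz hzi
  rw [hzr, ← hE, hEE] at hcard
  omega

end CfsgLib.QuatBlocks
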