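import Cfsg.Agent.Lib.QuatBlocks.LocalBlock
import Cfsg.Agent.Lib.DihedralBlocks.Top
import Cfsg.Agent.Lib.BlockRank.Watanabe.LocalRank

/-!
# Contributions and columns of subsections of rank one
-/

set_option autoImplicit false
set_option maxHeartbeats 1600000
set_option synthInstance.maxHeartbeats 400000

open scoped ComplexConjugate Classical
open Cfsg CfsgLib.Blocks CfsgLib.Blocks.Pairs CfsgLib.BlockRank CfsgLib.DihBlocks Polynomial

namespace CfsgLib.QuatBlocks

universe u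

variable {G : Type u} [Group G] [Fintype G] {M : Ideal AlgInt}

/-- The contributions of a subsection of rank one through its column at one. -/
theorem contrib_rankOne {p : ℕ} [Fact p.Prime] (hM : IsPModular p M) {C : Subgroup G} {x : G}
    (hC : C = Subgroup.centralizer {x}) (hx : ∃ k : ℕ, orderOf x = p ^ k) [Fintype C]
    {e : Set (IrrCharacter C)} {B : Set (IrrCharacter G)} [Fintype B]
    (hind : IsInducedBlock M C e B) (hl : blockRank p e = 1) (d : ℕ) (χ ψ : IrrCharacter G) :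
    contrib p d x e χ ψ *
        ∑ θ ∈ B.toFinset, blockPart e (fun c : C => (θ : G → ℂ) (x * c)) 1 *
          conj (blockPart e (fun c : C => (θ : G → ℂ) (x * c)) 1) =
      ((p ^ d : ℕ) : ℂ) * (blockPart e (fun c : C => (χ : G → ℂ) (x * c)) 1 *
        conj (blockPart e (fun c : C => (ψ : G → ℂ) (x * c)) 1)) := by
  haveI := Fintype.ofFinite e
  obtain ⟨φ₀, nc, dd, -, hdd, -⟩ := exists_rankOne_data hM hind.1 hl
  have h1 : IsPRegular p (1 : C) := by simp [IsPRegular, hM.1.ne_one]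
  obtain ⟨ζ, hζ⟩ : ∃ ζ : ℂ, IsPrimitiveRoot ζ (orderOf x) :=
    ⟨_, Complex.isPrimitiveRoot_exp _ (orderOf_pos x).ne'⟩
  choose m i hmi using exists_blockPart_translate (G := G) hC hζ
  let c : IrrCharacter G → ℂ := fun θ => ∑ φ ∈ e.toFinset, (m θ φ : ℂ) * ζ ^ i θ φ * (dd φ : ℂ)
  have hval : ∀ (θ : IrrCharacter G) (r : C), IsPRegular p r →
      blockPart e (fun t : C => (θ : G → ℂ) (x * t)) r = c θ * φ₀ r := by
    intro θ r hr
    rw [(hmi θ).2 e r, Finset.sum_mul]
    exact Finset.sum_congr rfl fun φ hφ => by rw [hdd φ (Set.mem_toFinset.1 hφ) r hr]; ring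
  set R : ℂ := ((p ^ d : ℕ) : ℂ) * ((Nat.card C : ℂ)⁻¹ *
    ∑ r ∈ Finset.univ.filter (fun r : C => IsPRegular p r), φ₀ r * conj (φ₀ r)) with hR
  have hcon : ∀ θ η : IrrCharacter G, contrib p d x e θ η = R * (c θ * conj (c η)) := by
    intro θ η
    simp only [contrib, regPair, hR, Finset.mul_sum, Finset.sum_mul]
    refine Finset.sum_congr rfl fun r hr => ?_
    rw [hval θ r (Finset.mem_filter.1 hr).2, hval η r (Finset.mem_filter.1 hr).2, map_mul]
    ring
  have htr := sum_contrib_self hM hC hx hind d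
  rw [hl, Nat.cast_one, mul_one, Finset.sum_congr rfl fun θ _ => hcon θ θ, ← Finset.mul_sum] at htr
  simp only [hval _ 1 h1, map_mul]
  rw [hcon, ← htr, Finset.sum_congr rfl fun θ _ =>
    show c θ * φ₀ 1 * (conj (c θ) * conj (φ₀ 1)) = φ₀ 1 * conj (φ₀ 1) * (c θ * conj (c θ)) by ring,
    ← Finset.mul_sum]
  ring

variable [M.IsMaximal] [CharP (ResField M) 2] {D : Subgroup G} {x y : G} {h : ℕ}
  {e : MonoidAlgebra (ResField M) G} {B : Set (IrrCharacter G)}

/-- The column of a subsection read at its element of the defect group. -/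
noncomputable def col (M : Ideal AlgInt) [M.IsMaximal] (D : Subgroup G)
    (e : MonoidAlgebra (ResField M) G) (u : G) (χ : IrrCharacter G) : ℂ :=
  colOf M u (DihBlocks.below D e u) χ

/-- The square norm of a column. -/
noncomputable def colNorm (M : Ideal AlgInt) [M.IsMaximal] (D : Subgroup G)
    (e : MonoidAlgebra (ResField M) G) (B : Set (IrrCharacter G)) [Fintype B] (u : G) : ℂ :=
  ∑ χ ∈ B.toFinset, col M D e u χ * conj (col M D e u χ)

theorem colNorm_ne_zero (hM : IsPModular 2 M) (hB : IsPBlock M B) [Fintype B]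
    (hP : PairOf 2 (ebar hB) D e) {u : G} (hu : u ∈ D) : colNorm M D e B u ≠ 0 :=
  sum_colOf_self_ne_zero hM hB (DihBlocks.pairOf_below hP hu)

variable {T : Finset (Sec G)} {φ : Sec G → G}

/-- The idempotent of a subsection at its element of the defect group. -/
theorem SecData.below_eq {hB : IsPBlock M B} (hP : PairOf 2 (ebar hB) D e)
    (hT : SecData 2 M B D e T φ) {s : Sec G} (hs : s ∈ T) :
    ∃ (g : G) (hb : IsPBlock M s.2), g * s.1 * g⁻¹ = φ s ∧
      conjA g (eIn hb) = DihBlocks.below D e (φ s) := by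
  obtain ⟨g, hb, hg, hle⟩ := hT.link s hs
  exact ⟨g, hb, hg, SLE.unique hP.pair hle (DihBlocks.sle_below hP.pair (hT.mem s hs))⟩

/-- The subsections at elements of order at least four have rank one. -/
theorem Quat.sec_rank_one (hQ : Quat D x y h) (hM : IsPModular 2 M) {hB : IsPBlock M B}
    (hP : PairOf 2 (ebar hB) D e) (hno : NoExt 2 D e) (hT : SecData 2 M B D e T φ) {s : Sec G}
    (hs : s ∈ T) (ho : 2 < orderOf (φ s)) : blockRank 2 s.2 = 1 := by
  obtain ⟨g, hb, hg, hbelow⟩ := hT.below_eq hP hs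
  have hD := hT.mem s hs
  obtain ⟨b', hb', hb'e⟩ := exists_eIn_eq (isBlockIdem_of_pairOf (DihBlocks.pairOf_below hP hD))
  rw [← Watanabe.rk_eq (p := 2) hb rfl, ← Watanabe.rk_conj g (isBlockIdem_eIn hb),
    ← centralizer_conj_singleton, hbelow, Watanabe.rk_congr (by rw [hg]),
    Watanabe.rk_eq hb' hb'e]
  exact (hQ.local_block hM hP hno hD ho hb' hb'e).1

/-- The contributions of a subsection at an element of order at least four. -/
theorem Quat.contrib_sec (hQ : Quat D x y h) (hM : IsPModular 2 M) [Fintype B]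
    {hB : IsPBlock M B} (hP : PairOf 2 (ebar hB) D e) (hno : NoExt 2 D e)
    (hT : SecData 2 M B D e T φ) {s : Sec G} (hs : s ∈ T) (ho : 2 < orderOf (φ s)) (d : ℕ)
    (χ ψ : IrrCharacter G) :
    contrib 2 d s.1 s.2 χ ψ * colNorm M D e B (φ s) =
      ((2 ^ d : ℕ) : ℂ) * (col M D e (φ s) χ * conj (col M D e (φ s) ψ)) := by
  obtain ⟨g, hb, hg, hbelow⟩ := hT.below_eq hP hs
  have hval : ∀ θ : IrrCharacter G, col M D e (φ s) θ =
      blockPart s.2 (fun c : Subgroup.centralizer ({s.1} : Set G) => (θ : G → ℂ) (s.1 * c)) 1 := by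
    intro θ
    rw [col, ← hg, show DihBlocks.below D e (g * s.1 * g⁻¹) = conjA g (eIn hb) by rw [hg, hbelow],
      colOf_conjA (isBlockIdem_eIn hb), colOf_eq_blockPart hb]
  simp only [colNorm, hval]
  exact contrib_rankOne hM rfl (hT.pelem s hs) (hT.induced s hs)
    (hQ.sec_rank_one hM hP hno hT hs ho) d χ ψ

/-- What is known about the columns at the generators of `⟨u⟩`. -/
structure Orbit (M : Ideal AlgInt) [M.IsMaximal] (B : Set (IrrCharacter G)) [Fintype B]
    (D : Subgroup G) (e : MonoidAlgebra (ResField M) G) (u : G) (ζ : ℂ) (h : ℕ) where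
  deg : ℕ
  deg_pos : 0 < deg
  dft : ℕ
  dft_le : 2 ^ dft ≤ 2 * h
  dft_top : orderOf u = 2 * h → 2 ^ dft = 2 * h
  poly : IrrCharacter G → ℤ[X]
  value : ∀ (χ : IrrCharacter G) (t : ℕ), Odd t →
    col M D e (u ^ t) χ = (deg : ℂ) * aeval (ζ ^ t) (poly χ)
  norm : ∀ t : ℕ, Odd t → colNorm M D e B (u ^ t) = (deg : ℂ) ^ 2 * ((2 ^ dft : ℕ) : ℂ)
  parity : ∀ χ ∈ B, (charDegree (χ : G → ℂ)).factorization 2 = CfsgLib.BlockReg.minExp 2 B →
    ¬ (2 : ℤ) ∣ (poly χ).eval 1

theorem exists_orbit (hQ : Quat D x y h) (hM : IsPModular 2 M) [Fintype B] (hB : IsPBlock M B)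
    (hP : PairOf 2 (ebar hB) D e) (hno : NoExt 2 D e) {u : G} (huD : u ∈ D) (ho : 2 < orderOf u)
    {ζ : ℂ} (hζ : IsPrimitiveRoot ζ (orderOf u)) : Nonempty (Orbit M B D e u ζ h) := by
  have hpair := DihBlocks.pairOf_below hP huD
  obtain ⟨b, hb, hbe, hind⟩ := exists_induced hM hB hpair
  haveI := Fintype.ofFinite (Subgroup.centralizer ({u} : Set G))
  haveI := Fintype.ofFinite b
  obtain ⟨hl, hdle, hdtop⟩ := hQ.local_block hM hP hno huD ho hb hbe
  obtain ⟨φ₀, nc, d, hφ₀, hdd, hsum⟩ := exists_rankOne_data hM hb hl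
  have h1 : IsPRegular 2 (1 : (Subgroup.centralizer ({u} : Set G))) := by simp [IsPRegular]
  obtain ⟨φ₁, hφ₁⟩ := CfsgLib.BlockReg.block_nonempty hM hb
  -- the degree
  obtain ⟨g, hg⟩ : ∃ g : ℤ, φ₀ 1 = (g : ℂ) :=
    ⟨∑ ψ ∈ b.toFinset, nc ψ * (charDegree (ψ : (Subgroup.centralizer ({u} : Set G)) → ℂ) : ℤ), by
      rw [hφ₀]
      push_cast
      exact Finset.sum_congr rfl fun ψ _ => by rw [CfsgLib.BlockReg.deg_cast]⟩
  have hgdeg : ∀ φ ∈ b, (charDegree (φ : (Subgroup.centralizer ({u} : Set G)) → ℂ) : ℤ) =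
      (d φ : ℤ) * g := fun φ hφ => by
    have h2 : (charDegree (φ : (Subgroup.centralizer ({u} : Set G)) → ℂ) : ℂ) =
        (d φ : ℂ) * φ₀ 1 := by rw [CfsgLib.BlockReg.deg_cast]; exact hdd φ hφ 1 h1
    rw [hg] at h2
    exact_mod_cast h2
  have hgpos : 0 < g := by
    have h2 := hgdeg φ₁ hφ₁
    have h3 := CfsgLib.BlockReg.deg_pos φ₁
    nlinarith [Int.natCast_nonneg (d φ₁)]
  obtain ⟨γ, rfl⟩ : ∃ γ : ℕ, g = γ := ⟨g.toNat, (Int.toNat_of_nonneg hgpos.le).symm⟩
  have hgdeg' : ∀ φ ∈ b,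
      charDegree (φ : (Subgroup.centralizer ({u} : Set G)) → ℂ) = d φ * γ := fun φ hφ => by
    exact_mod_cast hgdeg φ hφ
  have hγ : 0 < γ := by exact_mod_cast hgpos
  rw [Int.cast_natCast] at hg
  -- some multiplicity is odd
  have hnd : ∑ ψ ∈ b.toFinset, nc ψ * (d ψ : ℤ) = 1 := by
    refine mul_right_cancel₀ (b := (γ : ℤ)) (by exact_mod_cast hγ.ne') ?_
    rw [one_mul, Finset.sum_mul]
    have h2 : ((∑ ψ ∈ b.toFinset, nc ψ * (d ψ : ℤ) * (γ : ℤ) : ℤ) : ℂ) = ((γ : ℤ) : ℂ) := by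
      rw [Int.cast_natCast, ← hg, hφ₀, Int.cast_sum]
      refine Finset.sum_congr rfl fun ψ hψ => ?_
      rw [← CfsgLib.BlockReg.deg_cast, hgdeg' ψ (Set.mem_toFinset.1 hψ)]
      push_cast
      ring
    exact_mod_cast h2
  obtain ⟨φ₂, hφ₂, hodd⟩ : ∃ φ ∈ b, ¬ 2 ∣ d φ := by
    by_contra hcon
    push Not at hcon
    have : (2 : ℤ) ∣ ∑ ψ ∈ b.toFinset, nc ψ * (d ψ : ℤ) := Finset.dvd_sum fun ψ hψ =>
      Dvd.dvd.mul_left (Int.natCast_dvd_natCast.2 (hcon ψ (Set.mem_toFinset.1 hψ))) _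
    rw [hnd] at this
    norm_num at this
  have hfacd : ∀ φ ∈ b,
      (charDegree (φ : (Subgroup.centralizer ({u} : Set G)) → ℂ)).factorization 2 =
        (d φ).factorization 2 + γ.factorization 2 := fun φ hφ => by
    have hd0 : d φ ≠ 0 := fun h0 => (CfsgLib.BlockReg.deg_pos φ).ne'
      (by rw [hgdeg' φ hφ, h0, zero_mul])
    rw [hgdeg' φ hφ, Nat.factorization_mul hd0 hγ.ne', Finsupp.add_apply]
  have hmin : γ.factorization 2 = CfsgLib.BlockReg.minExp 2 b := by
    obtain ⟨φ₃, hφ₃, hm⟩ := CfsgLib.BlockReg.exists_minExp (p := 2) ⟨φ₁, hφ₁⟩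
    refine le_antisymm ?_ ?_
    · rw [← hm, hfacd φ₃ hφ₃]
      exact Nat.le_add_left _ _
    · refine (CfsgLib.BlockReg.minExp_le hφ₂).trans ?_
      rw [hfacd φ₂ hφ₂, Nat.factorization_eq_zero_of_not_dvd hodd, zero_add]
  -- multiplicities
  choose m i hmi using fun χ : IrrCharacter G =>
    exists_blockPart_translate (G := G) (C := (Subgroup.centralizer ({u} : Set G))) (x := u) rfl
      hζ χ
  have huK : u ∈ (Subgroup.centralizer ({u} : Set G)) :=
    Subgroup.mem_centralizer_singleton_iff.2 rfl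
  have hz : (⟨u, huK⟩ : (Subgroup.centralizer ({u} : Set G))) ∈
      Subgroup.center (Subgroup.centralizer ({u} : Set G)) := by
    rw [Subgroup.mem_center_iff]
    exact fun c => Subtype.ext (Subgroup.mem_centralizer_singleton_iff.mp c.2)
  choose ι hι using exists_central_root (G := (Subgroup.centralizer ({u} : Set G)))
    (n := orderOf u) (ζ := ζ) (orderOf_pos u) hζ hz
    (Subtype.ext (by rw [SubgroupClass.coe_pow]; exact pow_orderOf_eq_one u))
  have hpow : ∀ (φ : IrrCharacter (Subgroup.centralizer ({u} : Set G))) (k : ℕ)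
      (c : (Subgroup.centralizer ({u} : Set G))),
      (φ : (Subgroup.centralizer ({u} : Set G)) → ℂ)
        ((⟨u, huK⟩ : (Subgroup.centralizer ({u} : Set G))) ^ k * c) =
          ζ ^ (k * ι φ) * (φ : (Subgroup.centralizer ({u} : Set G)) → ℂ) c := by
    intro φ k
    induction k with
    | zero => simp
    | succ k ih =>
      intro c
      rw [pow_succ', mul_assoc, hι, ih, Nat.succ_mul, pow_add]
      ring
  have hgen : ∀ t : ℕ, Odd t → Subgroup.zpowers (u ^ t) = Subgroup.zpowers u := by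
    intro t ht
    obtain ⟨k, hk⟩ := exists_orderOf_of_isPGroup hpair.pair.pgroup
    refine Subgroup.eq_of_le_of_card_ge (Subgroup.zpowers_le.2 (Subgroup.npow_mem_zpowers u t)) ?_
    rw [Nat.card_zpowers, Nat.card_zpowers, Nat.Coprime.orderOf_pow (hk ▸
      Nat.Coprime.pow_left k (Nat.coprime_two_left.2 ht))]
  have hcen : ∀ t : ℕ, Odd t → Subgroup.centralizer ({u} : Set G) =
      Subgroup.centralizer ({u ^ t} : Set G) := fun t ht => by
    rw [centralizer_zpowers_eq, centralizer_zpowers_eq, hgen t ht]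
  have hbel : ∀ t : ℕ, Odd t → DihBlocks.below D e (u ^ t) = eIn hb := fun t ht => by
    rw [hbe]
    simp only [DihBlocks.below, hgen t ht]
  have hnorm : ∀ t : ℕ, Odd t → colNorm M D e B (u ^ t) =
      (Nat.card (Subgroup.centralizer ({u} : Set G)) : ℂ) *
        (exactIn (Subgroup.centralizer ({u} : Set G)) b).coeff 1 := by
    intro t ht
    have hp := DihBlocks.pairOf_below hP (pow_mem huD t)
    rw [hbel t ht] at hp
    simp only [colNorm, col, hbel t ht]
    exact sum_colOf_self_eq hM hB hp (hcen t ht) hb rfl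
  refine ⟨⟨γ, hγ, blockDefect 2 b, hdle, hdtop,
    fun χ => ∑ φ ∈ b.toFinset, Polynomial.C ((m χ φ : ℤ) * (d φ : ℤ)) * X ^ ι φ,
    fun χ t ht => ?_, fun t ht => ?_, fun χ hχ hh => ?_⟩⟩
  · rw [col, hbel t ht, colOf_eq_colVal (hcen t ht) hb χ, colVal, ← Finset.sum_subset
      (Finset.subset_univ
        (Finset.univ.filter fun c => c ∈ (Subgroup.centralizer ({u} : Set G))))
      (fun c _ hc => by
        have : c ∉ (Subgroup.centralizer ({u} : Set G)) := fun hh =>
          hc (Finset.mem_filter.2 ⟨Finset.mem_univ _, hh⟩)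
        simp only [exactIn, coeff_ofFun, subgroupBlockCoeff, dif_neg this, zero_mul]),
      Finset.sum_subtype (Finset.univ.filter fun c => c ∈ (Subgroup.centralizer ({u} : Set G)))
        (p := fun c => c ∈ (Subgroup.centralizer ({u} : Set G)))
        (F := (inferInstance : Fintype (Subgroup.centralizer ({u} : Set G)))) (fun c => by simp)]
    have hterm : ∀ c : (Subgroup.centralizer ({u} : Set G)), (χ : G → ℂ) (u ^ t * (c : G)) =
        ∑ φ : IrrCharacter (Subgroup.centralizer ({u} : Set G)), (m χ φ : ℂ) * ζ ^ (t * ι φ) *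
          (φ : (Subgroup.centralizer ({u} : Set G)) → ℂ) (1 * c) := by
      intro c
      have h2 := (hmi χ).1 ((⟨u, huK⟩ : (Subgroup.centralizer ({u} : Set G))) ^ t * c)
      simp only [Subgroup.coe_mul, SubgroupClass.coe_pow] at h2
      rw [h2]
      exact Finset.sum_congr rfl fun φ _ => by rw [hpow, one_mul, mul_assoc]
    simp only [exactIn, coeff_ofFun, subgroupBlockCoeff, SetLike.coe_mem, dite_true,
      Subtype.coe_eta, hterm, Finset.mul_sum]
    rw [Finset.sum_comm]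
    simp only [map_sum, map_mul, aeval_X_pow, map_intCast, eq_intCast, Finset.mul_sum]
    refine (Finset.sum_congr rfl fun φ _ => ?_).trans
      (Finset.sum_subset (Finset.subset_univ b.toFinset)
        (f := fun φ => (m χ φ : ℂ) * ζ ^ (t * ι φ) *
          (blockInd b φ * (φ : (Subgroup.centralizer ({u} : Set G)) → ℂ) 1))
        fun φ _ hφ => by
          have : φ ∉ b := fun hh => hφ (Set.mem_toFinset.2 hh)
          simp [blockInd, this]).symm |>.trans (Finset.sum_congr rfl fun φ hφ => ?_)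
    · rw [← omega_idemC b φ, ← sum_center_mul, Finset.mul_sum]
      refine Finset.sum_congr rfl fun c _ => ?_
      rw [coe_idemC, coeff_ofFun]
      ring
    · rw [blockInd, if_pos (Set.mem_toFinset.1 hφ), one_mul,
        hdd φ (Set.mem_toFinset.1 hφ) 1 h1, hg, pow_mul]
      push_cast
      ring
  · rw [hnorm t ht]
    have h3 := sum_colOf_self hM hB (hbe.symm ▸ hpair) (hb := hb) (b := b)
    have h4 := hnorm 1 odd_one
    simp only [colNorm, col, hbel 1 odd_one, pow_one] at h4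
    rw [← h4, ← hbe, h3, ← hsum]
    push_cast
    rw [Finset.mul_sum]
    exact Finset.sum_congr rfl fun φ hφ => by
      rw [hgdeg' φ (Set.mem_toFinset.1 hφ)]; push_cast; ring
  · intro hdvd
    refine not_memIdeal_degree_blockPart hM hind hχ hh (m χ) (hmi χ).1 ?_
    have hev : ((∑ φ ∈ b.toFinset,
        Polynomial.C ((m χ φ : ℤ) * (d φ : ℤ)) * X ^ ι φ).eval 1 : ℤ) =
        ∑ φ ∈ b.toFinset, (m χ φ : ℤ) * (d φ : ℤ) := by
      simp [Polynomial.eval_finsetSum]
    rw [hev] at hdvd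
    have h3 : MemLocalIdeal M (((∑ φ ∈ b.toFinset, (m χ φ : ℤ) * (d φ : ℤ) : ℤ)) : ℂ) :=
      (CfsgLib.BlockReg.memIdeal_intCast_iff hM _).2 hdvd
    have h4 := CfsgLib.BlockReg.memIdeal_mul_right hM h3
      (CfsgLib.BlockReg.natCast_div_memRing hM (n := γ)
        (pow_ne_zero (CfsgLib.BlockReg.minExp 2 b) two_ne_zero) (Or.inr (by
          rw [Nat.prime_two.factorization_pow, Finsupp.single_eq_same, hmin])))
    convert h4 using 1
    rw [Int.cast_sum, Finset.sum_mul]
    refine Finset.sum_congr rfl fun φ hφ => ?_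
    rw [hgdeg' φ (Set.mem_toFinset.1 hφ)]
    push_cast
    ring

end CfsgLib.QuatBlocks
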