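import Cfsg.Agent.Lib.BlockRank.StarColumns
import Cfsg.Agent.Lib.BlockRank.SectionColumns
import Cfsg.Agent.Lib.BlockRank.NilpotentAbelian
import Cfsg.Agent.Lib.BlockStar.Integral
import Cfsg.Agent.Lib.BlockStar.Section

/-!
# The subsections of a block with an arbitrary maximal pair

The subsections correspond to the classes of elements of `P` under fusion of the cyclic pairs below
`(P, e)`, and the inner products with a star product are sums of contributions over them.
-/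

set_option autoImplicit false
set_option maxHeartbeats 1600000
set_option synthInstance.maxHeartbeats 400000

open Cfsg CfsgLib.Blocks CfsgLib.Blocks.Pairs CfsgLib.BlockReg CfsgLib.BlockRank
open scoped Classical ComplexConjugate

namespace CfsgLib.QuatBlocks

universe u

variable {G : Type u} [Group G] [Fintype G] {p : ℕ} [Fact p.Prime] {M : Ideal AlgInt} [M.IsMaximal]

/-- The index type of the subsections. -/
abbrev Sec (G : Type u) [Group G] : Type u :=
  Σ x : G, Set (IrrCharacter (Subgroup.centralizer ({x} : Set G)))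

/-- The element `v` is fused to `u` below the pair `(P, e)`. -/
def Fus (p : ℕ) (P : Subgroup G) (e : MonoidAlgebra (ResField M) G) (u v : G) : Prop :=
  ∃ (g : G) (f : MonoidAlgebra (ResField M) G), SLE p (Subgroup.zpowers u) f P e ∧
    g * u * g⁻¹ = v ∧ SLE p (Subgroup.zpowers v) (conjA g f) P e

omit [Fact p.Prime] in
theorem Fus.stable {P : Subgroup G} {e : MonoidAlgebra (ResField M) G} {η : G → ℂ}
    (hst : CfsgLib.BlockStar.Stable p P e η) {u v : G} (h : Fus p P e u v) : η v = η u := by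
  obtain ⟨g, f, h1, rfl, h2⟩ := h
  exact hst u (h1.le (Subgroup.mem_zpowers u)) g f h1
    (by rwa [CfsgLib.BlockStar.conjSub_zpowers_eq])

/-- Stability follows from invariance under fusion. -/
theorem stable_of_fus {P : Subgroup G} {e : MonoidAlgebra (ResField M) G} {η : G → ℂ}
    (h : ∀ u v : G, Fus p P e u v → η v = η u) : CfsgLib.BlockStar.Stable p P e η :=
  fun u _ g f h1 h2 => h u _ ⟨g, f, h1, rfl, by rwa [CfsgLib.BlockStar.conjSub_zpowers_eq] at h2⟩

omit [Fact p.Prime] in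
theorem Fus.orderOf_eq {P : Subgroup G} {e : MonoidAlgebra (ResField M) G} {u v : G}
    (h : Fus p P e u v) : orderOf v = orderOf u := by
  obtain ⟨g, f, -, rfl, -⟩ := h
  exact MulEquiv.orderOf_eq (MulAut.conj g) u

omit [Fact p.Prime] in
theorem Fus.mem_right {P : Subgroup G} {e : MonoidAlgebra (ResField M) G} {u v : G}
    (h : Fus p P e u v) : v ∈ P := by
  obtain ⟨g, f, -, -, h2⟩ := h
  exact h2.le (Subgroup.mem_zpowers v)

variable [CharP (ResField M) p]

theorem Fus.symm {P : Subgroup G} {e : MonoidAlgebra (ResField M) G} {u v : G}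
    (h : Fus p P e u v) : Fus p P e v u := by
  obtain ⟨g, f, h1, hv, h2⟩ := h
  exact ⟨g⁻¹, conjA g f, h2, by rw [← hv]; group, by rwa [conjA_inv_conjA]⟩

theorem Fus.trans {P : Subgroup G} {e : MonoidAlgebra (ResField M) G} (hP : IsPair p P e)
    {u v w : G} (h : Fus p P e u v) (h' : Fus p P e v w) : Fus p P e u w := by
  obtain ⟨g, f, h1, hv, h2⟩ := h
  obtain ⟨g', f', h1', hw, h2'⟩ := h'
  obtain rfl : f' = conjA g f := SLE.unique hP h1' h2
  exact ⟨g' * g, f, h1, by rw [← hw, ← hv]; group, by rwa [← conjA_conjA]⟩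

theorem fus_conj_of_mem {P : Subgroup G} {e : MonoidAlgebra (ResField M) G} (hP : IsPair p P e)
    {u y : G} (hu : u ∈ P) (hy : y ∈ P) : Fus p P e u (y * u * y⁻¹) := by
  obtain ⟨f, hf⟩ := (existsUnique_sle hP (Subgroup.zpowers_le.2 hu)).1
  refine ⟨y, f, hf, rfl, ?_⟩
  have h := sle_conj_of_mem hP hf hy
  rwa [CfsgLib.BlockRank.conjSub_zpowers] at h

/-- The subsections of `B`, each with an element of `P` below which it lies. -/
structure SecData (p : ℕ) [Fact p.Prime] (M : Ideal AlgInt) [M.IsMaximal]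
    (B : Set (IrrCharacter G)) (P : Subgroup G) (e : MonoidAlgebra (ResField M) G)
    (T : Finset (Sec G)) (φ : Sec G → G) : Prop where
  card : Nat.card B = ∑ s ∈ T, blockRank p s.2
  mem : ∀ s ∈ T, φ s ∈ P
  pelem : ∀ s ∈ T, ∃ k : ℕ, orderOf s.1 = p ^ k
  induced : ∀ s ∈ T, IsInducedBlock M (Subgroup.centralizer ({s.1} : Set G)) s.2 B
  reps : ∀ s₁ ∈ T, ∀ s₂ ∈ T, IsConj s₁.1 s₂.1 → s₁.1 = s₂.1
  link : ∀ s ∈ T, ∃ (g : G) (hb : IsPBlock M s.2), g * s.1 * g⁻¹ = φ s ∧
    SLE p (Subgroup.zpowers (φ s)) (conjA g (eIn hb)) P e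
  surj : ∀ u ∈ P, ∃ s ∈ T, Fus p P e u (φ s)
  inj : ∀ s₁ ∈ T, ∀ s₂ ∈ T, Fus p P e (φ s₁) (φ s₂) → s₁ = s₂
  central : ∀ s ∈ T, s.1 ∈ Subgroup.center G → blockRank p s.2 = blockRank p B

omit [CharP (ResField M) p] in
theorem SecData.orderOf_eq {B : Set (IrrCharacter G)} {P : Subgroup G}
    {e : MonoidAlgebra (ResField M) G} {T : Finset (Sec G)} {φ : Sec G → G}
    (h : SecData p M B P e T φ) {s : Sec G} (hs : s ∈ T) : orderOf (φ s) = orderOf s.1 := by
  obtain ⟨g, -, hg, -⟩ := h.link s hs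
  rw [← hg]
  exact MulEquiv.orderOf_eq (MulAut.conj g) s.1

omit [CharP (ResField M) p] in
/-- The subsection at the trivial element has the rank of the block. -/
theorem SecData.rank_one {B : Set (IrrCharacter G)} {P : Subgroup G}
    {e : MonoidAlgebra (ResField M) G} {T : Finset (Sec G)} {φ : Sec G → G}
    (h : SecData p M B P e T φ) {s : Sec G} (hs : s ∈ T) (h1 : φ s = 1) :
    blockRank p s.2 = blockRank p B := by
  refine h.central s hs ?_
  have : s.1 = 1 := orderOf_eq_one_iff.1 (by rw [← h.orderOf_eq hs, h1, orderOf_one])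
  rw [this]
  exact one_mem _

/-- The subsections exist. -/
theorem exists_secData (hM : IsPModular p M) {B : Set (IrrCharacter G)} (hB : IsPBlock M B)
    {P : Subgroup G} {e : MonoidAlgebra (ResField M) G} (hP : PairOf p (ebar hB) P e)
    (hno : NoExt p P e) : ∃ (T : Finset (Sec G)) (φ : Sec G → G), SecData p M B P e T φ := by
  have hp : p.Prime := Fact.out
  have hpP := hP.pair.pgroup
  let X : Finset G := (Finset.univ.image fun g : G => Quotient.out (ConjClasses.mk g)).filter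
    fun x => ∃ k : ℕ, orderOf x = p ^ k
  have hout : ∀ g : G, IsConj g (Quotient.out (ConjClasses.mk g)) := fun g =>
    (ConjClasses.mk_eq_mk_iff_isConj.1 (Quotient.out_eq (ConjClasses.mk g))).symm
  have hX : ∀ x ∈ X, ∃ k : ℕ, orderOf x = p ^ k := fun x hx => (Finset.mem_filter.1 hx).2
  have hXrep : ∀ g : G, (∃ k : ℕ, orderOf g = p ^ k) → ∃! x, x ∈ X ∧ IsConj g x := by
    intro g ⟨k, hk⟩
    refine ⟨Quotient.out (ConjClasses.mk g), ⟨Finset.mem_filter.2
      ⟨Finset.mem_image.2 ⟨g, Finset.mem_univ _, rfl⟩, k, ?_⟩, hout g⟩, ?_⟩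
    · obtain ⟨c, hc⟩ := isConj_iff.1 (hout g)
      rw [← hc, ← hk]
      exact MulEquiv.orderOf_eq (MulAut.conj c) g
    · rintro y ⟨hy, hgy⟩
      obtain ⟨g', -, rfl⟩ := Finset.mem_image.1 (Finset.mem_filter.1 hy).1
      rw [show ConjClasses.mk g = ConjClasses.mk g' from
        ConjClasses.mk_eq_mk_iff_isConj.2 (hgy.trans (hout g').symm)]
  let S := fun x : G => {b : Set (IrrCharacter (Subgroup.centralizer ({x} : Set G))) |
    IsInducedBlock M (Subgroup.centralizer ({x} : Set G)) b B}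
  let T : Finset (Sec G) := X.sigma fun x => (S x).toFinset
  have hk : Nat.card B = ∑ s ∈ T, blockRank p s.2 := by
    rw [card_eq_sum_sections hM hB X hX hXrep, Finset.sum_sigma]
    exact Finset.sum_congr rfl fun x _ => finsum_mem_eq_toFinset_sum _ _
  have hmem : ∀ s, s ∈ T ↔ s.1 ∈ X ∧
      IsInducedBlock M (Subgroup.centralizer ({s.1} : Set G)) s.2 B := fun s => by
    simp [T, S, Finset.mem_sigma]
  have hex : ∀ s, ∃ g : G, s ∈ T → ∃ hb : IsPBlock M s.2, g * s.1 * g⁻¹ ∈ P ∧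
      SLE p (Subgroup.zpowers (g * s.1 * g⁻¹)) (conjA g (eIn hb)) P e := by
    intro s
    by_cases hs : s ∈ T
    · obtain ⟨hsX, hsI⟩ := (hmem s).1 hs
      have hz := isPGroup_zpowers (hX _ hsX)
      have hpair := (isInducedBlock_singleton_iff hM hz hB hsI.1).1 hsI
      obtain ⟨g, hg⟩ := exists_conj_sle hP hno hpair
      rw [CfsgLib.BlockRank.conjSub_zpowers] at hg
      exact ⟨g, fun _ => ⟨hsI.1, hg.le (Subgroup.mem_zpowers _), hg⟩⟩
    · exact ⟨1, fun h => absurd h hs⟩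
  choose gg hgg using hex
  refine ⟨T, fun s => gg s * s.1 * (gg s)⁻¹,
    { card := hk
      mem := fun s hs => (hgg s hs).2.1
      pelem := fun s hs => hX _ ((hmem s).1 hs).1
      induced := fun s hs => ((hmem s).1 hs).2
      reps := fun s₁ h₁ s₂ h₂ hcj => (hXrep s₁.1 (hX _ ((hmem _).1 h₁).1)).unique
        ⟨((hmem _).1 h₁).1, IsConj.refl _⟩ ⟨((hmem _).1 h₂).1, hcj⟩
      link := fun s hs => ⟨gg s, (hgg s hs).1, rfl, (hgg s hs).2.2⟩
      surj := ?_
      inj := ?_
      central := ?_ }⟩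
  · intro u hu
    obtain ⟨f, hf⟩ := (existsUnique_sle hP.pair (Subgroup.zpowers_le.2 hu)).1
    have hu' : ∃ k : ℕ, orderOf u = p ^ k := by
      obtain ⟨k, hk⟩ := IsPGroup.iff_orderOf.1 hpP ⟨u, hu⟩
      exact ⟨k, by rw [← hk, Subgroup.orderOf_mk]⟩
    obtain ⟨x, ⟨hxX, hux⟩, -⟩ := hXrep u hu'
    obtain ⟨h, rfl⟩ := isConj_iff.1 hux
    have hfB' := ((SLE.pairOf_iff hf).1 hP).conj h
    rw [CfsgLib.BlockRank.conjSub_zpowers] at hfB'
    have hC : Subgroup.centralizer (Subgroup.zpowers (h * u * h⁻¹) : Set G) =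
        Subgroup.centralizer ({h * u * h⁻¹} : Set G) := by
      rw [Subgroup.zpowers_eq_closure, Subgroup.centralizer_closure]
    obtain ⟨b, hb, hbe⟩ := exists_eIn_eq (hC ▸ hfB'.pair.block)
    have hs : (⟨h * u * h⁻¹, b⟩ : Sec G) ∈ T := by
      rw [hmem]
      exact ⟨hxX, (isInducedBlock_singleton_iff hM hfB'.pair.pgroup hB hb).2 (hbe ▸ hfB')⟩
    refine ⟨_, hs, gg ⟨h * u * h⁻¹, b⟩ * h, f, hf, by group, ?_⟩
    obtain ⟨_, _, h2⟩ := hgg _ hs
    rwa [hbe, conjA_conjA] at h2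
  · rintro ⟨x₁, b₁⟩ h₁ ⟨x₂, b₂⟩ h₂ ⟨g, f, hl, heq, hl'⟩
    dsimp only at hl heq hl'
    obtain ⟨hb₁, -, hl1⟩ := hgg _ h₁
    obtain ⟨hb₂, -, hl2⟩ := hgg _ h₂
    have hf1 := SLE.unique hP.pair hl hl1
    subst hf1
    have h3 := SLE.unique hP.pair hl' hl2
    set g₁ := gg ⟨x₁, b₁⟩
    set g₂ := gg ⟨x₂, b₂⟩
    have heq' : g * g₁ * x₁ * (g * g₁)⁻¹ = g₂ * x₂ * g₂⁻¹ := by rw [← heq]; group
    have hx : x₁ = x₂ := by
      refine (hXrep x₁ (hX _ ((hmem _).1 h₁).1)).unique ⟨((hmem _).1 h₁).1, IsConj.refl _⟩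
        ⟨((hmem _).1 h₂).1, isConj_iff.2 ⟨g₂⁻¹ * (g * g₁), ?_⟩⟩
      calc _ = g₂⁻¹ * (g * g₁ * x₁ * (g * g₁)⁻¹) * g₂ := by group
        _ = x₂ := by rw [heq']; group
    subst hx
    rw [conjA_conjA] at h3
    have h4 : conjA (g₂⁻¹ * (g * g₁)) (eIn hb₁) = eIn hb₂ := by
      rw [← conjA_conjA, h3, conjA_inv_conjA]
    have hc : g₂⁻¹ * (g * g₁) ∈ Subgroup.centralizer ({x₁} : Set G) := by
      rw [Subgroup.mem_centralizer_singleton_iff]
      calc _ = g₂⁻¹ * (g * g₁ * x₁ * (g * g₁)⁻¹) * (g * g₁) := by group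
        _ = _ := by rw [heq']; group
    rw [conjFixed_iff.mp (isBlockIdem_eIn hb₁).mem.fixed _ hc] at h4
    obtain rfl : b₁ = b₂ := eIn_injective hb₁ hb₂ h4
    rfl
  · intro s hs hc
    obtain ⟨hsX, hsI⟩ := (hmem s).1 hs
    have htop : Subgroup.centralizer ({s.1} : Set G) = ⊤ :=
      (Subgroup.eq_top_iff' _).2 fun y =>
        Subgroup.mem_centralizer_singleton_iff.2 (Subgroup.mem_center_iff.1 hc y)
    let ψ := (MulEquiv.subgroupCongr htop).trans Subgroup.topEquiv
    rw [eq_pullSet_of_central hM hB (isPGroup_zpowers (hX _ hsX)) ψ (fun _ => rfl) hsI,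
      blockRank_pullSet]

/-- The coefficient of a character in a star product, from its values on the sections. -/
theorem classInner_eq_sum_contrib (hM : IsPModular p M) {B : Set (IrrCharacter G)}
    {P : Subgroup G} {e : MonoidAlgebra (ResField M) G} (hP : IsPair p P e) (η : G → ℂ)
    (hst : CfsgLib.BlockStar.Stable p P e η) {T : Finset (Sec G)} {φ : Sec G → G}
    (hT : SecData p M B P e T φ)
    {χ ψ : IrrCharacter G} {F : G → ℂ} (hF : IsClassFunction G F) (d : ℕ)
    (hsec : ∀ (z : G), (∃ k : ℕ, orderOf z = p ^ k) →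
      ∀ s : Subgroup.centralizer ({z} : Set G), IsPRegular p s → F (z * (s : G)) =
        ∑ b : {b : Set (IrrCharacter (Subgroup.centralizer ({z} : Set G))) // IsPBlock M b},
          CfsgLib.BlockStar.pairVal p P e η z (eIn b.2) *
            blockPart b.1 (fun c => (χ : G → ℂ) (z * (c : G))) s) :
    classInner F (ψ : G → ℂ) = ((p ^ d : ℕ) : ℂ)⁻¹ *
      ∑ s ∈ T, η (φ s) * contrib p d s.1 s.2 χ ψ := by
  have hp : p.Prime := Fact.out
  -- class representatives extending those of the subsections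
  let rep : ConjClasses G → G := fun K =>
    if h : ∃ s ∈ T, ConjClasses.mk s.1 = K then h.choose.1 else Quotient.out K
  have hrep : ∀ g : G, IsConj g (rep (ConjClasses.mk g)) := by
    intro g
    simp only [rep]
    split_ifs with h
    · exact (ConjClasses.mk_eq_mk_iff_isConj.1 h.choose_spec.2).symm
    · exact (ConjClasses.mk_eq_mk_iff_isConj.1 (Quotient.out_eq (ConjClasses.mk g))).symm
  have hrepT : ∀ s ∈ T, rep (ConjClasses.mk s.1) = s.1 := by
    intro s hs
    simp only [rep]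
    rw [dif_pos ⟨s, hs, rfl⟩]
    generalize_proofs h
    exact hT.reps _ h.choose_spec.1 s hs (ConjClasses.mk_eq_mk_iff_isConj.1 h.choose_spec.2)
  let X : Finset G := (Finset.univ.image fun g : G => rep (ConjClasses.mk g)).filter
    fun x => ∃ k : ℕ, orderOf x = p ^ k
  have hX : ∀ x ∈ X, ∃ k : ℕ, orderOf x = p ^ k := fun x hx => (Finset.mem_filter.1 hx).2
  have hXrep : ∀ g : G, (∃ k : ℕ, orderOf g = p ^ k) → ∃! x, x ∈ X ∧ IsConj g x := by
    intro g ⟨k, hk⟩
    refine ⟨rep (ConjClasses.mk g), ⟨Finset.mem_filter.2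
      ⟨Finset.mem_image.2 ⟨g, Finset.mem_univ _, rfl⟩, k, ?_⟩, hrep g⟩, ?_⟩
    · obtain ⟨c, hc⟩ := isConj_iff.1 (hrep g)
      rw [← hc, ← hk]
      exact MulEquiv.orderOf_eq (MulAut.conj c) g
    · rintro y ⟨hy, hgy⟩
      obtain ⟨g', -, rfl⟩ := Finset.mem_image.1 (Finset.mem_filter.1 hy).1
      rw [ConjClasses.mk_eq_mk_iff_isConj.2 (hgy.trans (hrep g').symm)]
  have hTX : ∀ s ∈ T, s.1 ∈ X := fun s hs => Finset.mem_filter.2
    ⟨Finset.mem_image.2 ⟨s.1, Finset.mem_univ _, hrepT s hs⟩, hT.pelem s hs⟩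
  -- the sum over the sections
  let V : Sec G → ℂ := fun s =>
    if h : IsPBlock M s.2 then CfsgLib.BlockStar.pairVal p P e η s.1 (eIn h) else 0
  have hfcl : IsClassFunction G fun g => F g * conj ((ψ : G → ℂ) g) := fun g h => by
    show F (h * g * h⁻¹) * conj ((ψ : G → ℂ) (h * g * h⁻¹)) = _
    rw [hF, CfsgLib.Char.IsIrrCharacter.isClassFunction ψ.2]
  have hstep : ∀ x ∈ X, (Nat.card {y : G // IsConj x y} : ℂ) *
      sectionSum p (fun g => F g * conj ((ψ : G → ℂ) g)) x =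
      (Nat.card G : ℂ) * ∑ b : {b : Set (IrrCharacter (Subgroup.centralizer ({x} : Set G))) //
          IsPBlock M b}, V ⟨x, b.1⟩ * (((p ^ d : ℕ) : ℂ)⁻¹ * contrib p d x b.1 χ ψ) := by
    intro x hx
    rw [sectionSum_eq_sum_regSet (C := Subgroup.centralizer ({x} : Set G)) _ rfl]
    rw [Finset.sum_congr rfl fun s hs => by
      rw [hsec x (hX x hx) s (Finset.mem_filter.1 hs).2, Finset.sum_mul]]
    rw [Finset.sum_comm, Finset.mul_sum, Finset.mul_sum]
    refine Finset.sum_congr rfl fun b _ => ?_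
    haveI := Fintype.ofFinite b.1
    have hreg : regPair p (blockPart b.1 (fun c => (χ : G → ℂ) (x * (c : G))))
        (fun c : Subgroup.centralizer ({x} : Set G) => (ψ : G → ℂ) (x * (c : G))) =
        regPair p (blockPart b.1 (fun c => (χ : G → ℂ) (x * (c : G))))
          (blockPart b.1
            (fun c : Subgroup.centralizer ({x} : Set G) => (ψ : G → ℂ) (x * (c : G)))) := by
      have h := congrArg conj (regPair_blockPart hM b.2 (isClassFunction_translate rfl ψ)
        (fun c : Subgroup.centralizer ({x} : Set G) => (χ : G → ℂ) (x * (c : G))))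
      simp only [regPair, map_sum, map_mul, Complex.conj_conj] at h ⊢
      rw [Finset.sum_congr rfl fun s _ => mul_comm _ _, h]
      exact Finset.sum_congr rfl fun s _ => mul_comm _ _
    have hcard : (Nat.card {y : G // IsConj x y} : ℂ) *
        (Nat.card (Subgroup.centralizer ({x} : Set G)) : ℂ) = (Nat.card G : ℂ) := by
      rw [← Nat.cast_mul, CfsgLib.Char.card_isConj_mul_card_centralizer x]
    simp only [V, dif_pos b.2]
    rw [contrib, ← hreg, regPair, ← hcard]
    have hC0 : (Nat.card (Subgroup.centralizer ({x} : Set G)) : ℂ) ≠ 0 :=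
      Nat.cast_ne_zero.2 Nat.card_pos.ne'
    have hp0 : ((p ^ d : ℕ) : ℂ) ≠ 0 := Nat.cast_ne_zero.2 (pow_ne_zero _ hp.ne_zero)
    simp only [Finset.mul_sum]
    refine Finset.sum_congr rfl fun s _ => ?_
    field_simp
  have hVT : ∀ s ∈ T, V s = η (φ s) := by
    intro s hs
    obtain ⟨g, hb, hg, hle⟩ := hT.link s hs
    simp only [V, dif_pos hb]
    rw [CfsgLib.BlockStar.pairVal_eq hst (g := g) (by
      rwa [CfsgLib.BlockStar.conjSub_zpowers_eq, hg]), hg]
  have hV0 : ∀ x ∈ X, ∀ b : Set (IrrCharacter (Subgroup.centralizer ({x} : Set G))),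
      (⟨x, b⟩ : Sec G) ∉ T → V ⟨x, b⟩ = 0 := by
    intro x hx b hnot
    simp only [V]
    split_ifs with hb
    swap
    · rfl
    refine CfsgLib.BlockStar.pairVal_eq_zero fun g hg => hnot ?_
    rw [CfsgLib.BlockStar.conjSub_zpowers_eq] at hg
    obtain ⟨⟨x', b'⟩, hs, h, f, hf1, hu, hf2⟩ := hT.surj _ (hg.le (Subgroup.mem_zpowers _))
    obtain ⟨g', hb', hg', hle⟩ := hT.link _ hs
    dsimp only at hb' hg' hle
    obtain rfl : f = conjA g (eIn hb) := SLE.unique hP hf1 hg
    have h3 := SLE.unique hP hf2 hle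
    rw [← hg'] at hu
    have hu' : g' * x' * g'⁻¹ = h * g * x * (h * g)⁻¹ := by rw [← hu]; group
    obtain rfl : x = x' := by
      have h1 : IsConj x x' := isConj_iff.2 ⟨g'⁻¹ * (h * g), by
        calc _ = g'⁻¹ * (h * g * x * (h * g)⁻¹) * g' := by group
          _ = x' := by rw [← hu']; group⟩
      exact (hXrep x (hX x hx)).unique ⟨hx, IsConj.refl _⟩ ⟨hTX _ hs, h1⟩
    rw [conjA_conjA] at h3
    have h4 : conjA (g'⁻¹ * (h * g)) (eIn hb) = eIn hb' := by
      rw [← conjA_conjA, h3, conjA_inv_conjA]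
    have hc : g'⁻¹ * (h * g) ∈ Subgroup.centralizer ({x} : Set G) := by
      rw [Subgroup.mem_centralizer_singleton_iff]
      calc _ = g'⁻¹ * (h * g * x * (h * g)⁻¹) * (h * g) := by group
        _ = _ := by rw [← hu']; group
    rw [conjFixed_iff.mp (isBlockIdem_eIn hb).mem.fixed _ hc] at h4
    obtain rfl : b = b' := eIn_injective hb hb' h4
    exact hs
  rw [classInner, sum_eq_sum_sectionSum (p := p) hfcl X hX hXrep, Finset.sum_congr rfl hstep,
    ← Finset.mul_sum, ← mul_assoc, inv_mul_cancel₀ (Nat.cast_ne_zero.2 Nat.card_pos.ne'), one_mul,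
    Finset.sum_sigma' X (fun x => Finset.univ)
      fun x (b : {b : Set (IrrCharacter (Subgroup.centralizer ({x} : Set G))) // IsPBlock M b}) =>
        V ⟨x, b.1⟩ * (((p ^ d : ℕ) : ℂ)⁻¹ * contrib p d x b.1 χ ψ), Finset.mul_sum]
  symm
  refine Finset.sum_bij_ne_zero (fun s hs _ => ⟨s.1, ⟨s.2, (hT.link s hs).choose_spec.choose⟩⟩)
    (fun s hs _ => Finset.mem_sigma.2 ⟨hTX s hs, Finset.mem_univ _⟩) ?_ ?_ ?_
  · rintro ⟨x₁, b₁⟩ _ _ ⟨x₂, b₂⟩ _ _ h
    simp only [Sigma.mk.injEq] at h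
    obtain ⟨rfl, h⟩ := h
    rw [heq_eq_eq, Subtype.mk.injEq] at h
    rw [h]
  · rintro ⟨x, b⟩ hb hne
    have hmem : (⟨x, b.1⟩ : Sec G) ∈ T := by
      by_contra hnot
      exact hne (by rw [hV0 x (Finset.mem_sigma.1 hb).1 b.1 hnot, zero_mul])
    refine ⟨⟨x, b.1⟩, hmem, ?_, rfl⟩
    intro h0
    apply hne
    rw [hVT _ hmem, ← h0]
    ring
  · intro s hs _
    rw [show (⟨s.1, (⟨s.2, _⟩ : {b // IsPBlock M b}).1⟩ : Sec G) = s from rfl, hVT s hs]
    ring

/-- A stable generalized character gives integral combinations of the contributions. -/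
theorem exists_int_sum_contrib (hM : IsPModular p M) {B : Set (IrrCharacter G)}
    (hB : IsPBlock M B) {P : Subgroup G} {e : MonoidAlgebra (ResField M) G}
    (hP : PairOf p (ebar hB) P e) (hno : NoExt p P e) (η : G → ℂ)
    (hst : CfsgLib.BlockStar.Stable p P e η) (hη : IsGeneralizedCharacter P fun u : P => η u)
    {T : Finset (Sec G)} {φ : Sec G → G} (hT : SecData p M B P e T φ)
    {χ : IrrCharacter G} (hχ : χ ∈ B) (ψ : IrrCharacter G) (d : ℕ) :
    ∃ z : ℤ, ((p ^ d : ℕ) : ℂ)⁻¹ * ∑ s ∈ T, η (φ s) * contrib p d s.1 s.2 χ ψ = z := by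
  have hθ := CfsgLib.Char.IsIrrCharacter.isClassFunction χ.2
  obtain ⟨z, hz⟩ := CfsgLib.CharExc.exists_int_classInner
    (CfsgLib.BlockStar.star_isGeneralizedCharacter hM hB hP hno hst hη hχ) ψ.2
  refine ⟨z, hz ▸ (classInner_eq_sum_contrib hM hP.pair η hst hT
    (CfsgLib.BlockStar.isClassFunction_star hM hst hθ) d fun w hw s hs =>
      CfsgLib.BlockStar.star_section hM P e η hθ w hw s hs).symm⟩

/-- The contributions of all subsections add up to the identity matrix. -/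
theorem sum_contrib_eq (hM : IsPModular p M) {B : Set (IrrCharacter G)} (hB : IsPBlock M B)
    {P : Subgroup G} {e : MonoidAlgebra (ResField M) G} (hP : PairOf p (ebar hB) P e)
    (hno : NoExt p P e) {T : Finset (Sec G)} {φ : Sec G → G} (hT : SecData p M B P e T φ)
    {χ : IrrCharacter G} (hχ : χ ∈ B) (ψ : IrrCharacter G) (d : ℕ) :
    ∑ s ∈ T, contrib p d s.1 s.2 χ ψ = if χ = ψ then ((p ^ d : ℕ) : ℂ) else 0 := by
  have hst : CfsgLib.BlockStar.Stable p P e (fun _ => (1 : ℂ)) := fun _ _ _ _ _ _ => rfl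
  have h := classInner_eq_sum_contrib hM hP.pair (fun _ => (1 : ℂ)) hst hT (χ := χ) (ψ := ψ)
    (F := (χ : G → ℂ)) (CfsgLib.Char.IsIrrCharacter.isClassFunction χ.2) d fun z hz s hs => by
      have h1 := sum_blockPart_blocks hM (isClassFunction_translate rfl χ) s
      rw [h1]
      refine Finset.sum_congr rfl fun b _ => ?_
      by_cases hind : IsInducedBlock M (Subgroup.centralizer ({z} : Set G)) b.1 B
      · obtain ⟨g, hg⟩ := exists_conj_sle hP hno
          ((isInducedBlock_singleton_iff hM (isPGroup_zpowers hz) hB b.2).1 hind)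
        rw [CfsgLib.BlockStar.pairVal_eq hst hg, one_mul]
      · obtain ⟨B', hB'⟩ := exists_isInducedBlock_centralizer hM rfl hz b.2
        rw [blockPart_translate_eq_zero hM rfl hz hB' (fun hχ' => hind ?_) hs, mul_zero]
        rwa [IsPBlock.eq_of_mem hB hB'.2.1 hχ hχ']
  rw [CfsgLib.Char.classInner_irrCharacter] at h
  have hp0 : ((p ^ d : ℕ) : ℂ) ≠ 0 :=
    Nat.cast_ne_zero.2 (pow_ne_zero _ (Fact.out : p.Prime).ne_zero)
  rw [eq_inv_mul_iff_mul_eq₀ hp0] at h
  simp only [one_mul] at h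
  rw [← h]
  split_ifs <;> simp

omit [CharP (ResField M) p] in
/-- Distinct subsections have orthogonal contributions. -/
theorem SecData.orth (hM : IsPModular p M) {B : Set (IrrCharacter G)} [Fintype B]
    {P : Subgroup G} {e : MonoidAlgebra (ResField M) G} {T : Finset (Sec G)} {φ : Sec G → G}
    (hT : SecData p M B P e T φ) {s t : Sec G} (hs : s ∈ T) (ht : t ∈ T) (hne : s ≠ t) (d : ℕ)
    (ψ ψ' : IrrCharacter G) :
    ∑ χ ∈ B.toFinset, contrib p d s.1 s.2 χ ψ * conj (contrib p d t.1 t.2 χ ψ') = 0 := by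
  refine sum_contrib_mul_conj_ne hM (hT.pelem s hs) (hT.pelem t ht) (hT.induced s hs)
    (hT.induced t ht).1 ?_ d ψ ψ'
  by_cases h : IsConj s.1 t.1
  · obtain ⟨x, b⟩ := s
    obtain ⟨y, c⟩ := t
    obtain rfl : x = y := hT.reps _ hs _ ht h
    exact Or.inr ⟨rfl, fun hbc => hne (Sigma.ext rfl hbc)⟩
  · exact Or.inl h

end CfsgLib.QuatBlocks
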