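import Cfsg.Agent.Lib.QuatBlocks.CombBasic
import Mathlib.LinearAlgebra.Matrix.DotProduct
import Mathlib.LinearAlgebra.Matrix.ToLin
import Mathlib.LinearAlgebra.Trace
import Mathlib.Analysis.Complex.Basic

/-!
# Orthogonal projections and the matrices they span
-/

set_option autoImplicit false
set_option maxHeartbeats 1600000

open Finset Matrix
open scoped Classical ComplexConjugate

namespace CfsgLib.QuatBlocks

universe u v

variable {ι : Type u} [Fintype ι] {κ : Type v} [Fintype κ]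

/-- A complete family of orthogonal self-adjoint projections. -/
structure Proj (ι : Type u) [Fintype ι] (κ : Type v) [Fintype κ] where
  P : κ → Matrix ι ι ℂ
  herm : ∀ s x y, conj (P s x y) = P s y x
  sum_one : ∀ x y, ∑ s, P s x y = if x = y then 1 else 0
  orth : ∀ s t, s ≠ t → ∀ x z, ∑ y, P s x y * P t y z = 0

namespace Proj

variable (pr : Proj ι κ)

theorem sum_eq : ∑ s, pr.P s = 1 := by
  ext x y
  rw [Matrix.sum_apply, pr.sum_one, Matrix.one_apply]

theorem mul_eq (s t : κ) : pr.P s * pr.P t = if s = t then pr.P s else 0 := by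
  have horth : ∀ a b, a ≠ b → pr.P a * pr.P b = 0 := fun a b hab => by
    ext x z; exact pr.orth a b hab x z
  split_ifs with hst
  · subst hst
    conv_rhs => rw [← mul_one (pr.P s), ← pr.sum_eq, Finset.mul_sum]
    rw [Finset.sum_eq_single s (fun b _ hb => horth s b (Ne.symm hb))
      (fun h => absurd (Finset.mem_univ s) h)]
  · exact horth s t hst

/-- The combination of the projections with given coefficients. -/
noncomputable def F (g : κ → ℂ) : Matrix ι ι ℂ := ∑ s, g s • pr.P s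

theorem F_mul (g g' : κ → ℂ) : pr.F g * pr.F g' = pr.F (g * g') := by
  simp only [F, Finset.sum_mul, Finset.mul_sum, Matrix.smul_mul, Matrix.mul_smul, pr.mul_eq,
    smul_ite, smul_zero, Finset.sum_ite_eq', Finset.mem_univ, if_true]
  refine Finset.sum_congr rfl fun s _ => ?_
  rw [Pi.mul_apply, smul_smul, mul_comm]

theorem F_apply (g : κ → ℂ) (x y : ι) : pr.F g x y = ∑ s, g s * pr.P s x y := by
  simp [F, Matrix.sum_apply]

theorem F_mul_P (g : κ → ℂ) (t : κ) : pr.F g * pr.P t = g t • pr.P t := by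
  simp only [F, Finset.sum_mul, Matrix.smul_mul, pr.mul_eq, smul_ite, smul_zero,
    Finset.sum_ite_eq', Finset.mem_univ, if_true]

theorem P_mul_F (g : κ → ℂ) (t : κ) : pr.P t * pr.F g = g t • pr.P t := by
  simp only [F, Finset.mul_sum, Matrix.mul_smul, pr.mul_eq, smul_ite, smul_zero,
    Finset.sum_ite_eq, Finset.mem_univ, if_true]

/-- An integral vector over the complex numbers. -/
def cv (v : ι → ℤ) : ι → ℂ := fun x => (v x : ℂ)

/-- The square length of a projection of a vector. -/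
noncomputable def Q (s : κ) (v : ι → ℤ) : ℝ := ∑ x, Complex.normSq ((pr.P s *ᵥ cv v) x)

theorem Q_nonneg (s : κ) (v : ι → ℤ) : 0 ≤ pr.Q s v :=
  Finset.sum_nonneg fun _ _ => Complex.normSq_nonneg _

theorem Q_eq_zero {s : κ} {v : ι → ℤ} (h : pr.Q s v = 0) : pr.P s *ᵥ cv v = 0 := by
  funext x
  exact Complex.normSq_eq_zero.1
    ((Finset.sum_eq_zero_iff_of_nonneg fun _ _ => Complex.normSq_nonneg _).1 h x (mem_univ x))

theorem cv_dot_P (s : κ) (v : ι → ℤ) : cv v ⬝ᵥ (pr.P s *ᵥ cv v) = (pr.Q s v : ℂ) := by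
  conv_lhs => rw [← (show pr.P s * pr.P s = pr.P s by rw [pr.mul_eq, if_pos rfl]),
    ← Matrix.mulVec_mulVec, Matrix.dotProduct_mulVec]
  rw [dotProduct, Q, Complex.ofReal_sum]
  refine Finset.sum_congr rfl fun x _ => ?_
  rw [Complex.normSq_eq_conj_mul_self]
  congr 1
  simp only [Matrix.vecMul, Matrix.mulVec, dotProduct, map_sum, map_mul, cv, map_intCast, pr.herm]
  exact Finset.sum_congr rfl fun y _ => mul_comm _ _

theorem cv_dot_F (g : κ → ℂ) (v : ι → ℤ) :
    cv v ⬝ᵥ (pr.F g *ᵥ cv v) = ∑ s, g s * (pr.Q s v : ℂ) := by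
  simp only [F, Matrix.sum_mulVec, Matrix.smul_mulVec, dotProduct_sum, dotProduct_smul,
    pr.cv_dot_P, smul_eq_mul]

theorem dot_self (v : ι → ℤ) : ((Comb.dot v v : ℤ) : ℂ) = ∑ s, (pr.Q s v : ℂ) := by
  have h := pr.cv_dot_F (fun _ => 1) v
  have h1 : pr.F (fun _ => 1) = 1 := by simp [F, pr.sum_eq]
  rw [h1, Matrix.one_mulVec] at h
  simp only [one_mul] at h
  rw [← h]
  simp [Comb.dot, dotProduct, cv]

theorem P_diag (s : κ) (x : ι) :
    pr.P s x x = ((∑ y, Complex.normSq (pr.P s y x) : ℝ) : ℂ) := by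
  rw [Complex.ofReal_sum]
  have h := congrFun (congrFun (show pr.P s * pr.P s = pr.P s by rw [pr.mul_eq, if_pos rfl]) x) x
  rw [Matrix.mul_apply] at h
  rw [← h]
  refine Finset.sum_congr rfl fun y _ => ?_
  rw [Complex.normSq_eq_conj_mul_self, pr.herm]

theorem P_diag_nonneg (s : κ) (x : ι) : 0 ≤ (pr.P s x x).re := by
  rw [pr.P_diag, Complex.ofReal_re]
  exact Finset.sum_nonneg fun _ _ => Complex.normSq_nonneg _

theorem P_diag_re (s : κ) (x : ι) : ((pr.P s x x).re : ℂ) = pr.P s x x := by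
  rw [pr.P_diag, Complex.ofReal_re]

theorem sum_diag (x : ι) : ∑ s, (pr.P s x x).re = 1 := by
  rw [← Complex.re_sum, pr.sum_one, if_pos rfl, Complex.one_re]

variable {c : κ → ℝ} {M : ι → ι → ℤ}

/-- The eigenvalues give the bounds and the fixed space of an integral matrix. -/
structure Eigen (pr : Proj ι κ) (c : κ → ℝ) (M : ι → ι → ℤ) (o z : κ) : Prop where
  cast : ∀ x y, (M x y : ℂ) = pr.F (fun s => (c s : ℂ)) x y
  c_one : c o = 2
  c_z : c z = -2
  lt : ∀ s, s ≠ o → s ≠ z → -2 < c s ∧ c s < 2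

namespace Eigen

variable {pr} {o z : κ} (E : Eigen pr c M o z)

include E

theorem mat : (Matrix.of fun x y => (M x y : ℂ)) = pr.F (fun s => (c s : ℂ)) := by
  ext x y; exact E.cast x y

theorem cv_app (v : ι → ℤ) : cv (Comb.app M v) = pr.F (fun s => (c s : ℂ)) *ᵥ cv v := by
  funext x
  simp only [cv, Comb.app, Matrix.mulVec, dotProduct, Int.cast_sum, Int.cast_mul, E.cast]

theorem bound (s : κ) : -2 ≤ c s ∧ c s ≤ 2 := by
  rcases eq_or_ne s o with rfl | h1
  · rw [E.c_one]; norm_num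
  rcases eq_or_ne s z with rfl | h2
  · rw [E.c_z]; norm_num
  exact ⟨(E.lt s h1 h2).1.le, (E.lt s h1 h2).2.le⟩

theorem eq_one_of_two {s : κ} (h : c s = 2) : s = o := by
  by_contra h1
  rcases eq_or_ne s z with rfl | h2
  · rw [E.c_z] at h; norm_num at h
  exact (E.lt s h1 h2).2.ne h

theorem M_symm (x y : ι) : M x y = M y x := by
  have h : ((M x y : ℤ) : ℂ) = ((M y x : ℤ) : ℂ) := by
    have h1 := congrArg conj (E.cast x y)
    rw [map_intCast, pr.F_apply, map_sum] at h1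
    rw [h1, E.cast, pr.F_apply]
    exact Finset.sum_congr rfl fun s _ => by rw [map_mul, Complex.conj_ofReal, pr.herm]
  exact_mod_cast h

theorem dot_app (v : ι → ℤ) :
    ((Comb.dot v (Comb.app M v) : ℤ) : ℝ) = ∑ s, c s * pr.Q s v := by
  refine Complex.ofReal_injective ?_
  rw [Complex.ofReal_intCast, Complex.ofReal_sum]
  simp only [Complex.ofReal_mul]
  rw [← pr.cv_dot_F, ← E.cv_app]
  simp [Comb.dot, dotProduct, cv]

theorem dot_app_app (v : ι → ℤ) :
    ((Comb.dot (Comb.app M v) (Comb.app M v) : ℤ) : ℝ) = ∑ s, c s ^ 2 * pr.Q s v := by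
  have h : Comb.dot (Comb.app M v) (Comb.app M v) =
      Comb.dot v (Comb.app M (Comb.app M v)) := by
    have hadj : ∀ w : ι → ℤ, Comb.dot (Comb.app M v) w = Comb.dot v (Comb.app M w) := by
      intro w
      simp only [Comb.dot, Comb.app, Finset.mul_sum, Finset.sum_mul]
      rw [Finset.sum_comm]
      exact Finset.sum_congr rfl fun a _ => Finset.sum_congr rfl fun b _ => by
        rw [E.M_symm b a]; ring
    exact hadj _
  rw [h]
  refine Complex.ofReal_injective ?_
  rw [Complex.ofReal_intCast, Complex.ofReal_sum]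
  have h2 : ∑ s, ((c s ^ 2 * pr.Q s v : ℝ) : ℂ) =
      cv v ⬝ᵥ (pr.F ((fun s => (c s : ℂ)) * fun s => (c s : ℂ)) *ᵥ cv v) := by
    rw [pr.cv_dot_F]
    exact Finset.sum_congr rfl fun s _ => by rw [Pi.mul_apply]; push_cast; ring
  rw [h2, ← pr.F_mul, ← Matrix.mulVec_mulVec, ← E.cv_app, ← E.cv_app]
  simp [Comb.dot, dotProduct, cv]

theorem dot_self' (v : ι → ℤ) : ((Comb.dot v v : ℤ) : ℝ) = ∑ s, pr.Q s v := by
  refine Complex.ofReal_injective ?_
  rw [Complex.ofReal_intCast, Complex.ofReal_sum]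
  exact pr.dot_self v

theorem le_two (v : ι → ℤ) : Comb.dot v (Comb.app M v) ≤ 2 * Comb.dot v v := by
  have h : ((Comb.dot v (Comb.app M v) : ℤ) : ℝ) ≤ ((2 * Comb.dot v v : ℤ) : ℝ) := by
    push_cast
    rw [E.dot_app, E.dot_self', Finset.mul_sum]
    exact Finset.sum_le_sum fun s _ => mul_le_mul_of_nonneg_right (E.bound s).2 (pr.Q_nonneg s v)
  exact_mod_cast h

theorem ge_two (v : ι → ℤ) : -2 * Comb.dot v v ≤ Comb.dot v (Comb.app M v) := by
  have h : ((-2 * Comb.dot v v : ℤ) : ℝ) ≤ ((Comb.dot v (Comb.app M v) : ℤ) : ℝ) := by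
    push_cast
    rw [E.dot_app, E.dot_self', Finset.mul_sum]
    exact Finset.sum_le_sum fun s _ => mul_le_mul_of_nonneg_right (E.bound s).1 (pr.Q_nonneg s v)
  exact_mod_cast h

theorem le_four (v : ι → ℤ) :
    Comb.dot (Comb.app M v) (Comb.app M v) ≤ 4 * Comb.dot v v := by
  have h : ((Comb.dot (Comb.app M v) (Comb.app M v) : ℤ) : ℝ) ≤ ((4 * Comb.dot v v : ℤ) : ℝ) := by
    push_cast
    rw [E.dot_app_app, E.dot_self', Finset.mul_sum]
    refine Finset.sum_le_sum fun s _ => mul_le_mul_of_nonneg_right ?_ (pr.Q_nonneg s v)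
    have := E.bound s
    nlinarith
  exact_mod_cast h

omit E in
theorem P_eq_zero_of_sum {f : κ → ℝ} (hf : ∀ s, 0 ≤ f s) {v : ι → ℤ}
    (h : ∑ s, f s * pr.Q s v = 0) {s : κ} (hs : f s ≠ 0) : pr.P s *ᵥ cv v = 0 :=
  pr.Q_eq_zero ((mul_eq_zero.1 ((Finset.sum_eq_zero_iff_of_nonneg fun t _ =>
    mul_nonneg (hf t) (pr.Q_nonneg t v)).1 h s (mem_univ s))).resolve_left hs)

omit E in
theorem F_mulVec_eq {g : κ → ℂ} {a : ℂ} {v : ι → ℂ}
    (h : ∀ s, g s ≠ a → pr.P s *ᵥ v = 0) : pr.F g *ᵥ v = a • v := by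
  conv_rhs => rw [← Matrix.one_mulVec v, ← pr.sum_eq, Matrix.sum_mulVec, Finset.smul_sum]
  simp only [F, Matrix.sum_mulVec, Matrix.smul_mulVec]
  refine Finset.sum_congr rfl fun s _ => ?_
  by_cases hs : g s = a
  · rw [hs]
  · rw [h s hs, smul_zero, smul_zero]

theorem eq_two (v : ι → ℤ) (h : Comb.dot v (Comb.app M v) = 2 * Comb.dot v v) (x : ι) :
    Comb.app M v x = 2 * v x := by
  have h0 : ∑ s, (2 - c s) * pr.Q s v = 0 := by
    simp only [sub_mul, Finset.sum_sub_distrib, ← Finset.mul_sum, ← E.dot_app, ← E.dot_self', h]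
    push_cast
    ring
  have h1 : pr.F (fun s => (c s : ℂ)) *ᵥ cv v = (2 : ℂ) • cv v := F_mulVec_eq fun s hs =>
    P_eq_zero_of_sum (fun t => sub_nonneg.2 (E.bound t).2) h0 fun h2 => hs (by
      rw [← sub_eq_zero.1 h2]; norm_num)
  rw [← E.cv_app] at h1
  have h2 := congrFun h1 x
  simp only [cv, Pi.smul_apply, smul_eq_mul] at h2
  exact_mod_cast h2

theorem eq_four (v : ι → ℤ)
    (h : Comb.dot (Comb.app M v) (Comb.app M v) = 4 * Comb.dot v v) (x : ι) :
    Comb.app M (Comb.app M v) x = 4 * v x := by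
  have h0 : ∑ s, (4 - c s ^ 2) * pr.Q s v = 0 := by
    simp only [sub_mul, Finset.sum_sub_distrib, ← Finset.mul_sum, ← E.dot_app_app,
      ← E.dot_self', h]
    push_cast
    ring
  have h1 : pr.F ((fun s => (c s : ℂ)) * fun s => (c s : ℂ)) *ᵥ cv v = (4 : ℂ) • cv v :=
    F_mulVec_eq fun s hs => P_eq_zero_of_sum
      (fun t => by have := E.bound t; nlinarith) h0 fun h2 => hs (by
        rw [Pi.mul_apply, ← Complex.ofReal_mul, ← sq, ← sub_eq_zero.1 h2]; norm_num)
  rw [← pr.F_mul, ← Matrix.mulVec_mulVec, ← E.cv_app, ← E.cv_app] at h1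
  have h2 := congrFun h1 x
  simp only [cv, Pi.smul_apply, smul_eq_mul] at h2
  exact_mod_cast h2

theorem fixed_P {w : ι → ℂ} (h : pr.F (fun s => (c s : ℂ)) *ᵥ w = (2 : ℂ) • w) :
    pr.P o *ᵥ w = w := by
  have hz : ∀ s, s ≠ o → pr.P s *ᵥ w = 0 := by
    intro s hs
    have h1 := congrArg (fun u => pr.P s *ᵥ u) h
    simp only [Matrix.mulVec_mulVec, pr.P_mul_F, Matrix.smul_mulVec, Matrix.mulVec_smul] at h1
    rw [← sub_eq_zero, ← sub_smul, smul_eq_zero] at h1
    refine h1.resolve_left fun h2 => hs (E.eq_one_of_two ?_)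
    exact_mod_cast (sub_eq_zero.1 h2)
  conv_rhs => rw [← Matrix.one_mulVec w, ← pr.sum_eq, Matrix.sum_mulVec,
    Finset.sum_eq_single o (fun s _ hs => hz s hs) (fun h => absurd (mem_univ o) h)]

/-- The fixed space is the image of the first projection. -/
theorem finrank_ker : (Module.finrank ℂ (Comb.kerTwo M) : ℂ) = ∑ x, pr.P o x x := by
  set f := Matrix.toLin' (pr.P o) with hf
  have hproj : LinearMap.IsProj (Comb.kerTwo M) f := by
    refine ⟨fun w => ?_, fun w hw => ?_⟩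
    · rw [Comb.mem_kerTwo]
      intro x
      have h1 : pr.F (fun s => (c s : ℂ)) *ᵥ (pr.P o *ᵥ w) = (2 : ℂ) • (pr.P o *ᵥ w) := by
        rw [Matrix.mulVec_mulVec, pr.F_mul_P, Matrix.smul_mulVec, E.c_one]
        norm_num
      have h2 := congrFun h1 x
      rw [hf, Matrix.toLin'_apply]
      simpa [Matrix.mulVec, dotProduct, ← E.cast] using h2
    · rw [hf, Matrix.toLin'_apply]
      refine E.fixed_P (funext fun x => ?_)
      have h1 := Comb.mem_kerTwo.1 hw x
      simpa [Matrix.mulVec, dotProduct, ← E.cast] using h1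
  rw [← hproj.trace, hf, Matrix.trace_toLin'_eq]
  rfl

variable {A : ι → ι → ℤ} {N : ℤ} (hA : ∀ x y, (A x y : ℂ) = (N : ℂ) * pr.P o x y)

include hA

theorem MA (z₀ x : ι) : Comb.app M (fun y => A y z₀) x = 2 * A x z₀ := by
  have h : ((Comb.app M (fun y => A y z₀) x : ℤ) : ℂ) = ((2 * A x z₀ : ℤ) : ℂ) := by
    simp only [Comb.app, Int.cast_sum, Int.cast_mul, Int.cast_ofNat, hA, E.cast]
    have h1 := congrFun (congrFun (pr.F_mul_P (fun s => (c s : ℂ)) o) x) z₀
    simp only [Matrix.mul_apply, Matrix.smul_apply, smul_eq_mul] at h1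
    rw [E.c_one] at h1
    rw [show ∑ y, pr.F (fun s => (c s : ℂ)) x y * ((N : ℂ) * pr.P o y z₀) =
      (N : ℂ) * ∑ y, pr.F (fun s => (c s : ℂ)) x y * pr.P o y z₀ by
        rw [Finset.mul_sum]; exact Finset.sum_congr rfl fun y _ => by ring, h1]
    push_cast
    ring
  exact_mod_cast h

omit E in
theorem AA (z₀ x : ι) : Comb.app A (fun y => A y z₀) x = N * A x z₀ := by
  have h : ((Comb.app A (fun y => A y z₀) x : ℤ) : ℂ) = ((N * A x z₀ : ℤ) : ℂ) := by
    simp only [Comb.app, Int.cast_sum, Int.cast_mul, hA]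
    have h1 := congrFun (congrFun (show pr.P o * pr.P o = pr.P o by
      rw [pr.mul_eq, if_pos rfl]) x) z₀
    rw [Matrix.mul_apply] at h1
    conv_rhs => rw [← h1]
    simp only [Finset.mul_sum]
    exact Finset.sum_congr rfl fun y _ => by ring
  exact_mod_cast h

omit E in
theorem A_symm (x y : ι) : A x y = A y x := by
  have h : ((A x y : ℤ) : ℂ) = ((A y x : ℤ) : ℂ) := by
    have h1 := congrArg conj (hA x y)
    rw [map_intCast, map_mul, map_intCast, pr.herm, ← hA] at h1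
    exact h1
  exact_mod_cast h

theorem fixed (v : ι → ℤ) (h : ∀ x, Comb.app M v x = 2 * v x) (x : ι) :
    Comb.app A v x = N * v x := by
  have h1 : pr.F (fun s => (c s : ℂ)) *ᵥ cv v = (2 : ℂ) • cv v := by
    rw [← E.cv_app]
    funext y
    simp [cv, h y]
  have h2 := congrFun (E.fixed_P h1) x
  have h3 : ((Comb.app A v x : ℤ) : ℂ) = ((N * v x : ℤ) : ℂ) := by
    simp only [Comb.app, Int.cast_sum, Int.cast_mul, hA]
    simp only [Matrix.mulVec, dotProduct, cv] at h2
    conv_rhs => rw [← h2]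
    rw [Finset.mul_sum]
    exact Finset.sum_congr rfl fun y _ => by ring
  exact_mod_cast h3

end Eigen

end Proj

end CfsgLib.QuatBlocks
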