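import Cfsg.Agent.Lib.QuatBlocks.Orbit
import Cfsg.Agent.Lib.QuatBlocks.AMatrix
import Cfsg.Agent.Lib.QuatBlocks.Rank
import Cfsg.Agent.Lib.QuatBlocks.Spectral
import Cfsg.Agent.Lib.QuatBlocks.EtaSums

/-!
# The projections attached to the subsections
-/

set_option autoImplicit false
set_option maxHeartbeats 1600000
set_option synthInstance.maxHeartbeats 400000

open scoped ComplexConjugate Classical
open Cfsg CfsgLib.Blocks CfsgLib.Blocks.Pairs CfsgLib.BlockRank CfsgLib.DihBlocks Finset Matrix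

namespace CfsgLib.QuatBlocks

universe u

variable {G : Type u} [Group G] [Fintype G]

/-- A block with quaternion defect group and everything chosen for it. -/
structure Setup (M : Ideal AlgInt) [M.IsMaximal] [CharP (ResField M) 2]
    (B : Set (IrrCharacter G)) [Fintype B] where
  D : Subgroup G
  x : G
  y : G
  h : ℕ
  m : ℕ
  d : ℕ
  e : MonoidAlgebra (ResField M) G
  T : Finset (Sec G)
  φ : Sec G → G
  ζ : ℂ
  hM : IsPModular 2 M
  hB : IsPBlock M B
  hQ : Quat D x y h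
  hiso : Nonempty (D ≃* QuaternionGroup h)
  hP : PairOf 2 (ebar hB) D e
  hno : NoExt 2 D e
  hT : SecData 2 M B D e T φ
  hζ : IsPrimitiveRoot ζ (2 * h)
  hm : h = 2 * m
  hd : 2 ^ d = 4 * h
  hdef : blockDefect 2 B = d

variable {M : Ideal AlgInt} [M.IsMaximal] [CharP (ResField M) 2] {B : Set (IrrCharacter G)}
  [Fintype B]

namespace Setup

variable (S : Setup M B)

theorem one_le_h : 1 ≤ S.h := le_trans one_le_two S.hQ.two_le

theorem one_le_m : 1 ≤ S.m := by have := S.hQ.two_le; have := S.hm; omega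

theorem half : S.h / 2 = S.m := by have := S.hm; omega

/-- The index of a subsection. -/
noncomputable def ix (s : S.T) : ℕ := idx S.x S.h (S.φ s.1)

theorem ix_le (s : S.T) : S.ix s ≤ S.h := S.hQ.idx_le _

theorem two_pow_ne : ((2 ^ S.d : ℕ) : ℂ) ≠ 0 := Nat.cast_ne_zero.2 (pow_ne_zero _ two_ne_zero)

/-- The projections. -/
noncomputable def pr : Proj ↥B ↥S.T where
  P s := Matrix.of fun χ ψ =>
    ((2 ^ S.d : ℕ) : ℂ)⁻¹ * contrib 2 S.d s.1.1 s.1.2 (χ : IrrCharacter G) (ψ : IrrCharacter G)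
  herm s χ ψ := by
    simp only [Matrix.of_apply, map_mul, map_inv₀, map_natCast, conj_contrib]
  sum_one χ ψ := by
    simp only [Matrix.of_apply, ← Finset.mul_sum]
    rw [Finset.sum_coe_sort S.T
      (fun s => contrib 2 S.d s.1 s.2 (χ : IrrCharacter G) (ψ : IrrCharacter G)),
      sum_contrib_eq S.hM S.hB S.hP S.hno S.hT χ.2 (ψ : IrrCharacter G) S.d]
    by_cases hχψ : χ = ψ
    · subst hχψ; rw [if_pos rfl, if_pos rfl, inv_mul_cancel₀ S.two_pow_ne]
    · rw [if_neg (fun h => hχψ (Subtype.ext h)), if_neg hχψ, mul_zero]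
  orth s t hst χ ψ := by
    have h1 := SecData.orth S.hM S.hT s.2 t.2 (fun h => hst (Subtype.ext h)) S.d
      (χ : IrrCharacter G) (ψ : IrrCharacter G)
    have h2 := congrArg conj h1
    simp only [map_sum, map_mul, Complex.conj_conj, map_zero, conj_contrib] at h2
    simp only [Matrix.of_apply]
    rw [Finset.sum_congr rfl (g := fun η : B => ((2 ^ S.d : ℕ) : ℂ)⁻¹ * ((2 ^ S.d : ℕ) : ℂ)⁻¹ *
        (contrib 2 S.d s.1.1 s.1.2 (χ : IrrCharacter G) (η : IrrCharacter G) *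
          contrib 2 S.d t.1.1 t.1.2 (η : IrrCharacter G) (ψ : IrrCharacter G)))
        fun η _ => by ring, ← Finset.mul_sum,
      ← Finset.sum_subtype B.toFinset (fun η => Set.mem_toFinset)
        (fun η => contrib 2 S.d s.1.1 s.1.2 (χ : IrrCharacter G) η *
          contrib 2 S.d t.1.1 t.1.2 η (ψ : IrrCharacter G)), h2, mul_zero]

theorem P_apply (s : S.T) (χ ψ : B) : S.pr.P s χ ψ =
    ((2 ^ S.d : ℕ) : ℂ)⁻¹ * contrib 2 S.d s.1.1 s.1.2 (χ : IrrCharacter G) (ψ : IrrCharacter G) :=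
  rfl

theorem exists_ix {i : ℕ} (hi : i ≤ S.h) : ∃ s : S.T, S.ix s = i := by
  obtain ⟨s, hs, h⟩ := S.hQ.exists_sec S.hM S.hP S.hno S.hT hi
  exact ⟨⟨s, hs⟩, h⟩

theorem ix_inj {s t : S.T} (h : S.ix s = S.ix t) (hne : S.ix s ≠ S.m) : s = t :=
  Subtype.ext (S.hQ.sec_unique S.hP S.hT s.2 t.2 h (by rw [S.half]; exact hne))

/-- The subsection at the identity. -/
noncomputable def o : S.T := (S.exists_ix (Nat.zero_le S.h)).choose

/-- The subsection at the involution. -/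
noncomputable def z : S.T := (S.exists_ix (le_refl S.h)).choose

theorem ix_o : S.ix S.o = 0 := (S.exists_ix (Nat.zero_le S.h)).choose_spec

theorem ix_z : S.ix S.z = S.h := (S.exists_ix (le_refl S.h)).choose_spec

theorem eq_o {s : S.T} (h : S.ix s = 0) : s = S.o :=
  S.ix_inj (h.trans S.ix_o.symm) (by have := S.one_le_m; omega)

theorem eq_z {s : S.T} (h : S.ix s = S.h) : s = S.z :=
  S.ix_inj (h.trans S.ix_z.symm) (by have := S.one_le_m; have := S.hm; omega)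

/-- The eigenvalues of the matrix of the natural character. -/
noncomputable def c (s : S.T) : ℝ := (eta S.ζ 1 (S.ix s)).re

theorem cast_c (s : S.T) : (S.c s : ℂ) = eta S.ζ 1 (S.ix s) := eta_re _ _ _

theorem exists_M : ∃ M' : B → B → ℤ, ∀ χ ψ : B,
    (M' χ ψ : ℂ) = S.pr.F (fun s => (S.c s : ℂ)) χ ψ := by
  have hst : CfsgLib.BlockStar.Stable 2 S.D S.e (natChar S.x S.h S.ζ) :=
    stable_of_fus fun u v huv => by
      simp only [natChar, S.hQ.idx_fus S.hM S.hP S.hno huv]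
  choose M' hM' using fun χ ψ : B => exists_int_sum_contrib S.hM S.hB S.hP S.hno
    (natChar S.x S.h S.ζ) hst (S.hQ.natChar_isGeneralized S.hζ) S.hT χ.2
    (ψ : IrrCharacter G) S.d
  refine ⟨M', fun χ ψ => ?_⟩
  rw [← hM', S.pr.F_apply, Finset.mul_sum, ← Finset.sum_coe_sort S.T]
  refine Finset.sum_congr rfl fun s _ => ?_
  rw [S.cast_c, S.P_apply, natChar, ix]
  ring

/-- The matrix of the natural character. -/
noncomputable def mat : B → B → ℤ := S.exists_M.choose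

theorem eigen : S.pr.Eigen S.c S.mat S.o S.z := by
  refine ⟨S.exists_M.choose_spec, ?_, ?_, fun s hso hsz => ?_⟩
  · rw [c, S.ix_o, eta_comm, eta_zero]; norm_num
  · rw [c, S.ix_z, eta_comm, eta_h S.one_le_h S.hζ odd_one]; norm_num
  · refine eta_re_lt S.hζ (Nat.pos_of_ne_zero fun h => hso (S.eq_o h)) ?_
    exact lt_of_le_of_ne (S.ix_le s) fun h => hsz (S.eq_z h)

theorem phi_o : S.φ S.o.1 = 1 := S.hQ.idx_eq_zero (S.hT.mem _ S.o.2) S.ix_o

/-- The scaled first projection is an integral matrix. -/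
theorem exists_A : ∃ A : B → B → ℤ, ∀ χ ψ : B,
    (A χ ψ : ℂ) = ((4 * S.h : ℕ) : ℤ) * S.pr.P S.o χ ψ ∧
    (2 : ℤ) ^ blockHeight 2 B ((χ : IrrCharacter G) : G → ℂ) ∣ A χ ψ ∧
    (blockHeight 2 B ((ψ : IrrCharacter G) : G → ℂ) ≠ 0 →
      (2 : ℤ) ^ (blockHeight 2 B ((χ : IrrCharacter G) : G → ℂ) + 1) ∣ A χ ψ) ∧
    (blockHeight 2 B ((ψ : IrrCharacter G) : G → ℂ) = 0 →
      ¬ (2 : ℤ) ^ (blockHeight 2 B ((χ : IrrCharacter G) : G → ℂ) + 1) ∣ A χ ψ) ∧
    (χ = ψ → 0 < A χ ψ) := by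
  obtain ⟨A, hA⟩ := exists_regMatrix S.hM S.hB
  refine ⟨fun χ ψ => A χ ψ, fun χ ψ => ?_⟩
  obtain ⟨h1, h2, h3, h4, h5⟩ := hA χ χ.2 ψ ψ.2
  refine ⟨?_, h2, h3, h4, fun h => h5 (congrArg Subtype.val h)⟩
  have hs1 : S.o.1.1 = 1 := orderOf_eq_one_iff.1 (by
    rw [← S.hT.orderOf_eq S.o.2, S.phi_o, orderOf_one])
  rw [h1, S.P_apply, contrib_central S.hM S.hB (hs1.symm ▸ one_mem _) (S.hT.pelem _ S.o.2)
    (S.hT.induced _ S.o.2) S.d χ.2 ψ.2, Int.cast_natCast, ← S.hd, S.hdef, hs1,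
    div_self (CfsgLib.Char.IsIrrCharacter.apply_one_ne_zero (χ : IrrCharacter G).2),
    div_self (CfsgLib.Char.IsIrrCharacter.apply_one_ne_zero (ψ : IrrCharacter G).2), map_one,
    one_mul, one_mul, ← mul_assoc ((2 ^ S.d : ℕ) : ℂ)⁻¹, inv_mul_cancel₀ S.two_pow_ne, one_mul]

theorem trace_o : ∑ χ : B, S.pr.P S.o χ χ = (blockRank 2 B : ℂ) := by
  simp only [S.P_apply, ← Finset.mul_sum]
  rw [← Finset.sum_subtype B.toFinset (fun η => Set.mem_toFinset)
      (fun η => contrib 2 S.d S.o.1.1 S.o.1.2 η η),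
    sum_contrib_self S.hM rfl (S.hT.pelem _ S.o.2) (S.hT.induced _ S.o.2),
    S.hT.rank_one S.o.2 S.phi_o, ← mul_assoc, inv_mul_cancel₀ S.two_pow_ne, one_mul]

theorem finrank_ker : Module.finrank ℂ (Comb.kerTwo S.mat) = blockRank 2 B := by
  have h := S.eigen.finrank_ker
  rw [S.trace_o] at h
  exact_mod_cast h

include S in
theorem card : Fintype.card B = blockRank 2 B + 2 * S.m + 2 := by
  rw [← Nat.card_eq_fintype_card, S.hQ.card_eq_rank_add S.hM S.hP S.hno S.hT S.hiso, S.hm]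

include S in
theorem one_le_rank : 1 ≤ blockRank 2 B := by
  obtain ⟨χ, hχ⟩ := CfsgLib.BlockReg.block_nonempty S.hM S.hB
  obtain ⟨A, hA⟩ := S.exists_A
  have hpos : ∀ η : B, 0 < A η η := fun η => (hA η η).2.2.2.2 rfl
  by_contra hcon
  have h0 : ((∑ η : B, A η η : ℤ) : ℂ) = 0 := by
    rw [Int.cast_sum, Finset.sum_congr rfl fun η _ => (hA η η).1, ← Finset.mul_sum, S.trace_o,
      show blockRank 2 B = 0 by omega]
    simp
  have h1 : 0 < ∑ η : B, A η η :=
    Finset.sum_pos (fun η _ => hpos η) ⟨⟨χ, hχ⟩, Finset.mem_univ _⟩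
  rw [Int.cast_eq_zero] at h0
  omega

/-- The column vector at an element of the defect group. -/
noncomputable def cvec (u : G) : B → ℂ := fun χ => col M S.D S.e u χ

theorem col_of_ix {s : S.T} {i : ℕ} (hs : S.ix s = i) (hi : i ≠ S.m) :
    (∀ χ, col M S.D S.e (S.φ s.1) χ = col M S.D S.e (S.x ^ i) χ) ∧
      colNorm M S.D S.e B (S.φ s.1) = colNorm M S.D S.e B (S.x ^ i) := by
  have hsx := S.hQ.mem_zpowers_of_idx (show idx S.x S.h (S.φ s.1) ≠ S.h / 2 by
    rw [S.half, show idx S.x S.h (S.φ s.1) = i from hs]; exact hi)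
  have key : ∀ χ, col M S.D S.e (S.φ s.1) χ = col M S.D S.e (S.x ^ i) χ := by
    intro χ
    rcases S.hQ.idx_spec hsx with h1 | h1 <;> rw [h1, show idx S.x S.h (S.φ s.1) = i from hs]
    exact S.hQ.col_conj_y (hB := S.hB) S.hP (Subgroup.npow_mem_zpowers S.x i) χ
  exact ⟨key, by simp only [colNorm, key]⟩

theorem two_lt {s : S.T} (h0 : S.ix s ≠ 0) (hh : S.ix s ≠ S.h) : 2 < orderOf (S.φ s.1) :=
  S.hQ.two_lt_orderOf (S.hT.mem _ s.2) h0 hh

/-- A projection of rank one through its column. -/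
theorem P_col {s : S.T} (h0 : S.ix s ≠ 0) (hh : S.ix s ≠ S.h) (χ ψ : B) :
    S.pr.P s χ ψ * colNorm M S.D S.e B (S.φ s.1) =
      col M S.D S.e (S.φ s.1) χ * conj (col M S.D S.e (S.φ s.1) ψ) := by
  rw [S.P_apply, mul_assoc,
    S.hQ.contrib_sec S.hM S.hP S.hno S.hT s.2 (S.two_lt h0 hh) S.d, ← mul_assoc,
    inv_mul_cancel₀ S.two_pow_ne, one_mul]

theorem P_fix {s : S.T} (h0 : S.ix s ≠ 0) (hh : S.ix s ≠ S.h) :
    S.pr.P s *ᵥ S.cvec (S.φ s.1) = S.cvec (S.φ s.1) := by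
  funext χ
  have hN := colNorm_ne_zero S.hM S.hB S.hP (S.hT.mem _ s.2)
  refine mul_right_cancel₀ hN ?_
  simp only [Matrix.mulVec, dotProduct, Finset.sum_mul, cvec]
  rw [Finset.sum_congr rfl (g := fun ψ : B => col M S.D S.e (S.φ s.1) χ *
      (col M S.D S.e (S.φ s.1) ψ * conj (col M S.D S.e (S.φ s.1) ψ))) fun ψ _ => by
    rw [mul_right_comm, S.P_col h0 hh]; ring]
  rw [← Finset.mul_sum, ← Finset.sum_subtype B.toFinset (fun η => Set.mem_toFinset)
    (fun η => col M S.D S.e (S.φ s.1) η * conj (col M S.D S.e (S.φ s.1) η))]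
  rfl

theorem F_col {s : S.T} (h0 : S.ix s ≠ 0) (hh : S.ix s ≠ S.h) (g : S.T → ℂ) :
    S.pr.F g *ᵥ S.cvec (S.φ s.1) = g s • S.cvec (S.φ s.1) := by
  conv_lhs => rw [← S.P_fix h0 hh, Matrix.mulVec_mulVec, S.pr.F_mul_P, Matrix.smul_mulVec,
    S.P_fix h0 hh]

/-- The diagonal entry of a projection of rank one. -/
theorem P_diag_col {s : S.T} (h0 : S.ix s ≠ 0) (hh : S.ix s ≠ S.h) (χ : B) :
    (S.pr.P s χ χ).re * (colNorm M S.D S.e B (S.φ s.1)).re =
      Complex.normSq (col M S.D S.e (S.φ s.1) χ) := by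
  have h := congrArg Complex.re (S.P_col h0 hh χ χ)
  rw [Complex.mul_conj, Complex.ofReal_re] at h
  rw [← h, Complex.mul_re, show (S.pr.P s χ χ).im = 0 by
    rw [S.pr.P_diag]; exact Complex.ofReal_im _, zero_mul, sub_zero]

/-- The total of the diagonal entries with a given index. -/
noncomputable def pd (i : ℕ) (χ : B) : ℝ :=
  ∑ s ∈ Finset.univ.filter (fun s : S.T => S.ix s = i), (S.pr.P s χ χ).re

theorem pd_nonneg (i : ℕ) (χ : B) : 0 ≤ S.pd i χ :=
  Finset.sum_nonneg fun s _ => S.pr.P_diag_nonneg s χ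

theorem pd_single {s : S.T} {i : ℕ} (hs : S.ix s = i) (hi : i ≠ S.m) (χ : B) :
    S.pd i χ = (S.pr.P s χ χ).re := by
  refine Finset.sum_eq_single_of_mem s (Finset.mem_filter.2 ⟨Finset.mem_univ _, hs⟩)
    fun t ht hts => ?_
  have ht' := (Finset.mem_filter.1 ht).2
  exact absurd (S.ix_inj (ht'.trans hs.symm) (ht' ▸ hi)) hts

theorem le_pd_half {s : S.T} (hs : S.ix s = S.m) (χ : B) : (S.pr.P s χ χ).re ≤ S.pd S.m χ :=
  Finset.single_le_sum (fun t _ => S.pr.P_diag_nonneg t χ)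
    (Finset.mem_filter.2 ⟨Finset.mem_univ _, hs⟩)

theorem sum_ix (f : ℕ → ℝ) (χ : B) :
    ∑ s : S.T, f (S.ix s) * (S.pr.P s χ χ).re =
      ∑ i ∈ Finset.range (S.h + 1), f i * S.pd i χ := by
  rw [← Finset.sum_fiberwise_of_maps_to (g := S.ix) (t := Finset.range (S.h + 1))
    fun s _ => Finset.mem_range.2 (Nat.lt_succ_of_le (S.ix_le s))]
  refine Finset.sum_congr rfl fun i _ => ?_
  rw [pd, Finset.mul_sum]
  exact Finset.sum_congr rfl fun s hs => by rw [(Finset.mem_filter.1 hs).2]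

theorem sum_pd (χ : B) : ∑ i ∈ Finset.range (S.h + 1), S.pd i χ = 1 := by
  have h := S.sum_ix (fun _ => 1) χ
  simp only [one_mul] at h
  rw [← h, S.pr.sum_diag]

end Setup

/-- A quaternion defect group gives the data. -/
theorem exists_setup (hM : IsPModular 2 M) (hB : IsPBlock M B) {D : Subgroup G}
    (hD : IsDefectGroup 2 M B D) {n : ℕ} (hn : 3 ≤ n)
    (hq : Nonempty (D ≃* QuaternionGroup (2 ^ (n - 2)))) :
    ∃ S : Setup M B, S.h = 2 ^ (n - 2) := by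
  obtain ⟨x, y, hQ⟩ := exists_quat hn hq
  have hmax := (isDefectGroup_iff_maxR hM hB).1 hD
  obtain ⟨e, hP⟩ := exists_pairOf (isBlockIdem_ebar hB) hmax.pgroup hmax.ne_zero
  have hno := hmax.noExt hP
  obtain ⟨T, φ, hT⟩ := exists_secData hM hB hP hno
  obtain ⟨m, hm, -⟩ := hQ.exists_half
  have hcard := card_defectGroup hM hB hD
  rw [hQ.card] at hcard
  exact ⟨⟨D, x, y, _, m, _, e, T, φ, _, hM, hB, hQ, hq, hP, hno, hT,
    Complex.isPrimitiveRoot_exp (2 * 2 ^ (n - 2)) (mul_ne_zero two_ne_zero (pow_ne_zero _ two_ne_zero)),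
    hm, hcard.symm, rfl⟩, rfl⟩

end CfsgLib.QuatBlocks
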