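import Cfsg.Agent.Lib.QuatBlocks.Setup

/-!
# The top column under the spanned matrices, and the diagonal bounds
-/

set_option autoImplicit false
set_option maxHeartbeats 1600000
set_option synthInstance.maxHeartbeats 400000

open scoped ComplexConjugate Classical
open Cfsg CfsgLib.Blocks CfsgLib.Blocks.Pairs CfsgLib.BlockRank CfsgLib.DihBlocks Finset Matrix

namespace CfsgLib.QuatBlocks

universe u

variable {G : Type u} [Group G] [Fintype G] {M : Ideal AlgInt} [M.IsMaximal]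
  [CharP (ResField M) 2] {B : Set (IrrCharacter G)} [Fintype B]

namespace Setup

variable (S : Setup M B)

theorem exists_top : Nonempty (Quat.Coords M B S.D S.e S.x S.ζ S.m) :=
  S.hQ.exists_coords (hB := S.hB) S.hM S.hP S.hno S.hm S.hζ

/-- The chosen coordinates of the top column. -/
noncomputable def top : Quat.Coords M B S.D S.e S.x S.ζ S.m := S.exists_top.some

/-- The coordinate vectors. -/
noncomputable def b (i : ℕ) (χ : B) : ℤ := S.top.coeff i χ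

theorem sum_B (F : IrrCharacter G → ℤ) : ∑ χ : B, F χ = ∑ χ ∈ B.toFinset, F χ :=
  (Finset.sum_subtype B.toFinset (fun η => Set.mem_toFinset) F).symm

theorem b_top (χ : B) : S.b S.m χ = 0 := S.top.coeff_top _

theorem b_norm_zero : Comb.dot (S.b 0) (S.b 0) = 4 :=
  (sum_B (fun η => S.top.coeff 0 η * S.top.coeff 0 η)).trans S.top.norm_zero

theorem b_norm (i : ℕ) (hi1 : 1 ≤ i) (hi : i < S.m) : Comb.dot (S.b i) (S.b i) = 2 :=
  (sum_B (fun η => S.top.coeff i η * S.top.coeff i η)).trans (S.top.norm_pos i hi1 hi)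

theorem b_orth (i k : ℕ) (hi : i < S.m) (hk : k < S.m) (hne : i ≠ k) :
    Comb.dot (S.b i) (S.b k) = 0 :=
  (sum_B (fun η => S.top.coeff i η * S.top.coeff k η)).trans (S.top.orth i k hi hk hne)

/-- The normalised value of the top column. -/
noncomputable def tv (t : ℕ) (χ : B) : ℂ :=
  (S.b 0 χ : ℂ) + ∑ i ∈ Finset.Ico 1 S.m, (S.b i χ : ℂ) * eta S.ζ i (2 * t + 1)

theorem tv_eq {t : ℕ} (ht : t < S.m) :
    S.cvec (S.x ^ (2 * t + 1)) = (S.top.deg : ℂ) • S.tv t := by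
  funext χ
  exact S.top.value χ χ.2 t (by omega)

theorem odd_ne_m (hev : Even S.m) (t : ℕ) : 2 * t + 1 ≠ S.m := by
  obtain ⟨c, hc⟩ := hev; omega

theorem sec_odd (hev : Even S.m) {t : ℕ} (ht : t < S.m) :
    ∃ s : S.T, S.ix s = 2 * t + 1 ∧ S.ix s ≠ 0 ∧ S.ix s ≠ S.h ∧
      S.cvec (S.φ s.1) = (S.top.deg : ℂ) • S.tv t := by
  have := S.hm
  obtain ⟨s, hs⟩ := S.exists_ix (i := 2 * t + 1) (by omega)
  refine ⟨s, hs, by omega, by omega, ?_⟩
  rw [← S.tv_eq ht]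
  funext χ
  exact (S.col_of_ix hs (S.odd_ne_m hev t)).1 χ

/-- The top column consists of eigenvectors. -/
theorem F_tv (hev : Even S.m) (g : S.T → ℂ) (f : ℕ → ℂ) (hg : ∀ s, g s = f (S.ix s)) {t : ℕ}
    (ht : t < S.m) : S.pr.F g *ᵥ S.tv t = f (2 * t + 1) • S.tv t := by
  obtain ⟨s, hs, h0, hh, hv⟩ := S.sec_odd hev ht
  have h := S.F_col h0 hh g
  rw [hv, Matrix.mulVec_smul, hg, hs, smul_comm] at h
  exact smul_right_injective (B → ℂ) (Nat.cast_ne_zero.2 S.top.deg_pos.ne') h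

theorem F_tv_apply (hev : Even S.m) (g : S.T → ℂ) (f : ℕ → ℂ) (hg : ∀ s, g s = f (S.ix s))
    (χ : B) {t : ℕ} (ht : t < S.m) :
    (S.pr.F g *ᵥ Proj.cv (S.b 0)) χ +
        ∑ i ∈ Finset.Ico 1 S.m, (S.pr.F g *ᵥ Proj.cv (S.b i)) χ * eta S.ζ i (2 * t + 1) =
      f (2 * t + 1) * S.tv t χ := by
  have h := congrFun (S.F_tv hev g f hg ht) χ
  rw [Pi.smul_apply, smul_eq_mul] at h
  rw [← h]
  have hlin : S.tv t = Proj.cv (S.b 0) +
      ∑ i ∈ Finset.Ico 1 S.m, eta S.ζ i (2 * t + 1) • Proj.cv (S.b i) := by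
    funext η
    simp only [tv, Proj.cv, Pi.add_apply, Finset.sum_apply, Pi.smul_apply, smul_eq_mul, mul_comm]
  rw [hlin, Matrix.mulVec_add, Matrix.mulVec_sum, Pi.add_apply, Finset.sum_apply]
  simp only [Matrix.mulVec_smul, Pi.smul_apply, smul_eq_mul, mul_comm]

/-- The constant coefficient of a combination of the half basis. -/
theorem extract_zero (U : ℕ → ℂ) (R : ℕ → ℂ)
    (hR : ∀ t < S.m, U 0 + ∑ i ∈ Finset.Ico 1 S.m, U i * eta S.ζ i (2 * t + 1) = R t) :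
    (S.m : ℂ) * U 0 = ∑ t ∈ Finset.range S.m, R t := by
  rw [← Finset.sum_congr rfl fun t ht => hR t (Finset.mem_range.1 ht), Finset.sum_add_distrib,
    Finset.sum_comm]
  simp only [Finset.sum_const, Finset.card_range, nsmul_eq_mul, ← Finset.mul_sum]
  rw [Finset.sum_eq_zero (s := Finset.Ico 1 S.m) fun i hi => ?_, add_zero]
  obtain ⟨h1, h2⟩ := Finset.mem_Ico.1 hi
  rw [sum_one_half S.hζ S.hm h1 (by have := S.hm; omega), mul_zero]

/-- The other coefficients of a combination of the half basis. -/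
theorem extract_pos (U : ℕ → ℂ) (R : ℕ → ℂ) {j : ℕ} (hj1 : 1 ≤ j) (hj : j < S.m)
    (hR : ∀ t < S.m, U 0 + ∑ i ∈ Finset.Ico 1 S.m, U i * eta S.ζ i (2 * t + 1) = R t) :
    (S.h : ℂ) * U j = ∑ t ∈ Finset.range S.m, eta S.ζ j (2 * t + 1) * R t := by
  rw [Finset.sum_congr rfl fun t ht => by rw [← hR t (Finset.mem_range.1 ht)]]
  simp only [mul_add, Finset.mul_sum, Finset.sum_add_distrib]
  rw [Finset.sum_comm, ← Finset.sum_mul, sum_one_half S.hζ S.hm hj1 (by have := S.hm; omega),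
    zero_mul, zero_add, Finset.sum_eq_single j]
  · rw [Finset.sum_congr rfl (g := fun t => U j * (eta S.ζ j (2 * t + 1) * eta S.ζ j (2 * t + 1)))
      fun t _ => by ring, ← Finset.mul_sum, sum_sq_half S.hζ S.hm hj1 hj]
    ring
  · intro i hi hij
    obtain ⟨h1, h2⟩ := Finset.mem_Ico.1 hi
    rw [Finset.sum_congr rfl (g := fun t => U i * (eta S.ζ i (2 * t + 1) * eta S.ζ j (2 * t + 1)))
      fun t _ => by ring, ← Finset.mul_sum, sum_mul_half S.hζ S.hm h1 h2 hj1 hj, if_neg hij,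
      mul_zero]
  · exact fun h => absurd (Finset.mem_Ico.2 ⟨hj1, hj⟩) h

/-- A combination of the half basis vanishes only trivially. -/
theorem coeff_zero (U : ℕ → ℂ)
    (hU : ∀ t < S.m, U 0 + ∑ i ∈ Finset.Ico 1 S.m, U i * eta S.ζ i (2 * t + 1) = 0)
    {j : ℕ} (hj : j < S.m) : U j = 0 := by
  rcases Nat.eq_zero_or_pos j with rfl | hj1
  · have h := S.extract_zero U (fun _ => 0) hU
    rw [Finset.sum_const_zero] at h
    exact (mul_eq_zero.1 h).resolve_left (Nat.cast_ne_zero.2 (by omega))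
  · have h := S.extract_pos U (fun _ => 0) hj1 hj hU
    simp only [mul_zero, Finset.sum_const_zero] at h
    exact (mul_eq_zero.1 h).resolve_left
      (Nat.cast_ne_zero.2 (by have := S.one_le_h; omega))

theorem mat_b (hev : Even S.m) (χ : B) :
    Comb.app S.mat (S.b 0) χ = 2 * S.b 1 χ ∧
      ∀ j, 1 ≤ j → j < S.m → Comb.app S.mat (S.b j) χ = S.b (j - 1) χ + S.b (j + 1) χ := by
  have hm1 := S.one_le_m
  let tgt : ℕ → ℂ := fun i => if i = 0 then 2 * (S.b 1 χ : ℂ)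
    else (S.b (i - 1) χ : ℂ) + (S.b (i + 1) χ : ℂ)
  let U : ℕ → ℂ := fun i => (Comb.app S.mat (S.b i) χ : ℂ) - tgt i
  have hU : ∀ t < S.m, U 0 + ∑ i ∈ Finset.Ico 1 S.m, U i * eta S.ζ i (2 * t + 1) = 0 := by
    intro t ht
    have h1 := S.F_tv_apply hev (fun s => (S.c s : ℂ)) (fun i => eta S.ζ 1 i)
      (fun s => S.cast_c s) χ ht
    simp only [← S.eigen.cv_app, Proj.cv] at h1
    obtain ⟨n, hn⟩ : ∃ n, S.m = n + 1 := ⟨S.m - 1, by omega⟩
    have h2 := eta_one_mul_sum S.one_le_h S.hζ (fun i => (S.b i χ : ℂ)) (2 * t + 1) n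
    rw [← hn, show (S.b S.m χ : ℂ) = 0 by rw [S.b_top, Int.cast_zero],
      eta_eq_zero S.one_le_h S.hm S.hζ (i := S.m) (k := 2 * t + 1)
        ⟨2 * t + 1, odd_two_mul_add_one t, rfl⟩, zero_mul, mul_zero, add_zero, add_zero] at h2
    simp only [tv] at h1
    rw [h2] at h1
    have hT : ∑ i ∈ Finset.Ico 1 S.m, tgt i * eta S.ζ i (2 * t + 1) =
        ∑ i ∈ Finset.Ico 1 S.m, ((S.b (i - 1) χ : ℂ) + (S.b (i + 1) χ : ℂ)) *
          eta S.ζ i (2 * t + 1) :=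
      Finset.sum_congr rfl fun i hi => by
        simp only [tgt, if_neg (show i ≠ 0 by have := (Finset.mem_Ico.1 hi).1; omega)]
    simp only [U, sub_mul, Finset.sum_sub_distrib, hT]
    simp only [tgt, if_pos]
    linear_combination h1
  refine ⟨?_, fun j hj1 hj => ?_⟩
  · have h := S.coeff_zero U hU (show 0 < S.m by omega)
    simp only [U, tgt, if_pos, sub_eq_zero] at h
    exact_mod_cast h
  · have h := S.coeff_zero U hU hj
    simp only [U, tgt, if_neg (show j ≠ 0 by omega), sub_eq_zero] at h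
    exact_mod_cast h

include S in
theorem height_zero {χ : B} (h0 : blockHeight 2 B ((χ : IrrCharacter G) : G → ℂ) = 0) :
    (charDegree ((χ : IrrCharacter G) : G → ℂ)).factorization 2 =
      CfsgLib.BlockReg.minExp 2 B := by
  rw [CfsgLib.BlockReg.blockHeight_eq] at h0
  have := CfsgLib.BlockReg.minExp_le (p := 2) χ.2
  omega

theorem b_odd {χ : B} (h0 : blockHeight 2 B ((χ : IrrCharacter G) : G → ℂ) = 0) :
    Odd (S.b 0 χ) := S.top.odd χ χ.2 (S.height_zero h0)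

/-- The top diagonal entries. -/
theorem pd_odd (hev : Even S.m) {t : ℕ} (ht : t < S.m) (χ : B) :
    S.pd (2 * t + 1) χ = (S.tv t χ * S.tv t χ).re / (4 * S.m) := by
  obtain ⟨s, hs, h0, hh, hv⟩ := S.sec_odd hev ht
  rw [S.pd_single hs (S.odd_ne_m hev t)]
  have h := S.P_diag_col h0 hh χ
  have hm4 : (4 * (S.m : ℝ)) ≠ 0 := by have := S.one_le_m; positivity
  have hd : (S.top.deg : ℝ) ≠ 0 := Nat.cast_ne_zero.2 S.top.deg_pos.ne'
  rw [(S.col_of_ix hs (S.odd_ne_m hev t)).2, S.top.norm t (by omega)] at h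
  rw [show col M S.D S.e (S.φ s.1) χ = _ from congrFun hv χ, Pi.smul_apply, smul_eq_mul] at h
  have hreal : conj (S.tv t χ) = S.tv t χ := by
    simp only [tv, map_add, map_sum, map_mul, map_intCast, conj_eta]
  have hnsq : Complex.normSq (S.tv t χ) = (S.tv t χ * S.tv t χ).re := by
    rw [← Complex.ofReal_re (Complex.normSq (S.tv t χ)), ← Complex.mul_conj, hreal]
  rw [map_mul, Complex.normSq_natCast, hnsq,
    show ((S.top.deg : ℂ) ^ 2 * ((4 * S.m : ℕ) : ℂ)).re =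
      (S.top.deg : ℝ) * (S.top.deg : ℝ) * (4 * S.m) by
      rw [show (S.top.deg : ℂ) ^ 2 * ((4 * S.m : ℕ) : ℂ) =
        (((S.top.deg : ℝ) * (S.top.deg : ℝ) * (4 * S.m) : ℝ) : ℂ) by push_cast; ring,
        Complex.ofReal_re]] at h
  rw [eq_div_iff hm4]
  refine mul_left_cancel₀ (mul_ne_zero hd hd) ?_
  linear_combination h

theorem sum_tv_sq (χ : B) :
    ∑ t ∈ Finset.range S.m, S.tv t χ * S.tv t χ =
      (S.m : ℂ) * (Comb.topSum S.m S.b χ : ℤ) := by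
  have hexp : ∀ t, S.tv t χ * S.tv t χ = (S.b 0 χ : ℂ) * (S.b 0 χ : ℂ) +
      (2 * (S.b 0 χ : ℂ) * ∑ i ∈ Finset.Ico 1 S.m, (S.b i χ : ℂ) * eta S.ζ i (2 * t + 1)) +
      ∑ i ∈ Finset.Ico 1 S.m, ∑ k ∈ Finset.Ico 1 S.m,
        (S.b i χ : ℂ) * (S.b k χ : ℂ) * (eta S.ζ i (2 * t + 1) * eta S.ζ k (2 * t + 1)) := by
    intro t
    simp only [tv]
    rw [show ∀ a c : ℂ, (a + c) * (a + c) = a * a + 2 * a * c + c * c from fun a c => by ring,
      Finset.sum_mul_sum]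
    congr 1
    exact Finset.sum_congr rfl fun i _ => Finset.sum_congr rfl fun k _ => by ring
  simp only [hexp, Finset.sum_add_distrib, Finset.sum_const, Finset.card_range, nsmul_eq_mul]
  rw [← Finset.mul_sum, Finset.sum_comm,
    Finset.sum_eq_zero (s := Finset.Ico 1 S.m) fun i hi => by
      rw [← Finset.mul_sum, sum_one_half S.hζ S.hm (Finset.mem_Ico.1 hi).1
        (by have := (Finset.mem_Ico.1 hi).2; have := S.hm; omega), mul_zero],
    mul_zero, add_zero, Finset.sum_comm,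
    Finset.sum_congr rfl (g := fun i => (S.h : ℂ) * (S.b i χ : ℂ) ^ 2) fun i hi => ?_,
    Comb.topSum]
  · push_cast
    rw [← Finset.mul_sum, S.hm]
    push_cast
    ring
  · rw [Finset.sum_comm, Finset.sum_eq_single i]
    · rw [← Finset.mul_sum, sum_sq_half S.hζ S.hm (Finset.mem_Ico.1 hi).1 (Finset.mem_Ico.1 hi).2]
      ring
    · intro k hk hki
      rw [← Finset.mul_sum, sum_mul_half S.hζ S.hm (Finset.mem_Ico.1 hi).1 (Finset.mem_Ico.1 hi).2
        (Finset.mem_Ico.1 hk).1 (Finset.mem_Ico.1 hk).2, if_neg (Ne.symm hki), mul_zero]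
    · exact fun h => absurd hi h

theorem sum_pd_odd (hev : Even S.m) (χ : B) :
    ∑ t ∈ Finset.range S.m, S.pd (2 * t + 1) χ = (Comb.topSum S.m S.b χ : ℝ) / 4 := by
  rw [Finset.sum_congr rfl fun t ht => S.pd_odd hev (Finset.mem_range.1 ht) χ, ← Finset.sum_div,
    ← Complex.re_sum, S.sum_tv_sq]
  have hm : (S.m : ℝ) ≠ 0 := Nat.cast_ne_zero.2 (by have := S.one_le_m; omega)
  rw [show ((S.m : ℂ) * ((Comb.topSum S.m S.b χ : ℤ) : ℂ)).re =
    (S.m : ℝ) * (Comb.topSum S.m S.b χ : ℝ) by simp]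
  field_simp

theorem sum_range_two_mul (f : ℕ → ℝ) (n : ℕ) :
    ∑ i ∈ Finset.range (2 * n), f i = ∑ t ∈ Finset.range n, (f (2 * t) + f (2 * t + 1)) := by
  induction n with
  | zero => simp
  | succ n ih =>
    rw [show 2 * (n + 1) = 2 * n + 1 + 1 by ring, Finset.sum_range_succ, Finset.sum_range_succ,
      Finset.sum_range_succ, ih]
    ring

/-- The total of the diagonal: top, even indices and the involution. -/
theorem sum_split (hev : Even S.m) (χ : B) :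
    (Comb.topSum S.m S.b χ : ℝ) / 4 + ∑ t ∈ Finset.range S.m, S.pd (2 * t) χ + S.pd S.h χ = 1 := by
  have h := S.sum_pd χ
  rw [Finset.sum_range_succ] at h
  conv at h => lhs; arg 1; rw [S.hm, sum_range_two_mul]
  rw [Finset.sum_add_distrib, S.sum_pd_odd hev] at h
  linarith

theorem pd_z_ge {χ : B} (h0 : blockHeight 2 B ((χ : IrrCharacter G) : G → ℂ) = 0) :
    1 / (8 * S.m : ℝ) ≤ S.pd S.h χ := by
  rw [S.pd_single S.ix_z (by have := S.one_le_m; have := S.hm; omega)]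
  have hnn := S.pr.P_diag_nonneg S.z χ
  have h2d : ((2 ^ S.d : ℕ) : ℝ) = 8 * S.m := by rw [S.hd, S.hm]; push_cast; ring
  have hpos : (0 : ℝ) < 8 * S.m := by
    have : (1 : ℝ) ≤ S.m := Nat.one_le_cast.2 S.one_le_m
    linarith
  rw [S.P_apply, show ((2 ^ S.d : ℕ) : ℂ)⁻¹ = (((8 * S.m : ℝ)⁻¹ : ℝ) : ℂ) by
    rw [← h2d]; push_cast; ring, Complex.re_ofReal_mul] at hnn ⊢
  have hc : 0 ≤ (contrib 2 S.d S.z.1.1 S.z.1.2 (χ : IrrCharacter G) (χ : IrrCharacter G)).re :=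
    nonneg_of_mul_nonneg_right hnn (inv_pos.2 hpos)
  have h1 := S.hQ.one_le_contrib_z S.hM S.hP S.hno S.hT S.z.2 S.ix_z S.hd χ.2 (S.height_zero h0) hc
  rw [one_div]
  exact le_mul_of_one_le_right (inv_nonneg.2 hpos.le) h1

/-- A diagonal entry of rank one at a height zero character. -/
theorem orbit_data {e : ℕ} {j : ℕ} (hej : e * 2 ^ j = S.h) (hj : 1 ≤ j) {χ : B}
    (h0 : blockHeight 2 B ((χ : IrrCharacter G) : G → ℂ) = 0) :
    ∃ (γ : ℝ) (N : ℝ), 0 < γ ∧ 0 < N ∧ N ≤ 2 * S.h ∧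
      (∀ t, colNorm M S.D S.e B (S.x ^ (e * (2 * t + 1))) = ((γ * N : ℝ) : ℂ)) ∧
      (∀ t, 0 < Complex.normSq (col M S.D S.e (S.x ^ (e * (2 * t + 1))) χ)) ∧
      ((2 ^ j : ℕ) : ℝ) * γ ≤
        ∑ t ∈ Finset.range (2 ^ j), Complex.normSq (col M S.D S.e (S.x ^ (e * (2 * t + 1))) χ) := by
  have hh := S.one_le_h
  have he : 0 < e := Nat.pos_of_ne_zero (by rintro rfl; omega)
  have hord : orderOf (S.x ^ e) = 2 * 2 ^ j := by
    rw [S.hQ.orderOf_pow_eq ⟨2 * 2 ^ j, by rw [← hej]; ring⟩]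
    exact Nat.div_eq_of_eq_mul_left he (by rw [← hej]; ring)
  have hj2 : 2 ≤ 2 ^ j := le_trans (by norm_num) (Nat.pow_le_pow_right two_pos hj)
  have hζ : IsPrimitiveRoot (Complex.exp (2 * Real.pi * Complex.I / ((2 * 2 ^ j : ℕ) : ℂ)))
      (2 * 2 ^ j) := Complex.isPrimitiveRoot_exp _ (by omega)
  obtain ⟨O⟩ := exists_orbit S.hQ S.hM S.hB S.hP S.hno (pow_mem S.hQ.mem_x e) (by omega)
    (ζ := Complex.exp (2 * Real.pi * Complex.I / ((2 * 2 ^ j : ℕ) : ℂ))) (hord.symm ▸ hζ)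
  refine ⟨(O.deg : ℝ) ^ 2, ((2 ^ O.dft : ℕ) : ℝ), ?_, ?_, ?_, fun t => ?_, fun t => ?_, ?_⟩
  · exact pow_pos (Nat.cast_pos.2 O.deg_pos) 2
  · exact Nat.cast_pos.2 (pow_pos two_pos _)
  · exact_mod_cast O.dft_le
  · rw [pow_mul, O.norm _ (odd_two_mul_add_one t)]
    push_cast
    ring
  · rw [pow_mul]
    exact Complex.normSq_pos.2 (O.value_ne_zero S.hM (by rwa [pow_succ']) χ.2 (S.height_zero h0)
      (odd_two_mul_add_one t))
  · simp only [pow_mul]
    exact O.sum_sq_ge S.hM hζ χ.2 (S.height_zero h0)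

theorem pd_pos {e : ℕ} {j : ℕ} (hej : e * 2 ^ j = S.h) (hj : 2 ≤ j) {χ : B}
    (h0 : blockHeight 2 B ((χ : IrrCharacter G) : G → ℂ) = 0) : 0 < S.pd e χ := by
  obtain ⟨γ, N, hγ, hN, -, hnorm, hne, -⟩ := S.orbit_data hej (by omega) h0
  have h4 : 4 ≤ 2 ^ j := le_trans (by norm_num) (Nat.pow_le_pow_right two_pos hj)
  have he : 0 < e := Nat.pos_of_ne_zero (by rintro rfl; have := S.one_le_h; omega)
  have h4e : e * 4 ≤ S.h := hej ▸ Nat.mul_le_mul_left e h4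
  have := S.hm
  obtain ⟨s, hs⟩ := S.exists_ix (i := e) (by omega)
  have hi : e ≠ S.m := by omega
  rw [S.pd_single hs hi]
  have h := S.P_diag_col (s := s) (by omega) (by omega) χ
  rw [(S.col_of_ix hs hi).2, (S.col_of_ix hs hi).1] at h
  have hn0 := hnorm 0
  have hp := hne 0
  rw [show e * (2 * 0 + 1) = e by ring] at hn0 hp
  rw [hn0, Complex.ofReal_re] at h
  rw [← h] at hp
  exact (mul_pos_iff_of_pos_right (mul_pos hγ hN)).1 hp

/-- The indices of one two-part. -/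
theorem orbit_ge {e : ℕ} {j : ℕ} (hej : e * (2 * 2 ^ j) = S.h) (hj : 1 ≤ j) {χ : B}
    (h0 : blockHeight 2 B ((χ : IrrCharacter G) : G → ℂ) = 0) :
    ((2 ^ j : ℕ) : ℝ) / (2 * S.h) ≤ ∑ t ∈ Finset.range (2 ^ j), S.pd (e * (2 * t + 1)) χ := by
  have he : 0 < e := Nat.pos_of_ne_zero (by rintro rfl; have := S.one_le_h; omega)
  obtain ⟨γ, N, hγ, hN, hNle, hnorm, -, hge⟩ :=
    S.orbit_data (j := j + 1) (e := e) (by rw [pow_succ']; exact hej) (by omega) h0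
  let F : ℕ → ℝ := fun t => Complex.normSq (col M S.D S.e (S.x ^ (e * (2 * t + 1))) χ)
  have hj2 : 2 ≤ 2 ^ j := le_trans (by norm_num) (Nat.pow_le_pow_right two_pos hj)
  have hrefl : ∀ t < 2 * 2 ^ j, F (2 * 2 ^ j - 1 - t) = F t := by
    intro t ht
    have h1 : S.x ^ (e * (2 * (2 * 2 ^ j - 1 - t) + 1)) = (S.x ^ (e * (2 * t + 1)))⁻¹ := by
      refine eq_inv_of_mul_eq_one_left ?_
      rw [← pow_add, ← mul_add,
        show 2 * (2 * 2 ^ j - 1 - t) + 1 + (2 * t + 1) = 2 * (2 * 2 ^ j) by omega,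
        show e * (2 * (2 * 2 ^ j)) = 2 * S.h by rw [← hej]; ring, S.hQ.pow_two_h]
    simp only [F]
    rw [h1, S.hQ.col_conj_y (hB := S.hB) S.hP (Subgroup.npow_mem_zpowers S.x _)]
  have hhalf : ∑ t ∈ Finset.range (2 * 2 ^ j), F t = 2 * ∑ t ∈ Finset.range (2 ^ j), F t := by
    conv_lhs => rw [two_mul, Finset.sum_range_add]
    rw [← Finset.sum_range_reflect (fun t => F (2 ^ j + t)) (2 ^ j), two_mul]
    congr 1
    refine Finset.sum_congr rfl fun t ht => ?_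
    have ht' := Finset.mem_range.1 ht
    rw [show 2 ^ j + (2 ^ j - 1 - t) = 2 * 2 ^ j - 1 - t by omega, hrefl t (by omega)]
  rw [show (2 : ℕ) ^ (j + 1) = 2 * 2 ^ j from pow_succ' 2 j,
    show ∑ t ∈ Finset.range (2 * 2 ^ j),
      Complex.normSq (col M S.D S.e (S.x ^ (e * (2 * t + 1))) χ) =
        2 * ∑ t ∈ Finset.range (2 ^ j), F t from hhalf] at hge
  push_cast at hge
  have hval : ∀ t ∈ Finset.range (2 ^ j), S.pd (e * (2 * t + 1)) χ * (γ * N) = F t := by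
    intro t ht
    have ht' := Finset.mem_range.1 ht
    have hlt : e * (2 * t + 1) < S.h := hej ▸ Nat.mul_lt_mul_of_pos_left (by omega) he
    have hne : e * (2 * t + 1) ≠ S.m := by
      intro hm'
      have h2 : S.m = e * 2 ^ j := by
        have h3 : e * (2 * 2 ^ j) = 2 * (e * 2 ^ j) := by ring
        have := S.hm
        omega
      rw [h2] at hm'
      have h4 := Nat.eq_of_mul_eq_mul_left he hm'
      obtain ⟨c, rfl⟩ : ∃ c, j = c + 1 := ⟨j - 1, by omega⟩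
      rw [pow_succ'] at h4
      omega
    have hpos : 0 < e * (2 * t + 1) := Nat.mul_pos he (by omega)
    obtain ⟨s, hs⟩ := S.exists_ix hlt.le
    rw [S.pd_single hs hne]
    have h := S.P_diag_col (s := s) (by omega) (by omega) χ
    rw [(S.col_of_ix hs hne).2, (S.col_of_ix hs hne).1, hnorm t, Complex.ofReal_re] at h
    exact h
  have hh : (0 : ℝ) < 2 * S.h := by
    have : (1 : ℝ) ≤ S.h := Nat.one_le_cast.2 S.one_le_h
    linarith
  rw [div_le_iff₀ hh]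
  have hsum : (∑ t ∈ Finset.range (2 ^ j), S.pd (e * (2 * t + 1)) χ) * (γ * N) =
      ∑ t ∈ Finset.range (2 ^ j), F t := by
    rw [Finset.sum_mul, Finset.sum_congr rfl hval]
  have hnn : 0 ≤ ∑ t ∈ Finset.range (2 ^ j), S.pd (e * (2 * t + 1)) χ :=
    Finset.sum_nonneg fun t _ => S.pd_nonneg _ χ
  have hcast : ((2 ^ j : ℕ) : ℝ) = (2 : ℝ) ^ j := by push_cast; ring
  rw [hcast]
  refine le_of_mul_le_mul_right ?_ hγ
  calc (2 : ℝ) ^ j * γ ≤ ∑ t ∈ Finset.range (2 ^ j), F t := by linarith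
    _ = (∑ t ∈ Finset.range (2 ^ j), S.pd (e * (2 * t + 1)) χ) * N * γ := by rw [← hsum]; ring
    _ ≤ _ := mul_le_mul_of_nonneg_right (mul_le_mul_of_nonneg_left hNle hnn) hγ.le

theorem lower {χ : B} (h0 : blockHeight 2 B ((χ : IrrCharacter G) : G → ℂ) = 0) :
    ∀ (k e : ℕ), e * (2 * 2 ^ k) = S.h → ((2 * 2 ^ k : ℕ) - 2 : ℝ) / (2 * S.h) ≤
      ∑ i ∈ Finset.range (2 * 2 ^ k), if i = 0 ∨ i = 2 ^ k then 0 else S.pd (e * i) χ := by
  intro k
  induction k with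
  | zero =>
    intro e _
    have : ((2 * 2 ^ 0 : ℕ) : ℝ) = 2 := by norm_num
    rw [this, sub_self, zero_div]
    refine Finset.sum_nonneg fun i _ => ?_
    split_ifs
    exacts [le_rfl, S.pd_nonneg _ χ]
  | succ k ih =>
    intro e he
    rw [sum_range_two_mul, Finset.sum_add_distrib]
    have hev : ∑ t ∈ Finset.range (2 ^ (k + 1)),
        (if 2 * t = 0 ∨ 2 * t = 2 ^ (k + 1) then 0 else S.pd (e * (2 * t)) χ) =
        ∑ i ∈ Finset.range (2 * 2 ^ k), if i = 0 ∨ i = 2 ^ k then 0 else S.pd ((2 * e) * i) χ := by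
      rw [pow_succ' 2 k]
      exact Finset.sum_congr rfl fun t _ =>
        if_congr (by omega) rfl (by rw [mul_left_comm, mul_assoc])
    have hodd : ∑ t ∈ Finset.range (2 ^ (k + 1)),
        (if 2 * t + 1 = 0 ∨ 2 * t + 1 = 2 ^ (k + 1) then 0 else S.pd (e * (2 * t + 1)) χ) =
        ∑ t ∈ Finset.range (2 ^ (k + 1)), S.pd (e * (2 * t + 1)) χ :=
      Finset.sum_congr rfl fun t _ => if_neg (by rw [pow_succ']; omega)
    rw [hev, hodd]
    have h1 := ih (2 * e) (by rw [← he, pow_succ']; ring)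
    have h2 := S.orbit_ge (e := e) (j := k + 1) he (by omega) h0
    have e1 : ((2 * 2 ^ (k + 1) : ℕ) : ℝ) = ((2 * 2 ^ k : ℕ) : ℝ) + ((2 ^ (k + 1) : ℕ) : ℝ) := by
      push_cast; ring
    rw [e1, show ((2 * 2 ^ k : ℕ) : ℝ) + ((2 ^ (k + 1) : ℕ) : ℝ) - 2 =
      (((2 * 2 ^ k : ℕ) : ℝ) - 2) + ((2 ^ (k + 1) : ℕ) : ℝ) by ring, add_div]
    exact add_le_add h1 h2

/-- The middle subsections of order four. -/
theorem pd_m_ge {χ : B} (h0 : blockHeight 2 B ((χ : IrrCharacter G) : G → ℂ) = 0) :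
    1 / (2 * S.h : ℝ) ≤ S.pd S.m χ := by
  obtain ⟨k, hk⟩ := S.hQ.isPow
  obtain ⟨γ, N, hγ, hN, hNle, hnorm, -, hge⟩ := S.orbit_data (e := S.m) (j := 1)
    (by rw [pow_one, mul_comm, ← S.hm]) le_rfl h0
  obtain ⟨s, hsT, hsf⟩ := S.hT.surj (S.x ^ S.m) (pow_mem S.hQ.mem_x _)
  have hi : idx S.x S.h (S.φ s) = S.m :=
    (S.hQ.idx_fus S.hM S.hP S.hno hsf).trans
      (S.hQ.idx_pow (by have := S.hm; omega) (Or.inl rfl))
  refine le_trans ?_ (S.le_pd_half (s := ⟨s, hsT⟩) hi χ)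
  have h := S.P_diag_col (s := ⟨s, hsT⟩) (show idx S.x S.h (S.φ s) ≠ 0 by
      have := S.one_le_m; omega)
    (show idx S.x S.h (S.φ s) ≠ S.h by have := S.one_le_m; have := S.hm; omega) χ
  obtain ⟨g, f, hf1, hgv, hf2⟩ := hsf
  have hcol : ∀ η : IrrCharacter G,
      col M S.D S.e (S.φ s) η = col M S.D S.e (S.x ^ S.m) η := by
    intro η
    have hD := pow_mem S.hQ.mem_x S.m
    obtain rfl := SLE.unique S.hP.pair hf1 (DihBlocks.sle_below S.hP.pair hD)
    have h3 := SLE.unique S.hP.pair hf2 (DihBlocks.sle_below S.hP.pair (S.hT.mem s hsT))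
    rw [col, col, ← h3]
    conv_lhs => rw [← hgv]
    exact colOf_conjA (isBlockIdem_of_pairOf (DihBlocks.pairOf_below S.hP hD)) g η
  have hn0 := hnorm 0
  rw [show S.m * (2 * 0 + 1) = S.m by ring] at hn0
  rw [hcol, show colNorm M S.D S.e B (S.φ s) = colNorm M S.D S.e B (S.x ^ S.m) by
    simp only [colNorm, hcol], hn0, Complex.ofReal_re] at h
  have h1 : S.x ^ (S.m * (2 * 1 + 1)) = (S.x ^ S.m)⁻¹ := by
    refine eq_inv_of_mul_eq_one_left ?_
    rw [← pow_add, show S.m * (2 * 1 + 1) + S.m = 2 * S.h by rw [S.hm]; ring, S.hQ.pow_two_h]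
  rw [show (2 : ℕ) ^ 1 = 1 + 1 from rfl, Finset.sum_range_succ, Finset.sum_range_one, h1,
    S.hQ.col_conj_y (hB := S.hB) S.hP (Subgroup.npow_mem_zpowers S.x _),
    show S.m * (2 * 0 + 1) = S.m by ring] at hge
  push_cast at hge
  have hP : 0 ≤ (S.pr.P ⟨s, hsT⟩ χ χ).re := S.pr.P_diag_nonneg _ χ
  rw [div_le_iff₀ (lt_of_lt_of_le hN hNle)]
  refine le_of_mul_le_mul_right ?_ hγ
  calc 1 * γ ≤ (S.pr.P ⟨s, hsT⟩ χ χ).re * N * γ := by linarith
    _ ≤ _ := mul_le_mul_of_nonneg_right (mul_le_mul_of_nonneg_left hNle hP) hγ.le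

end Setup

end CfsgLib.QuatBlocks
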